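import Mathlib
import Groth.Agent.CotTLib.Basic

/-!
# `T¹` is finite-dimensional for finitely many non-smooth points
-/

universe u

open IsLocalRing

noncomputable section

namespace Groth.Agent.AffDef

variable {k : Type u} [Field k] {B : Type u} [CommRing B] [Algebra k B] {ι σ : Type u} [Finite ι] [Finite σ]
  (P : Algebra.Presentation k B ι σ)

theorem finite_cotangent : Module.Finite B P.toExtension.Cotangent := by
  haveI : Module.Finite B (CotT.L1 P) := Module.Finite.of_basis (CotT.L1basis P)
  exact Module.Finite.of_surjective (CotT.toCot P) (CotTLib.toCot_surjective P)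

theorem finite_T1 [IsNoetherianRing B] (M : Type u) [AddCommGroup M] [Module B M] [Module.Finite B M] :
    Module.Finite B (CotT.T1 P M) :=
  haveI := finite_cotangent P
  Module.Finite.of_surjective (CotT.homToT1 P M) (CotTLib.homToT1_surjective P M)

/-- `T¹` vanishes near smooth points. -/
theorem notMem_support_T1 [IsNoetherianRing B] (p : PrimeSpectrum B) (hp : p ∈ Algebra.smoothLocus k B) :
    p ∉ Module.support B (CotT.T1 P B) := by
  haveI : Algebra.FiniteType k B := by
    haveI := Fintype.ofFinite ι
    exact Algebra.FiniteType.of_surjective (MvPolynomial.aeval (R := k) P.val) (fun b => by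
      obtain ⟨x, rfl⟩ := P.algebraMap_surjective b
      exact ⟨x, (P.algebraMap_apply _).symm⟩)
  rw [Algebra.smoothLocus_eq_compl_support_inter] at hp
  obtain ⟨hH, hfree⟩ := hp
  rw [Module.mem_freeLocus] at hfree
  haveI := finite_cotangent P
  haveI : Module.Free B (CotT.L0 P) := Module.Free.of_basis P.cotangentSpaceBasis
  haveI : Module.Finite B (CotT.L0 P) := Module.Finite.of_basis P.cotangentSpaceBasis
  let S := p.asIdeal.primeCompl
  let C := P.toExtension.Cotangent
  let L := CotT.L0 P
  let d : C →ₗ[B] L := P.toExtension.cotangentComplex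
  let π : L →ₗ[B] Ω[B⁄k] := P.toExtension.toKaehler
  have hex : Function.Exact (LocalizedModule.map S d) (LocalizedModule.map S π) :=
    LocalizedModule.map_exact S d π P.toExtension.exact_cotangentComplex_toKaehler
  have hπs : Function.Surjective (LocalizedModule.map S π) :=
    LocalizedModule.map_surjective S π P.toExtension.toKaehler_surjective
  have hinj : Function.Injective (LocalizedModule.map S d) := by
    rw [injective_iff_map_eq_zero]
    intro z hz
    induction z using LocalizedModule.induction_on with
    | _ m s =>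
      rw [LocalizedModule.map_mk, ← LocalizedModule.zero_mk (1 : S), LocalizedModule.mk_eq] at hz
      obtain ⟨t, ht⟩ := hz
      simp only [one_smul, smul_zero, Submonoid.smul_def, ← map_smul] at ht
      have hmem : p ∉ Module.support B P.toExtension.H1Cotangent := by
        rw [(P.toGenerators.equivH1Cotangent).support_eq]
        exact hH
      rw [Module.notMem_support_iff, LocalizedModule.subsingleton_iff] at hmem
      obtain ⟨r, hr, hr0⟩ := hmem ⟨(t : B) • m, ht⟩
      rw [← LocalizedModule.zero_mk (1 : S), LocalizedModule.mk_eq]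
      refine ⟨⟨r * t, S.mul_mem hr t.2⟩, ?_⟩
      simp only [one_smul, smul_zero, Submonoid.smul_def, mul_smul]
      exact congrArg Subtype.val hr0
  haveI := hfree
  obtain ⟨σ', hσ'⟩ := Module.projective_lifting_property (LocalizedModule.map S π) LinearMap.id hπs
  let e := LinearEquiv.ofInjective (LocalizedModule.map S d) hinj
  have hmem : ∀ y, y - σ' (LocalizedModule.map S π y) ∈ LinearMap.range (LocalizedModule.map S d) := fun y =>
    (hex _).1 (by rw [map_sub, ← LinearMap.comp_apply (LocalizedModule.map S π) σ', hσ', LinearMap.id_apply, sub_self])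
  let r : LocalizedModule S L →ₗ[Localization S] LocalizedModule S L :=
    { toFun := fun y => y - σ' (LocalizedModule.map S π y)
      map_add' := fun y z => by rw [map_add, map_add]; abel
      map_smul' := fun c y => by rw [map_smul, map_smul, RingHom.id_apply, smul_sub] }
  let l := e.symm.toLinearMap.comp (LinearMap.codRestrict _ r hmem)
  have hl : ∀ z, l (LocalizedModule.map S d z) = z := by
    intro z
    change e.symm _ = z
    rw [LinearEquiv.symm_apply_eq]
    refine Subtype.ext ?_
    change LocalizedModule.map S d z - σ' (LocalizedModule.map S π (LocalizedModule.map S d z)) = _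
    rw [hex.apply_apply_eq_zero, map_zero]
    exact sub_zero (LocalizedModule.map S d z)
  rw [Module.notMem_support_iff, LocalizedModule.subsingleton_iff]
  intro c
  obtain ⟨φ, rfl⟩ := CotTLib.homToT1_surjective P B c
  haveI : Module.FinitePresentation B L := Module.finitePresentation_of_finite B (CotT.L0 P)
  let mk := LocalizedModule.mkLinearMap S B
  let g : L →ₗ[B] LocalizedModule S B :=
    ((LocalizedModule.map S φ).comp l).restrictScalars B ∘ₗ LocalizedModule.mkLinearMap S L
  obtain ⟨ψ, s, hψ⟩ := Module.FinitePresentation.exists_lift_of_isLocalizedModule S mk g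
  have hcomp : mk ∘ₗ (ψ ∘ₗ d) = mk ∘ₗ (s • φ) := by
    refine LinearMap.ext fun y => ?_
    change mk (ψ (d y)) = mk (s • φ y)
    have h1 : mk (ψ (d y)) = s • g (d y) := LinearMap.congr_fun hψ (d y)
    rw [h1, Submonoid.smul_def, Submonoid.smul_def, map_smul]
    refine congrArg _ ?_
    change LocalizedModule.map S φ (l (LocalizedModule.mk (d y) 1)) = LocalizedModule.mk (φ y) 1
    rw [← LocalizedModule.map_mk S d y 1, hl, LocalizedModule.map_mk]
  obtain ⟨t, ht⟩ := Module.Finite.exists_smul_of_comp_eq_of_isLocalizedModule S mk (ψ ∘ₗ d) (s • φ) hcomp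
  refine ⟨(t : B) * s, S.mul_mem t.2 s.2, ?_⟩
  rw [← map_smul, CotTLib.homToT1_eq_zero_iff]
  refine ⟨(t : B) • ψ, ?_⟩
  rw [LinearMap.smul_comp, mul_smul]
  exact ht

/-- `T¹` is finite-dimensional when only finitely many primes are not smooth. -/
theorem finite_T1_of_finite_nonsmooth [IsNoetherianRing B] (h : ((Algebra.smoothLocus k B)ᶜ).Finite) :
    Module.Finite k (CotT.T1 P B) := by
  haveI := finite_T1 P B
  haveI : Algebra.FiniteType k B := by
    haveI := Fintype.ofFinite ι
    exact Algebra.FiniteType.of_surjective (MvPolynomial.aeval (R := k) P.val) (fun b => by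
      obtain ⟨x, rfl⟩ := P.algebraMap_surjective b
      exact ⟨x, (P.algebraMap_apply _).symm⟩)
  let J := Module.annihilator B (CotT.T1 P B)
  have hV : (PrimeSpectrum.zeroLocus (J : Set B)).Finite := by
    rw [← Module.support_eq_zeroLocus]
    exact h.subset fun p hp hs => notMem_support_T1 P p hs hp
  have hmax : ∀ q : Ideal B, q.IsPrime → J ≤ q → q.IsMaximal := by
    intro q hq hJq
    haveI : IsJacobsonRing B := isJacobsonRing_of_finiteType (A := k)
    have hM : {m : Ideal B | q ≤ m ∧ m.IsMaximal}.Finite :=
      ((hV.image PrimeSpectrum.asIdeal).subset fun m hm =>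
        ⟨⟨m, hm.2.isPrime⟩, hJq.trans hm.1, rfl⟩)
    have hq' : hM.toFinset.inf id ≤ q := by
      conv_rhs => rw [← hq.radical, ← (IsJacobsonRing.out' q.radical q.radical_isRadical)]
      rw [hq.radical]
      refine le_sInf fun m hm => Finset.inf_le (f := id) (hM.mem_toFinset.2 ⟨hm.1, hm.2⟩)
    obtain ⟨m, hm, hmq⟩ := (hq.inf_le').1 hq'
    rw [hM.mem_toFinset] at hm
    rw [← le_antisymm hmq hm.1]
    exact hm.2
  haveI : IsArtinianRing (B ⧸ J) := by
    rw [isArtinianRing_iff_isNoetherianRing_krullDimLE_zero]
    refine ⟨inferInstance, Ring.KrullDimLE.mk₀ fun q hq => ?_⟩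
    have h1 : (q.comap (Ideal.Quotient.mk J)).IsMaximal :=
      hmax _ inferInstance (fun a ha => by rw [Ideal.mem_comap, Ideal.Quotient.eq_zero_iff_mem.2 ha]; exact zero_mem _)
    have h2 := Ideal.map_eq_top_or_isMaximal_of_surjective (Ideal.Quotient.mk J) Ideal.Quotient.mk_surjective h1
    rw [Ideal.map_comap_of_surjective _ Ideal.Quotient.mk_surjective] at h2
    exact h2.resolve_left hq.ne_top
  haveI : Module.Finite k (B ⧸ J) := (Module.finite_iff_isArtinianRing k (B ⧸ J)).2 inferInstance
  obtain ⟨n, c, hc⟩ := Module.Finite.exists_fin (R := B) (M := CotT.T1 P B)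
  let Φ : (Fin n → B ⧸ J) →ₗ[k] CotT.T1 P B :=
    ∑ i, ((J.liftQ (LinearMap.toSpanSingleton B (CotT.T1 P B) (c i))
      (fun a ha => by
        rw [LinearMap.mem_ker, LinearMap.toSpanSingleton_apply]
        exact Module.mem_annihilator.1 ha _)).restrictScalars k).comp (LinearMap.proj i)
  refine Module.Finite.of_surjective Φ fun x => ?_
  have hx : x ∈ Submodule.span B (Set.range c) := by rw [hc]; trivial
  obtain ⟨a, rfl⟩ := (Submodule.mem_span_range_iff_exists_fun B).1 hx
  refine ⟨fun i => Ideal.Quotient.mk J (a i), ?_⟩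
  rw [LinearMap.sum_apply]
  rfl

end Groth.Agent.AffDef
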