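import Groth.Agent.AffDef.TangentLin
import Groth.Agent.AffDef.T1Finite
import Groth.Agent.DefSchLib.Schlessinger
import Groth.Agent.ArtFunLib.Hull

/-!
# A hull for the deformations of an affine scheme with finitely many non-smooth points
-/

universe u

open CategoryTheory AlgebraicGeometry IsLocalRing Limits ArtFun

noncomputable section

namespace Groth.Agent.AffDef

variable {Λ k : Type u} [CommRing Λ] [Field k] [Algebra Λ k] {B₀ : Type u} [CommRing B₀] [Algebra k B₀]
  {X : Scheme.{u}} {x : X ⟶ Spec (CommRingCat.of k)}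

/-- Changing the closed fibre by an isomorphism and the coefficient ring to the residue field. -/
def transfer {A : Art Λ k} {A' : Art k k} (α : Spec (CommRingCat.of B₀) ≅ X)
    (hα : α.hom ≫ x = Spec.map (CommRingCat.ofHom (algebraMap k B₀))) (s : Art.spec A ≅ Art.spec A')
    (hs : Art.specRes A ≫ s.hom = Art.specRes A') (ξ : DefSch X x A) :
    DefSch (Spec (CommRingCat.of B₀)) (Spec.map (CommRingCat.ofHom (algebraMap k B₀))) A' where
  total := ξ.total
  f := ξ.f ≫ s.hom
  flat := haveI := ξ.flat; inferInstance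
  i := α.hom ≫ ξ.i
  isPullback := by
    have h1 : IsPullback α.hom (Spec.map (CommRingCat.ofHom (algebraMap k B₀))) x (𝟙 _) :=
      IsPullback.of_horiz_isIso ⟨by rw [hα, Category.comp_id]⟩
    have h2 : IsPullback ξ.i x (ξ.f ≫ s.hom) (Art.specRes A') := by
      rw [← hs]
      have h3 : IsPullback (𝟙 ξ.total) ξ.f (ξ.f ≫ s.hom) s.hom :=
        IsPullback.of_horiz_isIso ⟨by rw [Category.id_comp]⟩
      simpa using ξ.isPullback.paste_horiz h3
    simpa using h1.paste_horiz h2

variable (α : Spec (CommRingCat.of B₀) ≅ X) (hα : α.hom ≫ x = Spec.map (CommRingCat.ofHom (algebraMap k B₀)))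

/-- Transfer of classes. -/
def transferCl {A : Art Λ k} {A' : Art k k} (s : Art.spec A ≅ Art.spec A') (hs : Art.specRes A ≫ s.hom = Art.specRes A') :
    (defFunctor (Λ := Λ) X x).obj A → (defF (k := k) B₀).obj A' :=
  Quotient.map' (transfer α hα s hs) fun ξ ξ' ⟨e⟩ =>
    ⟨⟨e.iso, (Category.assoc _ _ _).symm.trans (congrArg (· ≫ s.hom) e.hom_f),
      (Category.assoc _ _ _).trans (congrArg (α.hom ≫ ·) e.i_hom)⟩⟩

theorem bijective_transferCl {A : Art Λ k} {A' : Art k k} (s : Art.spec A ≅ Art.spec A')
    (hs : Art.specRes A ≫ s.hom = Art.specRes A') : Function.Bijective (transferCl α hα s hs) := by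
  refine ⟨fun q q' h => ?_, fun q => ?_⟩
  · induction q using Quotient.inductionOn with
    | _ ξ =>
      induction q' using Quotient.inductionOn with
      | _ ξ' =>
        obtain ⟨e⟩ := Quotient.exact h
        refine Quotient.sound ⟨⟨e.iso, ?_, ?_⟩⟩
        · have := e.hom_f
          change e.iso.hom ≫ ξ'.f ≫ s.hom = ξ.f ≫ s.hom at this
          exact (cancel_mono s.hom).1 ((Category.assoc _ _ _).trans this)
        · have := e.i_hom
          change (α.hom ≫ ξ.i) ≫ e.iso.hom = α.hom ≫ ξ'.i at this
          exact (cancel_epi α.hom).1 ((Category.assoc _ _ _).symm.trans this)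
  · induction q using Quotient.inductionOn with
    | _ η =>
      refine ⟨DefSch.cl
        { total := η.total
          f := η.f ≫ s.inv
          flat := haveI := η.flat; inferInstance
          i := α.inv ≫ η.i
          isPullback := ?_ }, ?_⟩
      · have h1 : IsPullback α.inv x (Spec.map (CommRingCat.ofHom (algebraMap k B₀))) (𝟙 _) :=
          IsPullback.of_horiz_isIso ⟨by rw [← hα, Iso.inv_hom_id_assoc, Category.comp_id]⟩
        have h2 : IsPullback η.i (Spec.map (CommRingCat.ofHom (algebraMap k B₀))) (η.f ≫ s.inv) (Art.specRes A) := by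
          have h3 : IsPullback (𝟙 η.total) η.f (η.f ≫ s.inv) s.inv :=
            IsPullback.of_horiz_isIso ⟨by rw [Category.id_comp]⟩
          have h4 := η.isPullback.paste_horiz h3
          rw [← hs, Category.comp_id, Category.assoc, Iso.hom_inv_id, Category.comp_id] at h4
          exact h4
        simpa using h1.paste_horiz h2
      · refine Quotient.sound ⟨⟨CategoryTheory.Iso.refl _, ?_, ?_⟩⟩
        · exact ((Category.id_comp _).trans ((Category.assoc _ _ _).trans
            ((congrArg (η.f ≫ ·) s.inv_hom_id).trans (Category.comp_id _)))).symm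
        · exact (Category.comp_id _).trans (α.hom_inv_id_assoc _)

/-- The two dual numbers have the same spectrum. -/
def sD1 : Art.spec (Art.dual Λ k) ≅ Art.spec (D1 k) := CategoryTheory.Iso.refl (Art.spec (D1 k))

/-- Likewise for `k[ε₁, ε₂]`. -/
def sD2 : Art.spec (Art.dual2 Λ k) ≅ Art.spec (D2 k) := CategoryTheory.Iso.refl (Art.spec (D2 k))

/-- The transfer at the dual numbers. -/
def transfer1 : (defFunctor (Λ := Λ) X x).obj (Art.dual Λ k) → (defF (k := k) B₀).obj (D1 k) :=
  transferCl α hα sD1 (Category.comp_id _)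

/-- The transfer at `k[ε₁, ε₂]`. -/
def transfer2 : (defFunctor (Λ := Λ) X x).obj (Art.dual2 Λ k) → (defF (k := k) B₀).obj (D2 k) :=
  transferCl α hα sD2 (Category.comp_id _)

lemma transferCl_map {A C : Art Λ k} {A' C' : Art k k} (s : Art.spec A ≅ Art.spec A')
    (hs : Art.specRes A ≫ s.hom = Art.specRes A') (t : Art.spec C ≅ Art.spec C')
    (ht : Art.specRes C ≫ t.hom = Art.specRes C') (g : A ⟶ C) (g' : A' ⟶ C')
    (hg : t.hom ≫ Art.specMap g' = Art.specMap g ≫ s.hom) (u : (defFunctor (Λ := Λ) X x).obj A) :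
    transferCl α hα t ht ((defFunctor X x).map g u) = (defF (k := k) B₀).map g' (transferCl α hα s hs u) := by
  induction u using Quotient.inductionOn with
  | _ ξ =>
    refine Quotient.sound ⟨?_⟩
    let ψ : (transfer α hα t ht (ξ.baseChange g)).total ⟶ ((transfer α hα s hs ξ).baseChange g').total :=
      pullback.lift (pullback.fst ξ.f (Art.specMap g)) (pullback.snd ξ.f (Art.specMap g) ≫ t.hom) (by
        change pullback.fst ξ.f (Art.specMap g) ≫ ξ.f ≫ s.hom = _
        rw [pullback.condition_assoc, Category.assoc, hg]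
        rfl)
    refine DefSchLib.isoOfHom ψ (pullback.lift_snd _ _ _) ?_
    apply pullback.hom_ext
    · rw [Category.assoc, pullback.lift_fst, DefSch.baseChange_i_fst]
      exact (Category.assoc _ _ _).trans (congrArg (α.hom ≫ ·) (DefSch.baseChange_i_fst ξ g))
    · rw [Category.assoc, pullback.lift_snd]
      exact ((transfer α hα t ht (ξ.baseChange g)).i_f).trans
        (DefSch.baseChange_i_f (transfer α hα s hs ξ) g').symm

variable {ι σ : Type u} [Fintype σ] (P : Algebra.Presentation k B₀ ι σ)

/-- The tangent space is `T¹`. -/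
def tangentEquiv : (defFunctor (Λ := Λ) X x).obj (Art.dual Λ k) ≃ CotT.T1 P B₀ :=
  Equiv.ofBijective (t1 P ∘ transfer1 α hα)
    ((bijective_t1 P).comp (bijective_transferCl α hα _ _))

lemma tangentEquiv_scale (c : k) (u : (defFunctor (Λ := Λ) X x).obj (Art.dual Λ k)) :
    tangentEquiv α hα P ((defFunctor X x).map (Art.scale c) u) = c • tangentEquiv α hα P u := by
  refine Eq.trans ?_ (t1_scale P c (transfer1 α hα u))
  exact congrArg (t1 P) (transferCl_map α hα (A := Art.dual Λ k) (C := Art.dual Λ k) (A' := D1 k) (C' := D1 k)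
    sD1 _ sD1 _ (Art.scale c) (Art.scale c) ((Category.id_comp _).trans (Category.comp_id _).symm) u)

lemma tangentEquiv_plus (z : (defFunctor (Λ := Λ) X x).obj (Art.dual2 Λ k)) :
    tangentEquiv α hα P ((defFunctor X x).map Art.pr₁ z) + tangentEquiv α hα P ((defFunctor X x).map Art.pr₂ z)
      = tangentEquiv α hα P ((defFunctor X x).map Art.plus z) := by
  have key : ∀ (g : Art.dual2 Λ k ⟶ Art.dual Λ k) (g' : D2 k ⟶ D1 k), (Art.specMap g' = (Art.specMap g : Art.spec (Art.dual Λ k) ⟶ Art.spec (Art.dual2 Λ k))) →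
      tangentEquiv α hα P ((defFunctor X x).map g z) = t1 P ((defF (k := k) B₀).map g' (transfer2 α hα z)) :=
    fun g g' hg => congrArg (t1 P) (transferCl_map α hα (A := Art.dual2 Λ k) (C := Art.dual Λ k) (A' := D2 k)
      (C' := D1 k) sD2 (Category.comp_id _) sD1 (Category.comp_id _)
      g g' ((Category.id_comp _).trans (hg.trans (Category.comp_id _).symm)) z)
  rw [key Art.pr₁ Art.pr₁ rfl, key Art.pr₂ Art.pr₂ rfl, key Art.plus Art.plus rfl]
  exact t1_plus P _

include α hα in
theorem hasHull [IsNoetherianRing Λ] [Module.Finite Λ k] (hk : Function.Surjective (algebraMap Λ k))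
    [Module.Finite k (CotT.T1 P B₀)] : HasHull (defFunctor (Λ := Λ) X x) := by
  let E := tangentEquiv (Λ := Λ) α hα P
  letI : AddCommGroup ((defFunctor (Λ := Λ) X x).obj (Art.dual Λ k)) := E.addCommGroup
  letI : Module k ((defFunctor (Λ := Λ) X x).obj (Art.dual Λ k)) := E.module k
  letI T : TangentStr (defFunctor (Λ := Λ) X x) :=
    { addCommGroup := E.addCommGroup
      module := E.module k
      smul_eq := fun c u => by
        apply E.injective
        rw [Equiv.smul_def, E.apply_symm_apply]
        exact (tangentEquiv_scale α hα P c u).symm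
      add_eq := fun z => by
        apply E.injective
        rw [Equiv.add_def, E.apply_symm_apply]
        exact tangentEquiv_plus α hα P z }
  refine ArtFunLib.hasHull_of_s1_heps_hfin (DefSchLib.h0_defFunctor X x) (DefSchLib.s1_defFunctor X x)
    (DefSchLib.heps_defFunctor X x) ?_ (ArtFunLib.seesDerivations_of_surjective hk)
  exact Module.Finite.equiv (E.linearEquiv k).symm

end Groth.Agent.AffDef
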