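import Mathlib
import Groth.Agent.S0440

/-!
# Deformations of affine schemes are affine

A scheme `Y` over `Spec A` with special fibre `Spec B₀` (over a surjection `e : A → k` with nilpotent kernel)
is `Spec B`, with `B → B₀` surjective with kernel `(ker e) B`.
-/

universe u

open CategoryTheory AlgebraicGeometry Limits

noncomputable section

namespace Groth.Agent.AffDef

variable {A K B B₀ : Type u} [CommRing A] [CommRing K] [CommRing B] [CommRing B₀]

/-- `B → B₀` is the base change of `φ : A → B` along a surjection `e` when its kernel is generated by that of `e`. -/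
theorem isPushout_of_ker (e : A →+* K) (he : Function.Surjective e) (φ : A →+* B) (π : B →+* B₀) (ι : K →+* B₀)
    (hπ : Function.Surjective π) (hcomm : π.comp φ = ι.comp e) (hker : RingHom.ker π = (RingHom.ker e).map φ) :
    IsPushout (CommRingCat.ofHom φ) (CommRingCat.ofHom e) (CommRingCat.ofHom π) (CommRingCat.ofHom ι) := by
  refine IsPushout.of_isColimit (PushoutCocone.IsColimit.mk
    (eq := by ext x; exact RingHom.congr_fun hcomm x) ?_ ?_ ?_ ?_)
  · intro s
    refine CommRingCat.ofHom (RingHom.liftOfRightInverse π _ (Function.rightInverse_surjInv hπ)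
      ⟨s.inl.hom, ?_⟩)
    rw [hker, Ideal.map_le_iff_le_comap]
    intro x hx
    rw [Ideal.mem_comap, RingHom.mem_ker]
    have h := RingHom.congr_fun (congrArg CommRingCat.Hom.hom s.condition) x
    refine h.trans ?_
    change s.inr.hom (e x) = 0
    rw [RingHom.mem_ker.1 hx, map_zero]
  · intro s
    ext x
    exact RingHom.liftOfRightInverse_comp_apply π _ (Function.rightInverse_surjInv hπ) ⟨s.inl.hom, _⟩ x
  · intro s
    ext x
    obtain ⟨a, rfl⟩ := he x
    have h := RingHom.congr_fun (congrArg CommRingCat.Hom.hom s.condition) a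
    refine Eq.trans ?_ h
    change (RingHom.liftOfRightInverse π _ (Function.rightInverse_surjInv hπ) ⟨s.inl.hom, _⟩) (ι (e a)) = s.inl.hom (φ a)
    rw [← RingHom.comp_apply ι e, ← hcomm, RingHom.comp_apply]
    exact RingHom.liftOfRightInverse_comp_apply π _ (Function.rightInverse_surjInv hπ) ⟨s.inl.hom, _⟩ (φ a)
  · intro s m h1 _
    ext x
    obtain ⟨b, rfl⟩ := hπ x
    refine (RingHom.congr_fun (congrArg CommRingCat.Hom.hom h1) b).trans ?_
    exact (RingHom.liftOfRightInverse_comp_apply π _ (Function.rightInverse_surjInv hπ) ⟨s.inl.hom, _⟩ b).symm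

/-- The cartesian square of spectra. -/
theorem isPullback_of_ker (e : A →+* K) (he : Function.Surjective e) (φ : A →+* B) (π : B →+* B₀) (ι : K →+* B₀)
    (hπ : Function.Surjective π) (hcomm : π.comp φ = ι.comp e) (hker : RingHom.ker π = (RingHom.ker e).map φ) :
    IsPullback (Spec.map (CommRingCat.ofHom π)) (Spec.map (CommRingCat.ofHom ι))
      (Spec.map (CommRingCat.ofHom φ)) (Spec.map (CommRingCat.ofHom e)) :=
  isPullback_SpecMap_of_isPushout _ _ _ _ (isPushout_of_ker e he φ π ι hπ hcomm hker)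

/-- The fibre ring of a cartesian square of spectra. -/
theorem ker_of_isPullback (e : A →+* K) (he : Function.Surjective e) (φ : A →+* B) (π : B →+* B₀) (ι : K →+* B₀)
    (h : IsPullback (Spec.map (CommRingCat.ofHom π)) (Spec.map (CommRingCat.ofHom ι))
      (Spec.map (CommRingCat.ofHom φ)) (Spec.map (CommRingCat.ofHom e))) :
    Function.Surjective π ∧ π.comp φ = ι.comp e ∧ RingHom.ker π = (RingHom.ker e).map φ := by
  let I := (RingHom.ker e).map φ
  let ι' : K →+* B ⧸ I := RingHom.liftOfRightInverse e _ (Function.rightInverse_surjInv he)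
    ⟨(Ideal.Quotient.mk I).comp φ, fun x hx => Ideal.Quotient.eq_zero_iff_mem.2 (Ideal.mem_map_of_mem φ hx)⟩
  have hι' : (Ideal.Quotient.mk I).comp φ = ι'.comp e :=
    (RingHom.liftOfRightInverse_comp e _ (Function.rightInverse_surjInv he)
      ⟨(Ideal.Quotient.mk I).comp φ, fun x hx => Ideal.Quotient.eq_zero_iff_mem.2 (Ideal.mem_map_of_mem φ hx)⟩).symm
  have h' := isPullback_of_ker e he φ (Ideal.Quotient.mk I) ι' Ideal.Quotient.mk_surjective hι' Ideal.mk_ker
  let iso := h.isoIsPullback _ _ h'
  have hfst := IsPullback.isoIsPullback_inv_fst _ _ h h'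
  let ψ : CommRingCat.of B₀ ⟶ CommRingCat.of (B ⧸ I) := Spec.preimage iso.inv
  have : IsIso ψ := by
    have : IsIso (Spec.map ψ) := by rw [Spec.map_preimage]; infer_instance
    have : IsIso (Scheme.Spec.map ψ.op) := this
    have := isIso_of_fully_faithful Scheme.Spec ψ.op
    exact isIso_of_op ψ
  have hψ : CommRingCat.ofHom π ≫ ψ = CommRingCat.ofHom (Ideal.Quotient.mk I) := by
    apply Spec.map_injective
    rw [Spec.map_comp, Spec.map_preimage]
    exact hfst
  have hb : Function.Bijective ψ.hom := (asIso ψ).commRingCatIsoToRingEquiv.bijective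
  have hπ' : ψ.hom.comp π = Ideal.Quotient.mk I := congrArg CommRingCat.Hom.hom hψ
  refine ⟨fun x => ?_, ?_, ?_⟩
  · obtain ⟨b, hbx⟩ := Ideal.Quotient.mk_surjective (I := I) (ψ.hom x)
    exact ⟨b, hb.1 (by rw [← hbx, ← hπ']; rfl)⟩
  · have hw := h.w
    rw [← Spec.map_comp, ← Spec.map_comp, ← CommRingCat.ofHom_comp, ← CommRingCat.ofHom_comp] at hw
    exact congrArg CommRingCat.Hom.hom (Spec.map_injective hw)
  · rw [show RingHom.ker π = RingHom.ker (ψ.hom.comp π) from (RingHom.ker_comp_of_injective π hb.1).symm, hπ',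
      Ideal.mk_ker]

/-- A deformation of an affine scheme over a nilpotent thickening is affine. -/
theorem exists_affine (e : A →+* K) (he : Function.Surjective e) (hnil : IsNilpotent (RingHom.ker e))
    (ι : K →+* B₀) (Y : Scheme.{u}) (f : Y ⟶ Spec (CommRingCat.of A)) (i : Spec (CommRingCat.of B₀) ⟶ Y)
    (h : IsPullback i (Spec.map (CommRingCat.ofHom ι)) f (Spec.map (CommRingCat.ofHom e))) :
    ∃ (B : Type u) (_ : CommRing B) (φ : A →+* B) (π : B →+* B₀) (j : Spec (CommRingCat.of B) ≅ Y),
      j.hom ≫ f = Spec.map (CommRingCat.ofHom φ) ∧ Spec.map (CommRingCat.ofHom π) ≫ j.hom = i ∧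
      Function.Surjective π ∧ π.comp φ = ι.comp e ∧ RingHom.ker π = (RingHom.ker e).map φ ∧
      (Flat f → φ.Flat) := by
  have hci : IsClosedImmersion (Spec.map (CommRingCat.ofHom e)) :=
    IsClosedImmersion.spec_of_surjective _ he
  have hsurj : AlgebraicGeometry.Surjective (Spec.map (CommRingCat.ofHom e)) := by
    refine ⟨fun P => ?_⟩
    obtain ⟨n, hn⟩ := hnil
    have hle : RingHom.ker e ≤ P.asIdeal := by
      intro x hx
      refine P.isPrime.mem_of_pow_mem n ?_
      have hxn : x ^ n ∈ RingHom.ker e ^ n := Ideal.pow_mem_pow hx n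
      rw [hn] at hxn
      rw [show x ^ n = 0 from hxn]
      exact zero_mem _
    exact ⟨⟨P.asIdeal.map e, Ideal.map_isPrime_of_surjective he hle⟩, PrimeSpectrum.ext (by
      change (P.asIdeal.map e).comap e = _
      rw [Ideal.comap_map_of_surjective _ he, ← RingHom.ker_eq_comap_bot, sup_eq_left.2 hle])⟩
  have : IsClosedImmersion i := MorphismProperty.of_isPullback h.flip hci
  have : AlgebraicGeometry.Surjective i := MorphismProperty.of_isPullback h.flip hsurj
  have hY : IsAffine Y := Groth.Agent.S0440.result i this.surj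
  let B : CommRingCat.{u} := Γ(Y, ⊤)
  let j : Spec B ≅ Y := Y.isoSpec.symm
  let φ : CommRingCat.of A ⟶ B := Spec.preimage (j.hom ≫ f)
  let π : B ⟶ CommRingCat.of B₀ := Spec.preimage (i ≫ j.inv)
  have hφ : Spec.map φ = j.hom ≫ f := Spec.map_preimage _
  have hπ : Spec.map π = i ≫ j.inv := Spec.map_preimage _
  have h2 : IsPullback (Spec.map π) (Spec.map (CommRingCat.ofHom ι)) (Spec.map φ) (Spec.map (CommRingCat.ofHom e)) :=
    h.of_iso (Iso.refl _) j.symm (Iso.refl _) (Iso.refl _) (by simp [hπ]) (by simp) (by simp [hφ]) (by simp)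
  obtain ⟨s1, s2, s3⟩ := ker_of_isPullback e he φ.hom π.hom ι h2
  refine ⟨B, inferInstance, φ.hom, π.hom, j, hφ.symm, ?_, s1, s2, s3, fun hf => ?_⟩
  · change Spec.map π ≫ j.hom = i
    rw [hπ, Category.assoc, j.inv_hom_id, Category.comp_id]
  · have : Flat (Spec.map φ) := by rw [hφ]; infer_instance
    exact (Flat.SpecMap_iff).1 this

end Groth.Agent.AffDef
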