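import Groth.Agent.AffDef.Trivial

/-!
# Affine schemes over a field and their deformations
-/

universe u v

open CategoryTheory AlgebraicGeometry Limits TensorProduct IsLocalRing

noncomputable section

namespace Groth.Agent.AffDef

variable {k : Type u} [Field k]

/-- The coordinate ring of an affine scheme over `k`. -/
def coordRing (X : Scheme.{u}) [IsAffine X] (_hX : X ⟶ Spec (CommRingCat.of k)) : Type u := Γ(X, ⊤)

instance (X : Scheme.{u}) [IsAffine X] (hX : X ⟶ Spec (CommRingCat.of k)) : CommRing (coordRing X hX) :=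
  inferInstanceAs (CommRing Γ(X, ⊤))

/-- Its structure map. -/
def coordMap (X : Scheme.{u}) [IsAffine X] (hX : X ⟶ Spec (CommRingCat.of k)) : k →+* coordRing X hX :=
  (Spec.preimage (X.isoSpec.inv ≫ hX)).hom

instance (X : Scheme.{u}) [IsAffine X] (hX : X ⟶ Spec (CommRingCat.of k)) : Algebra k (coordRing X hX) :=
  (coordMap X hX).toAlgebra

/-- `X` is the spectrum of its coordinate ring. -/
def coordIso (X : Scheme.{u}) [IsAffine X] (hX : X ⟶ Spec (CommRingCat.of k)) :
    Spec (CommRingCat.of (coordRing X hX)) ≅ X := X.isoSpec.symm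

lemma specMap_coord (X : Scheme.{u}) [IsAffine X] (hX : X ⟶ Spec (CommRingCat.of k)) :
    Spec.map (CommRingCat.ofHom (algebraMap k (coordRing X hX))) = (coordIso X hX).hom ≫ hX :=
  Spec.map_preimage _

lemma finiteType_coord (X : Scheme.{u}) [IsAffine X] (hX : X ⟶ Spec (CommRingCat.of k)) [LocallyOfFiniteType hX] :
    Algebra.FiniteType k (coordRing X hX) := by
  have h : LocallyOfFiniteType (Spec.map (Spec.preimage (X.isoSpec.inv ≫ hX))) := by
    rw [Spec.map_preimage]; infer_instance
  have h2 : RingHom.FiniteType (coordMap X hX) := (HasRingHomProperty.Spec_iff (P := @LocallyOfFiniteType)).1 h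
  exact h2

lemma formallySmooth_coord (X : Scheme.{u}) [IsAffine X] (hX : X ⟶ Spec (CommRingCat.of k)) [Smooth hX] :
    Algebra.FormallySmooth k (coordRing X hX) := by
  have h : Smooth (Spec.map (Spec.preimage (X.isoSpec.inv ≫ hX))) := by
    rw [Spec.map_preimage]; infer_instance
  have h2 : RingHom.Smooth (coordMap X hX) := (HasRingHomProperty.Spec_iff (P := @Smooth)).1 h
  have h3 : Algebra.Smooth k (coordRing X hX) := h2.toAlgebra
  infer_instance

lemma regular_global (X : Scheme.{u}) [IsAffine X]
    (hreg : ∀ x : X, IsRegularLocalRing (X.presheaf.stalk x)) (p : Ideal Γ(X, ⊤)) [hp : p.IsPrime] :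
    IsRegularLocalRing (Localization.AtPrime p) := by
  let y : PrimeSpectrum Γ(X, ⊤) := ⟨p, hp⟩
  let x : X := (isAffineOpen_top X).fromSpec y
  letI : Algebra Γ(X, ⊤) (X.presheaf.stalk x) := (X.presheaf.germ ⊤ x trivial).hom.toAlgebra
  have hloc : IsLocalization.AtPrime (X.presheaf.stalk x) p := (isAffineOpen_top X).isLocalization_stalk' y trivial
  have := hreg x
  exact IsRegularLocalRing.of_ringEquiv
    (IsLocalization.algEquiv p.primeCompl (X.presheaf.stalk x) (Localization.AtPrime p)).toRingEquiv

lemma regular_coord (X : Scheme.{u}) [IsAffine X] (hX : X ⟶ Spec (CommRingCat.of k))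
    (hreg : ∀ x : X, IsRegularLocalRing (X.presheaf.stalk x)) (p : Ideal (coordRing X hX)) [hp : p.IsPrime] :
    IsRegularLocalRing (Localization.AtPrime p) :=
  regular_global X hreg (hp := hp) p

variable (X : Scheme.{u}) [IsAffine X] (hX : X ⟶ Spec (CommRingCat.of k))

/-- Replacing `X` by the spectrum of its coordinate ring. -/
lemma isPullback_coord {A : Type u} [CommRing A] (e : A →+* k) {X' : Scheme.{u}} (g : X' ⟶ Spec (CommRingCat.of A))
    (i : X ⟶ X') (hsq : IsPullback i hX g (Spec.map (CommRingCat.ofHom e))) :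
    IsPullback ((coordIso X hX).hom ≫ i) (Spec.map (CommRingCat.ofHom (algebraMap k (coordRing X hX)))) g
      (Spec.map (CommRingCat.ofHom e)) :=
  hsq.of_iso (coordIso X hX).symm (Iso.refl _) (Iso.refl _) (Iso.refl _) (by simp) (by rw [specMap_coord]; simp) (by simp)
    (by simp)

/-- The trivial deformation of `X` from that of the spectrum of its coordinate ring. -/
def pullbackCoordIso {T : Scheme.{u}} (t : T ⟶ Spec (CommRingCat.of k)) :
    pullback (Spec.map (CommRingCat.ofHom (algebraMap k (coordRing X hX)))) t ≅ pullback hX t :=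
  asIso (pullback.map _ _ hX t (coordIso X hX).hom (𝟙 _) (𝟙 _) (by rw [specMap_coord]; simp) (by simp))

@[simp] lemma pullbackCoordIso_hom_fst {T : Scheme.{u}} (t : T ⟶ Spec (CommRingCat.of k)) :
    (pullbackCoordIso X hX t).hom ≫ pullback.fst _ _ = pullback.fst _ _ ≫ (coordIso X hX).hom := by
  exact pullback.lift_fst _ _ _

@[simp] lemma pullbackCoordIso_hom_snd {T : Scheme.{u}} (t : T ⟶ Spec (CommRingCat.of k)) :
    (pullbackCoordIso X hX t).hom ≫ pullback.snd _ _ = pullback.snd _ _ :=
  (pullback.lift_snd _ _ _).trans (Category.comp_id _)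

/-- An augmented Artinian local algebra has nilpotent augmentation ideal. -/
lemma isNilpotent_ker {A : Type u} [CommRing A] [IsLocalRing A] [IsArtinianRing A] [Algebra k A] (e : A →ₐ[k] k) :
    IsNilpotent (RingHom.ker e.toRingHom) := by
  have hes : Function.Surjective e := fun c => ⟨algebraMap k A c, e.commutes c⟩
  rw [show RingHom.ker e.toRingHom = _ from IsLocalRing.eq_maximalIdeal (RingHom.ker_isMaximal_of_surjective e.toRingHom hes),
    ← IsLocalRing.jacobson_eq_maximalIdeal ⊥ bot_ne_top]
  exact IsArtinianRing.isNilpotent_jacobson_bot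

end Groth.Agent.AffDef
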