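import Groth.Prelude.Def_ArtFun4
import Groth.Agent.AffDef.Section
import Groth.Agent.Exal.Basic

/-!
# First-order deformations of affine schemes and extensions
-/

universe u

open CategoryTheory AlgebraicGeometry Limits TensorProduct IsLocalRing

noncomputable section

namespace Groth.Agent.AffDef

variable {k : Type u} [Field k]

/-- Flatness over the dual numbers. -/
theorem flat_dual {E : Type u} [CommRing E] (φ : DualNumber k →+* E)
    (h : ∀ x, φ DualNumber.eps * x = 0 → ∃ y, x = φ DualNumber.eps * y) : φ.Flat := by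
  letI := φ.toAlgebra
  change Module.Flat (DualNumber k) E
  rw [Module.Flat.iff_rTensor_injective']
  intro I
  rcases DualNumber.ideal_trichotomy I with rfl | rfl | rfl
  · haveI : Subsingleton (↥(⊥ : Ideal (DualNumber k)) ⊗[DualNumber k] E) := by
      refine subsingleton_of_forall_eq 0 fun z => ?_
      induction z using TensorProduct.induction_on with
      | zero => rfl
      | add y z hy hz => rw [hy, hz, add_zero]
      | tmul a x => rw [Subsingleton.elim a 0, TensorProduct.zero_tmul]
    exact Function.injective_of_subsingleton _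
  · refine (injective_iff_map_eq_zero _).2 fun z hz => ?_
    let g : ↥(Ideal.span {(DualNumber.eps : DualNumber k)}) := ⟨_, Ideal.mem_span_singleton_self _⟩
    obtain ⟨x, rfl⟩ : ∃ x, z = g ⊗ₜ[DualNumber k] x := by
      clear hz
      induction z using TensorProduct.induction_on with
      | zero => exact ⟨0, by simp⟩
      | add y z hy hz =>
        obtain ⟨a, rfl⟩ := hy
        obtain ⟨b, rfl⟩ := hz
        exact ⟨a + b, by rw [TensorProduct.tmul_add]⟩
      | tmul a x =>
        obtain ⟨r, hr⟩ := Ideal.mem_span_singleton'.1 a.2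
        refine ⟨r • x, ?_⟩
        refine Eq.trans ?_ (TensorProduct.smul_tmul r g x)
        congr 1
        exact Subtype.ext hr.symm
    have h0 : (DualNumber.eps : DualNumber k) • x = 0 := by
      have h1 := congrArg (TensorProduct.lid (DualNumber k) E) hz
      rw [LinearMap.rTensor_tmul, map_zero, TensorProduct.lid_tmul] at h1
      exact h1
    obtain ⟨y, rfl⟩ := h x h0
    refine (TensorProduct.smul_tmul (DualNumber.eps : DualNumber k) g y).symm.trans ?_
    rw [show (DualNumber.eps : DualNumber k) • g = 0 from Subtype.ext DualNumber.eps_mul_eps, TensorProduct.zero_tmul]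
  · exact (LinearEquiv.rTensor E (Submodule.topEquiv (R := DualNumber k) (M := DualNumber k))).injective

lemma ker_fst : RingHom.ker (TrivSqZeroExt.fstHom k k k).toRingHom = Ideal.span {(DualNumber.eps : DualNumber k)} := by
  refine le_antisymm (fun x hx => Ideal.mem_span_singleton.2 ⟨TrivSqZeroExt.inl (TrivSqZeroExt.snd x), ?_⟩) ?_
  · have hx' : TrivSqZeroExt.fst (x : DualNumber k) = 0 := hx
    refine TrivSqZeroExt.ext ?_ ?_
    · simp [hx']
    · simp
  · rw [Ideal.span_singleton_le_iff_mem]
    exact TrivSqZeroExt.fst_inr k 1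

lemma map_ker_res {E : Type u} [CommRing E] (φ : DualNumber k →+* E) :
    (RingHom.ker (ArtFun.Art.dual k k).res.toRingHom).map (φ : ArtFun.Art.dual k k →+* E)
      = Ideal.span {φ DualNumber.eps} := by
  change (RingHom.ker (TrivSqZeroExt.fstHom k k k).toRingHom).map φ = _
  rw [ker_fst, Ideal.map_span, Set.image_singleton]

variable {B : Type u} [CommRing B] [Algebra k B]

/-- `k[ε] → E`, `ε ↦ incl 1`. -/
def phi (X : Exal.Ext k B B) : DualNumber k →ₐ[k] X.E :=
  DualNumber.lift ⟨(Algebra.ofId k X.E, X.incl 1), Exal.incl_mul_incl X 1 1, fun _ => Commute.all _ _⟩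

@[simp] lemma phi_eps (X : Exal.Ext k B B) : phi X DualNumber.eps = X.incl 1 := DualNumber.lift_apply_eps _

lemma incl_eq (X : Exal.Ext k B B) (x : X.E) : X.incl (X.proj x) = phi X DualNumber.eps * x := by
  rw [phi_eps, mul_comm, X.isExtension.mul_incl, smul_eq_mul, mul_one]

lemma proj_phi (X : Exal.Ext k B B) :
    X.proj.toRingHom.comp (phi X).toRingHom = (algebraMap k B).comp (ArtFun.Art.dual k k).res.toRingHom := by
  refine RingHom.ext fun a => ?_
  have h : X.proj.comp (phi X) = (Algebra.ofId k B).comp (TrivSqZeroExt.fstHom k k k) := by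
    refine DualNumber.algHom_ext ?_
    change X.proj (phi X DualNumber.eps) = algebraMap k B (TrivSqZeroExt.fst (DualNumber.eps : DualNumber k))
    rw [phi_eps, (X.isExtension.exact _).2 ⟨1, rfl⟩, DualNumber.fst_eps, map_zero]
  exact DFunLike.congr_fun h a

lemma ker_proj (X : Exal.Ext k B B) :
    RingHom.ker X.proj.toRingHom = (RingHom.ker (ArtFun.Art.dual k k).res.toRingHom).map (phi X).toRingHom := by
  refine Eq.trans ?_ (map_ker_res (phi X).toRingHom).symm
  refine le_antisymm (fun x hx => ?_) ((Ideal.span_singleton_le_iff_mem _).2 ?_)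
  · obtain ⟨z, rfl⟩ := (X.isExtension.exact x).1 hx
    obtain ⟨y, rfl⟩ := X.isExtension.proj_surjective z
    exact Ideal.mem_span_singleton.2 ⟨y, incl_eq X y⟩
  · change X.proj (phi X DualNumber.eps) = 0
    rw [phi_eps, (X.isExtension.exact _).2 ⟨1, rfl⟩]

/-- The deformation attached to an extension. -/
def ofExt (X : Exal.Ext k B B) :
    ArtFun.DefSch (Spec (CommRingCat.of B)) (Spec.map (CommRingCat.ofHom (algebraMap k B))) (ArtFun.Art.dual k k) where
  total := Spec (CommRingCat.of X.E)
  f := Spec.map (CommRingCat.ofHom (phi X).toRingHom)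
  flat := by
    refine Flat.SpecMap_iff.2 (flat_dual (phi X).toRingHom fun x hx => ?_)
    have h0 : X.proj x = 0 := X.isExtension.incl_injective (by rw [incl_eq, map_zero]; exact hx)
    obtain ⟨z, rfl⟩ := (X.isExtension.exact x).1 h0
    obtain ⟨y, rfl⟩ := X.isExtension.proj_surjective z
    exact ⟨y, incl_eq X y⟩
  i := Spec.map (CommRingCat.ofHom X.proj.toRingHom)
  isPullback := isPullback_of_ker _ (ArtFun.Art.dual k k).res_surjective _ _ _ X.isExtension.proj_surjective
    (proj_phi X) (ker_proj X)

/-- An isomorphism of deformations is an equivalence of the extensions. -/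
theorem equiv_of_iso {X Y : Exal.Ext k B B} (e : (ofExt X).Iso (ofExt Y)) : Nonempty (X.Equiv Y) := by
  let g : CommRingCat.of Y.E ⟶ CommRingCat.of X.E := Spec.preimage e.iso.hom
  have hg : Spec.map g = e.iso.hom := Spec.map_preimage _
  let g' : CommRingCat.of X.E ⟶ CommRingCat.of Y.E := Spec.preimage e.iso.inv
  have hg' : Spec.map g' = e.iso.inv := Spec.map_preimage _
  have h1 : g ≫ g' = 𝟙 _ := Spec.map_injective (by
    rw [Spec.map_comp, hg, hg', Spec.map_id]
    exact e.iso.inv_hom_id)
  have h2 : g' ≫ g = 𝟙 _ := Spec.map_injective (by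
    rw [Spec.map_comp, hg, hg', Spec.map_id]
    exact e.iso.hom_inv_id)
  have h3 : CommRingCat.ofHom (phi Y).toRingHom ≫ g = CommRingCat.ofHom (phi X).toRingHom := Spec.map_injective (by
    rw [Spec.map_comp, hg]; exact e.hom_f)
  have h4 : g ≫ CommRingCat.ofHom X.proj.toRingHom = CommRingCat.ofHom Y.proj.toRingHom := Spec.map_injective (by
    rw [Spec.map_comp, hg]; exact e.i_hom)
  have h3' : ∀ a, g.hom (phi Y a) = phi X a := fun a => RingHom.congr_fun (congrArg CommRingCat.Hom.hom h3) a
  have h4' : ∀ y, X.proj (g.hom y) = Y.proj y := fun y => RingHom.congr_fun (congrArg CommRingCat.Hom.hom h4) y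
  have h1' : ∀ y, g'.hom (g.hom y) = y := fun y => RingHom.congr_fun (congrArg CommRingCat.Hom.hom h1) y
  have h2' : ∀ x, g.hom (g'.hom x) = x := fun x => RingHom.congr_fun (congrArg CommRingCat.Hom.hom h2) x
  let er : X.E ≃+* Y.E :=
    { toFun := g'.hom, invFun := g.hom, left_inv := h2', right_inv := h1',
      map_mul' := map_mul g'.hom, map_add' := map_add g'.hom }
  refine ⟨⟨AlgEquiv.ofRingEquiv (f := er) fun c => ?_, fun x => ?_, fun z => ?_⟩⟩
  · change g'.hom (algebraMap k X.E c) = algebraMap k Y.E c
    rw [← (phi X).commutes c, ← h3', h1', (phi Y).commutes]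
  · change Y.proj (g'.hom x) = X.proj x
    rw [← h4', h2']
  · obtain ⟨y, rfl⟩ := X.isExtension.proj_surjective z
    change g'.hom (X.incl (X.proj y)) = Y.incl (X.proj y)
    have h5 : X.proj y = Y.proj (g'.hom y) := by rw [← h4', h2']
    rw [incl_eq, map_mul, ← h3', h1', h5, incl_eq]

/-- An equivalence of extensions is an isomorphism of deformations. -/
def isoOfEquiv {X Y : Exal.Ext k B B} (e : X.Equiv Y) : (ofExt X).Iso (ofExt Y) where
  iso := Scheme.Spec.mapIso e.toAlgEquiv.symm.toRingEquiv.toCommRingCatIso.op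
  hom_f := by
    change Spec.map (CommRingCat.ofHom e.toAlgEquiv.symm.toRingEquiv.toRingHom) ≫ Spec.map _ = Spec.map _
    rw [← Spec.map_comp, ← CommRingCat.ofHom_comp]
    congr 2
    refine congrArg AlgHom.toRingHom (DualNumber.algHom_ext
      (f := e.toAlgEquiv.symm.toAlgHom.comp (phi Y)) (g := phi X) ?_)
    rw [AlgHom.comp_apply, phi_eps, phi_eps]
    change e.toAlgEquiv.symm (Y.incl 1) = _
    rw [AlgEquiv.symm_apply_eq, e.apply_incl]
  i_hom := by
    change Spec.map _ ≫ Spec.map (CommRingCat.ofHom e.toAlgEquiv.symm.toRingEquiv.toRingHom) = Spec.map _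
    rw [← Spec.map_comp, ← CommRingCat.ofHom_comp]
    congr 2
    refine RingHom.ext fun y => ?_
    change X.proj (e.toAlgEquiv.symm y) = Y.proj y
    rw [← e.proj_apply, AlgEquiv.apply_symm_apply]

/-- Every first-order deformation comes from an extension. -/
theorem exists_ofExt
    (ξ : ArtFun.DefSch (Spec (CommRingCat.of B)) (Spec.map (CommRingCat.ofHom (algebraMap k B))) (ArtFun.Art.dual k k)) :
    ∃ X : Exal.Ext k B B, Nonempty ((ofExt X).Iso ξ) := by
  have hes : Function.Surjective (ArtFun.Art.dual k k).res.toRingHom := (ArtFun.Art.dual k k).res_surjective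
  obtain ⟨B', _, φ, π, j, hjf, hji, hπs, hcomm, hker, hflat⟩ :=
    exists_affine _ hes (isNilpotent_ker (ArtFun.Art.dual k k).res) (algebraMap k B) ξ.total ξ.f ξ.i ξ.isPullback
  have hφflat := hflat ξ.flat
  letI : Algebra k B' := (φ.comp (algebraMap k (ArtFun.Art.dual k k))).toAlgebra
  let πA : B' →ₐ[k] B :=
    { π with
      commutes' := fun c => by
        change π (φ (algebraMap k _ c)) = _
        rw [← RingHom.comp_apply π φ, hcomm, RingHom.comp_apply]
        exact congrArg _ ((ArtFun.Art.dual k k).res.commutes c) }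
  have hk : RingHom.ker π = Ideal.span {φ DualNumber.eps} := hker.trans (map_ker_res φ)
  have hm : (maximalIdeal (ArtFun.Art.dual k k)).map φ = RingHom.ker π := by
    rw [hker, IsLocalRing.eq_maximalIdeal (RingHom.ker_isMaximal_of_surjective _ hes)]
  let φD : DualNumber k →+* B' := φ
  have hee : φ DualNumber.eps * φ DualNumber.eps = 0 :=
    (map_mul φD _ _).symm.trans ((congrArg φD DualNumber.eps_mul_eps).trans (map_zero φD))
  have hwd : ∀ y z, π y = π z → φ DualNumber.eps * y = φ DualNumber.eps * z := by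
    intro y z h
    have h1 : y - z ∈ RingHom.ker π := by rw [RingHom.mem_ker, map_sub, h, sub_self]
    rw [hk, Ideal.mem_span_singleton] at h1
    obtain ⟨c, hc⟩ := h1
    rw [← sub_eq_zero, ← mul_sub, hc, ← mul_assoc, hee, zero_mul]
  let incl : B →+ B' :=
    { toFun := fun z => φ DualNumber.eps * Function.surjInv hπs z
      map_zero' := by
        rw [hwd _ 0 (by rw [Function.surjInv_eq hπs, map_zero]), mul_zero]
      map_add' := fun z w => by
        rw [← mul_add]
        exact hwd _ _ (by rw [Function.surjInv_eq hπs, map_add, Function.surjInv_eq hπs, Function.surjInv_eq hπs]) }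
  have hincl : ∀ y, incl (π y) = φ DualNumber.eps * y := fun y => hwd _ _ (Function.surjInv_eq hπs _)
  have hext : Exal.IsExtension πA incl := by
    refine ⟨hπs, (injective_iff_map_eq_zero incl).2 fun z hz => ?_, fun x => ⟨fun hx => ?_, ?_⟩, fun x z => ?_⟩
    · obtain ⟨y, rfl⟩ := hπs z
      rw [hincl] at hz
      refine RingHom.mem_ker.1 (hm ▸ mem_map_maximalIdeal φ hφflat (J := ⊥) (t := DualNumber.eps) ?_ ?_)
      · intro h0
        exact one_ne_zero (congrArg TrivSqZeroExt.snd (Ideal.mem_bot.1 h0) : (1 : k) = 0)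
      · rw [hz]; exact zero_mem _
    · have h1 : x ∈ RingHom.ker π := hx
      rw [hk, Ideal.mem_span_singleton] at h1
      obtain ⟨c, rfl⟩ := h1
      exact ⟨π c, hincl c⟩
    · rintro ⟨z, rfl⟩
      have h1 : φ DualNumber.eps * Function.surjInv hπs z ∈ RingHom.ker π :=
        hk ▸ Ideal.mul_mem_right _ _ (Ideal.mem_span_singleton_self _)
      exact h1
    · obtain ⟨y, rfl⟩ := hπs z
      change x * incl (π y) = incl (π x * π y)
      rw [← map_mul, hincl, hincl]
      ring
  let X : Exal.Ext k B B := ⟨B', πA, incl, hext⟩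
  have hphi : (phi X).toRingHom = φ := by
    refine congrArg AlgHom.toRingHom (DualNumber.algHom_ext (f := phi X) (g := ({ φ with commutes' := fun c => rfl } :
      DualNumber k →ₐ[k] B')) ?_)
    rw [phi_eps]
    change incl 1 = φ DualNumber.eps
    rw [← map_one π, hincl, mul_one]
  refine ⟨X, ⟨⟨j, ?_, hji⟩⟩⟩
  exact hjf.trans (congrArg (fun h : DualNumber k →+* B' => Spec.map (CommRingCat.ofHom h)) hphi).symm

/-- `Def(k[ε])` is `Exalcom`. -/
def dualEquiv :
    (ArtFun.defFunctor (Λ := k) (Spec (CommRingCat.of B)) (Spec.map (CommRingCat.ofHom (algebraMap k B)))).obj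
      (ArtFun.Art.dual k k) ≃ Exal.Exalcom k B B :=
  (Equiv.ofBijective
    (Quotient.map ofExt (fun _ _ ⟨e⟩ => ⟨isoOfEquiv e⟩) :
      Exal.Exalcom k B B → Quotient (ArtFun.DefSch.setoid _ _ (ArtFun.Art.dual k k)))
    ⟨fun a b => by
      induction a using Quotient.inductionOn with
      | _ X =>
        induction b using Quotient.inductionOn with
        | _ Y => exact fun h => (Quotient.exact h).elim fun e => Quotient.sound (equiv_of_iso e),
     fun c => by
      induction c using Quotient.inductionOn with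
      | _ ξ =>
        obtain ⟨X, hX⟩ := exists_ofExt ξ
        exact ⟨Quotient.mk _ X, Quotient.sound hX⟩⟩).symm

end Groth.Agent.AffDef
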