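import Groth.Agent.AffDef.T2Theory

/-!
# First-order deformations in equations
-/

universe u

open CategoryTheory AlgebraicGeometry TensorProduct IsLocalRing MvPolynomial

noncomputable section

namespace Groth.Agent.AffDef

variable {k : Type u} [Field k] {B₀ : Type u} [CommRing B₀] [Algebra k B₀] {ι σ : Type u}

/-- Constant extension of coefficients. -/
abbrev cExt (C : ArtFun.Art k k) : MvPolynomial ι k →+* MvPolynomial ι C := MvPolynomial.map (algebraMap k C)

lemma red_cExt (C : ArtFun.Art k k) (x : MvPolynomial ι k) : red C (cExt C x) = x := by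
  rw [red, cExt, MvPolynomial.map_map]
  have h : C.res.toRingHom.comp (algebraMap k C) = RingHom.id k := RingHom.ext C.res.commutes
  rw [h, MvPolynomial.map_id]

lemma C_mul_congr {C : ArtFun.Art k k} {t : C} (ht : ∀ a ∈ maximalIdeal C, a * t = 0) {x y : MvPolynomial ι C}
    (h : red C x = red C y) : MvPolynomial.C t * x = MvPolynomial.C t * y := by
  rw [← sub_eq_zero, ← mul_sub]
  have h' : x - y ∈ (maximalIdeal C).map (algebraMap C (MvPolynomial ι C)) := by
    rw [← ker_red, RingHom.mem_ker, map_sub, h, sub_self]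
  clear h
  generalize x - y = z at h'
  induction h' using Submodule.span_induction with
  | mem z hz =>
    obtain ⟨a, ha, rfl⟩ := hz
    change MvPolynomial.C t * MvPolynomial.C a = 0
    rw [← map_mul, mul_comm, ht a ha, map_zero]
  | zero => rw [mul_zero]
  | add y z _ _ hy hz => rw [mul_add, hy, hz, add_zero]
  | smul r z _ hz => rw [smul_eq_mul, mul_left_comm, hz, mul_zero]

/-- Elements reducing to zero, when `m` is spanned by finitely many socle elements. -/
theorem exists_sum_of_red_zero {C : ArtFun.Art k k} {τ : Type*} [Fintype τ] (t : τ → C)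
    (ht : ∀ i, ∀ a ∈ maximalIdeal C, a * t i = 0) (hgen : ∀ a ∈ maximalIdeal C, ∃ c : τ → k, a = ∑ i, c i • t i)
    {x : MvPolynomial ι C} (hx : red C x = 0) :
    ∃ g : τ → MvPolynomial ι k, x = ∑ i, MvPolynomial.C (t i) * cExt C (g i) := by
  have h' : x ∈ (maximalIdeal C).map (algebraMap C (MvPolynomial ι C)) := by rw [← ker_red]; exact hx
  clear hx
  suffices h : ∀ r : MvPolynomial ι C, ∃ g : τ → MvPolynomial ι k, r * x = ∑ i, MvPolynomial.C (t i) * cExt C (g i) by
    simpa using h 1
  induction h' using Submodule.span_induction with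
  | mem z hz =>
    obtain ⟨a, ha, rfl⟩ := hz
    obtain ⟨c, hc⟩ := hgen a ha
    intro r
    refine ⟨fun i => c i • red C r, ?_⟩
    change r * MvPolynomial.C a = _
    rw [hc, map_sum, Finset.mul_sum]
    refine Finset.sum_congr rfl fun i _ => ?_
    rw [Algebra.smul_def, map_mul, ← mul_assoc, mul_comm]
    refine C_mul_congr (ht i) ?_
    rw [red_cExt, map_mul, MvPolynomial.map_C,
      show C.res.toRingHom (algebraMap k C (c i)) = c i from C.res.commutes (c i), mul_comm,
      ← MvPolynomial.smul_eq_C_mul]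
  | zero => exact fun r => ⟨0, by simp⟩
  | add y z _ _ hy hz =>
    intro r
    obtain ⟨g, hg⟩ := hy r
    obtain ⟨h, hh⟩ := hz r
    exact ⟨g + h, by rw [mul_add, hg, hh, ← Finset.sum_add_distrib]; simp [mul_add]⟩
  | smul c z _ hz => intro r; rw [smul_eq_mul, ← mul_assoc]; exact hz _

/-- The dual numbers. -/
abbrev D1 (k : Type u) [Field k] : ArtFun.Art k k := ArtFun.Art.dual k k

/-- `ε`. -/
def epsD (k : Type u) [Field k] : D1 k := (DualNumber.eps : DualNumber k)

lemma res_epsD : (D1 k).res (epsD k) = 0 := TrivSqZeroExt.fst_inr k 1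

lemma epsD_ne_zero : epsD k ≠ 0 := fun h => one_ne_zero (congrArg TrivSqZeroExt.snd h : (1 : k) = 0)

lemma exists_eq_smul_epsD {a : D1 k} (ha : a ∈ maximalIdeal (D1 k)) : ∃ c : k, a = c • epsD k := by
  refine ⟨TrivSqZeroExt.snd (a : DualNumber k), ?_⟩
  have h0 : TrivSqZeroExt.fst (a : DualNumber k) = 0 := (ArtFun.Art.mem_maximalIdeal_iff _ _).1 ha
  change (a : DualNumber k) = TrivSqZeroExt.snd (a : DualNumber k) • (DualNumber.eps : DualNumber k)
  refine TrivSqZeroExt.ext ?_ ?_ <;> simp [h0]

lemma mul_epsD {a : D1 k} (ha : a ∈ maximalIdeal (D1 k)) : a * epsD k = 0 := by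
  obtain ⟨c, rfl⟩ := exists_eq_smul_epsD ha
  rw [smul_mul_assoc, show epsD k * epsD k = 0 from DualNumber.eps_mul_eps, smul_zero]

variable (P : Algebra.Presentation k B₀ ι σ)

/-- `f + ε g`. -/
def firstEq (g : σ → MvPolynomial ι k) (s : σ) : MvPolynomial ι (D1 k) :=
  cExt (D1 k) (P.relation s) + MvPolynomial.C (epsD k) * cExt (D1 k) (g s)

lemma red_firstEq (g : σ → MvPolynomial ι k) (s : σ) : red (D1 k) (firstEq P g s) = P.relation s := by
  rw [firstEq, map_add, map_mul, red_cExt, MvPolynomial.map_C,
    show (D1 k).res.toRingHom (epsD k) = 0 from res_epsD, map_zero, zero_mul, add_zero]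

/-- The cochain of `g`. -/
def chain (g : σ → MvPolynomial ι k) : CotT.L1 P →ₗ[B₀] B₀ :=
  (CotT.L1basis P).constr B₀ fun s => MvPolynomial.aeval P.val (g s)

lemma chain_basis (g : σ → MvPolynomial ι k) (s : σ) :
    chain P g (CotT.L1basis P s) = MvPolynomial.aeval P.val (g s) := by
  rw [chain, Module.Basis.constr_basis]

/-- The cotangent functional of a vector field. -/
def field0 (a : ι → MvPolynomial ι k) : CotT.L0 P →ₗ[B₀] B₀ :=
  P.cotangentSpaceBasis.constr B₀ fun i => MvPolynomial.aeval P.val (a i)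

lemma field0_D (a : ι → MvPolynomial ι k) (x : MvPolynomial ι k) :
    field0 P a ((1 : B₀) ⊗ₜ KaehlerDifferential.D k P.toExtension.Ring (show P.toExtension.Ring from x))
      = MvPolynomial.aeval P.val (MvPolynomial.mkDerivation k a x) := by
  induction x using MvPolynomial.induction_on with
  | C c =>
    rw [MvPolynomial.derivation_C, map_zero]
    refine (congrArg (field0 P a) ?_).trans (map_zero _)
    rw [show (show P.toExtension.Ring from MvPolynomial.C c) = algebraMap k P.toExtension.Ring c from rfl,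
      Derivation.map_algebraMap, TensorProduct.tmul_zero]
  | add x y hx hy =>
    rw [map_add (MvPolynomial.mkDerivation k a), map_add, ← hx, ← hy, ← map_add (field0 P a), ← TensorProduct.tmul_add,
      ← map_add]
    rfl
  | mul_X x i hx =>
    rw [Derivation.leibniz, map_add, smul_eq_mul, smul_eq_mul, map_mul, map_mul, MvPolynomial.mkDerivation_X, ← hx,
      MvPolynomial.aeval_X]
    have e : field0 P a ((1 : B₀) ⊗ₜ KaehlerDifferential.D k P.toExtension.Ring
        ((show P.toExtension.Ring from x) * (show P.toExtension.Ring from MvPolynomial.X i)))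
        = algebraMap P.toExtension.Ring B₀ (show P.toExtension.Ring from x) *
            field0 P a ((1 : B₀) ⊗ₜ KaehlerDifferential.D k P.toExtension.Ring (show P.toExtension.Ring from MvPolynomial.X i))
          + algebraMap P.toExtension.Ring B₀ (show P.toExtension.Ring from MvPolynomial.X i) *
            field0 P a ((1 : B₀) ⊗ₜ KaehlerDifferential.D k P.toExtension.Ring (show P.toExtension.Ring from x)) := by
      rw [Derivation.leibniz, TensorProduct.tmul_add, map_add, TensorProduct.tmul_smul, TensorProduct.tmul_smul]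
      have hsm : ∀ (r : P.toExtension.Ring) (z : CotT.L0 P), field0 P a (r • z) = algebraMap P.toExtension.Ring B₀ r * field0 P a z := by
        intro r z
        rw [← IsScalarTower.algebraMap_smul B₀ r z, map_smul, smul_eq_mul]
      exact congrArg₂ (· + ·) (hsm _ _) (hsm _ _)
    refine e.trans ?_
    rw [CotT.algebraMap_toExtension, CotT.algebraMap_toExtension, MvPolynomial.aeval_X]
    congr 2
    have h := P.cotangentSpaceBasis_apply i
    rw [show ((1 : B₀) ⊗ₜ KaehlerDifferential.D k P.toExtension.Ring (show P.toExtension.Ring from MvPolynomial.X i))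
      = P.cotangentSpaceBasis i from h.symm, field0, Module.Basis.constr_basis]

lemma field0_d1 (a : ι → MvPolynomial ι k) (s : σ) :
    CotT.d1Star P B₀ (field0 P a) (CotT.L1basis P s) = MvPolynomial.aeval P.val (MvPolynomial.mkDerivation k a (P.relation s)) := by
  rw [CotT.d1Star_apply, LinearMap.comp_apply, CotT.L1basis_apply, CotT.d1_tmul, one_smul, CotT.jmap_single, one_mul]
  exact field0_D P a (P.relation s)

/-- The substitution `X ↦ X + ε a`. -/
def substEps (a : ι → MvPolynomial ι k) : MvPolynomial ι (D1 k) →ₐ[D1 k] MvPolynomial ι (D1 k) :=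
  MvPolynomial.aeval fun i => MvPolynomial.X i + MvPolynomial.C (epsD k) * cExt (D1 k) (a i)

lemma red_substEps (a : ι → MvPolynomial ι k) (x : MvPolynomial ι (D1 k)) : red (D1 k) (substEps a x) = red (D1 k) x := by
  refine RingHom.congr_fun (f := (red (D1 k)).comp (substEps a).toRingHom) (g := red (D1 k))
    (MvPolynomial.ringHom_ext (fun c => ?_) fun i => ?_) x
  · simp [substEps]
  · change red (D1 k) (substEps a (MvPolynomial.X i)) = red (D1 k) (MvPolynomial.X i)
    rw [substEps, MvPolynomial.aeval_X, map_add, map_mul, MvPolynomial.map_C,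
      show (D1 k).res.toRingHom (epsD k) = 0 from res_epsD, map_zero, zero_mul, add_zero]

lemma substEps_cExt (a : ι → MvPolynomial ι k) (x : MvPolynomial ι k) :
    substEps a (cExt (D1 k) x)
      = cExt (D1 k) x + MvPolynomial.C (epsD k) * cExt (D1 k) (MvPolynomial.mkDerivation k a x) := by
  induction x using MvPolynomial.induction_on with
  | C c =>
    rw [MvPolynomial.map_C, MvPolynomial.derivation_C, map_zero, mul_zero, add_zero, substEps, MvPolynomial.aeval_C]
    rfl
  | add x y hx hy => rw [map_add, map_add, map_add, map_add, hx, hy]; ring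
  | mul_X x i hx =>
    rw [map_mul, map_mul, hx, MvPolynomial.map_X, Derivation.leibniz, smul_eq_mul, smul_eq_mul,
      MvPolynomial.mkDerivation_X, map_add, map_mul, map_mul, MvPolynomial.map_X, substEps, MvPolynomial.aeval_X]
    have h : MvPolynomial.C (epsD k) * MvPolynomial.C (epsD k) = (0 : MvPolynomial ι (D1 k)) := by
      rw [← map_mul, show epsD k * epsD k = 0 from DualNumber.eps_mul_eps, map_zero]
    linear_combination (cExt (D1 k) (MvPolynomial.mkDerivation k a x) * cExt (D1 k) (a i)) * h

variable [Fintype σ]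

/-- A family over the dual numbers in normal form. -/
theorem exists_firstEq (G : PFam P (D1 k)) : ∃ g, G.F = firstEq P g := by
  have h : ∀ s, ∃ g : Unit → MvPolynomial ι k, G.F s - cExt (D1 k) (P.relation s)
      = ∑ i, MvPolynomial.C ((fun _ : Unit => epsD k) i) * cExt (D1 k) (g i) := fun s =>
    exists_sum_of_red_zero _ (fun _ a ha => mul_epsD ha)
      (fun a ha => by
        obtain ⟨c, hc⟩ := exists_eq_smul_epsD ha
        exact ⟨fun _ => c, by simp [hc]⟩)
      (by rw [map_sub, G.red_F, red_cExt, sub_self])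
  choose g hg using h
  refine ⟨fun s => g s (), funext fun s => ?_⟩
  rw [firstEq, ← sub_eq_iff_eq_add', hg s]
  simp

lemma eps_mul_mk_eq_zero (G : PFam P (D1 k)) {y : MvPolynomial ι (D1 k)}
    (h : MvPolynomial.C (epsD k) * y ∈ G.ideal) : MvPolynomial.aeval P.val (red (D1 k) y) = 0 := by
  have h1 : algebraMap (D1 k) G.alg (epsD k) * Ideal.Quotient.mk G.ideal y ∈ (⊥ : Ideal (D1 k)).map (algebraMap (D1 k) G.alg) := by
    rw [show algebraMap (D1 k) G.alg (epsD k) * Ideal.Quotient.mk G.ideal y
      = Ideal.Quotient.mk G.ideal (MvPolynomial.C (epsD k) * y) from (map_mul (Ideal.Quotient.mk G.ideal) _ _).symm,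
      Ideal.Quotient.eq_zero_iff_mem.2 h]
    exact zero_mem _
  have h2 := mem_map_maximalIdeal (algebraMap (D1 k) G.alg) (RingHom.flat_algebraMap_iff.2 G.flat)
    (fun h0 => epsD_ne_zero (Ideal.mem_bot.1 h0)) h1
  exact RingHom.mem_ker.1 (G.dalg.ker.ge h2)

lemma eps_eps : MvPolynomial.C (epsD k) * MvPolynomial.C (epsD k) = (0 : MvPolynomial ι (D1 k)) := by
  rw [← map_mul, show epsD k * epsD k = 0 from DualNumber.eps_mul_eps, map_zero]

lemma exists_eps_of_red_zero {x : MvPolynomial ι (D1 k)} (hx : red (D1 k) x = 0) :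
    ∃ g : MvPolynomial ι k, x = MvPolynomial.C (epsD k) * cExt (D1 k) g := by
  obtain ⟨g, hg⟩ := exists_sum_of_red_zero (fun _ : Unit => epsD k) (fun _ a ha => mul_epsD ha)
    (fun a ha => by
      obtain ⟨c, hc⟩ := exists_eq_smul_epsD ha
      exact ⟨fun _ => c, by simp [hc]⟩) hx
  exact ⟨g (), by simpa using hg⟩

lemma exists_ev_eq (b : B₀) : ∃ x : MvPolynomial ι k, MvPolynomial.aeval P.val x = b := by
  obtain ⟨x, rfl⟩ := P.algebraMap_surjective b
  exact ⟨x, (P.algebraMap_apply x).symm⟩

lemma dot_cExt (v w : σ → MvPolynomial ι k) :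
    dot (fun s => cExt (D1 k) (v s)) (fun s => cExt (D1 k) (w s)) = cExt (D1 k) (dot v w) :=
  (map_dot _ _ _).symm

/-- The chain of a family is a cocycle. -/
theorem chain_mem (G : PFam P (D1 k)) (g : σ → MvPolynomial ι k) (hG : G.F = firstEq P g) :
    chain P g ∈ CotT.cocycles1 P B₀ := by
  rw [LinearMap.mem_ker]
  refine CotTLib.linearMap_ext_L2 P fun q => ?_
  rw [CotT.d2Star_apply, LinearMap.comp_apply, CotTLib.d2_cls, L1_apply_one_tmul, LinearMap.zero_apply]
  obtain ⟨R, hR, hR0⟩ := G.lifts (relVec P q) (dot_relVec P q)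
  choose r hr using fun s => exists_eps_of_red_zero (x := R s - cExt (D1 k) (relVec P q s))
    (by rw [map_sub, hR, red_cExt, sub_self])
  have e : dot G.F R = cExt (D1 k) (dot P.relation (relVec P q))
      + MvPolynomial.C (epsD k) * cExt (D1 k) (dot g (relVec P q) + dot P.relation r) := by
    simp only [dot, map_sum, Finset.mul_sum, map_add, mul_add, ← Finset.sum_add_distrib]
    refine Finset.sum_congr rfl fun s _ => ?_
    rw [map_mul, map_mul, map_mul, sub_eq_iff_eq_add.1 (hr s), hG, firstEq]
    linear_combination (cExt (D1 k) (r s) * cExt (D1 k) (g s)) * eps_eps (k := k) (ι := ι)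
  rw [hR0, dot_relVec, map_zero, zero_add] at e
  have h0 := eps_mul_mk_eq_zero P G (e ▸ zero_mem G.ideal)
  rw [red_cExt, map_add] at h0
  simp only [dot, map_sum, map_mul, ev_relation, mul_zero, Finset.sum_const_zero, add_zero] at h0
  simp only [smul_eq_mul, chain_basis]
  exact h0

/-- Cohomologous chains give isomorphic families. -/
theorem cl_eq_of_chain (G G' : PFam P (D1 k)) (g g' : σ → MvPolynomial ι k) (hG : G.F = firstEq P g)
    (hG' : G'.F = firstEq P g') (h : chain P g - chain P g' ∈ LinearMap.range (CotT.d1Star P B₀)) :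
    G'.cl = G.cl := by
  obtain ⟨a0, ha0⟩ := h
  choose a ha using fun i => exists_ev_eq P (a0 (P.cotangentSpaceBasis i))
  have hfield : field0 P a = a0 := P.cotangentSpaceBasis.ext fun i => by rw [field0, Module.Basis.constr_basis, ha]
  have hkey : ∀ s, substEps a (G'.F s) ∈ G.ideal := by
    intro s
    have hev : MvPolynomial.aeval P.val (MvPolynomial.mkDerivation k a (P.relation s) + g' s - g s) = 0 := by
      have e := LinearMap.congr_fun ha0 (CotT.L1basis P s)
      rw [← hfield, field0_d1, LinearMap.sub_apply, chain_basis, chain_basis] at e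
      rw [map_sub, map_add, e, sub_add_cancel, sub_self]
    obtain ⟨v, hv⟩ := exists_dot_of_ev P hev
    have e : substEps a (G'.F s) = G.F s + dot G.F (fun j => MvPolynomial.C (epsD k) * cExt (D1 k) (v j)) := by
      have h1 : substEps a (G'.F s) = substEps a (cExt (D1 k) (P.relation s))
          + MvPolynomial.C (epsD k) * cExt (D1 k) (g' s) := by
        rw [hG', firstEq, map_add, map_mul]
        refine congrArg₂ (· + ·) rfl ?_
        refine (congrArg (· * _) (MvPolynomial.aeval_C _ _)).trans ?_
        exact C_mul_congr (fun x hx => mul_epsD hx) (red_substEps a _)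
      have h2 : dot G.F (fun j => MvPolynomial.C (epsD k) * cExt (D1 k) (v j))
          = MvPolynomial.C (epsD k) * cExt (D1 k) (dot P.relation v) := by
        simp only [dot, map_sum, Finset.mul_sum]
        refine Finset.sum_congr rfl fun j _ => ?_
        rw [hG, firstEq, map_mul]
        linear_combination (cExt (D1 k) (v j) * cExt (D1 k) (g j)) * eps_eps (k := k) (ι := ι)
      rw [h1, h2, hv, substEps_cExt, hG, firstEq, map_sub, map_add]
      ring
    rw [e]
    exact add_mem (Ideal.subset_span ⟨s, rfl⟩) (dot_mem_span _ _)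
  refine DAlg.cl_eq_of_hom G'.dalg G.dalg
    (Ideal.quotientMap G.ideal (substEps a).toRingHom (Ideal.span_le.2 ?_)) (RingHom.ext fun c => ?_) ?_
  · rintro _ ⟨s, rfl⟩
    exact hkey s
  · change Ideal.Quotient.mk G.ideal (substEps a (MvPolynomial.C c)) = Ideal.Quotient.mk G.ideal (MvPolynomial.C c)
    exact congrArg _ (MvPolynomial.aeval_C _ _)
  · refine Ideal.Quotient.ringHom_ext (RingHom.ext fun x => ?_)
    change MvPolynomial.aeval P.val (red (D1 k) (substEps a x)) = MvPolynomial.aeval P.val (red (D1 k) x)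
    rw [red_substEps]

/-- Isomorphic families have cohomologous chains. -/
theorem chain_of_cl_eq (G G' : PFam P (D1 k)) (g g' : σ → MvPolynomial ι k) (hG : G.F = firstEq P g)
    (hG' : G'.F = firstEq P g') (h : G'.cl = G.cl) :
    chain P g - chain P g' ∈ LinearMap.range (CotT.d1Star P B₀) := by
  obtain ⟨f, hfφ, hfπ⟩ := DAlg.exists_hom_of_cl_eq G'.dalg G.dalg h
  have hy : ∀ i, ∃ a : MvPolynomial ι k, f (Ideal.Quotient.mk G'.ideal (MvPolynomial.X i))
      = Ideal.Quotient.mk G.ideal (MvPolynomial.X i + MvPolynomial.C (epsD k) * cExt (D1 k) a) := by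
    intro i
    obtain ⟨y, hy⟩ := Ideal.Quotient.mk_surjective (I := G.ideal) (f (Ideal.Quotient.mk G'.ideal (MvPolynomial.X i : MvPolynomial ι (D1 k))) : G.alg)
    have e : MvPolynomial.aeval P.val (red (D1 k) y) = MvPolynomial.aeval P.val (MvPolynomial.X i : MvPolynomial ι k) := by
      have e1 : G.π (Ideal.Quotient.mk G.ideal y) = G'.π (Ideal.Quotient.mk G'.ideal (MvPolynomial.X i)) := by
        rw [hy]
        exact RingHom.congr_fun hfπ _
      rw [PFam.π_mk, PFam.π_mk, MvPolynomial.map_X] at e1
      exact e1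
    obtain ⟨v, hv⟩ := exists_dot_of_ev P (x := red (D1 k) y - MvPolynomial.X i) (by rw [map_sub, e, sub_self])
    obtain ⟨a, ha⟩ := exists_eps_of_red_zero
      (x := y - dot G.F (fun j => cExt (D1 k) (v j)) - MvPolynomial.X i)
      (by
        rw [map_sub, map_sub, G.red_dot, MvPolynomial.map_X]
        simp only [red_cExt]
        rw [hv]
        ring)
    refine ⟨a, hy.symm.trans (Ideal.Quotient.eq.2 ?_)⟩
    rw [← ha, show y - (MvPolynomial.X i + (y - dot G.F (fun j => cExt (D1 k) (v j)) - MvPolynomial.X i))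
      = dot G.F (fun j => cExt (D1 k) (v j)) by ring]
    exact dot_mem_span _ _
  choose a ha using hy
  have hf : ∀ x, f (Ideal.Quotient.mk G'.ideal x) = Ideal.Quotient.mk G.ideal (substEps a x) := by
    refine fun x => RingHom.congr_fun (f := f.comp (Ideal.Quotient.mk G'.ideal))
      (g := (Ideal.Quotient.mk G.ideal).comp (substEps a).toRingHom) (MvPolynomial.ringHom_ext (fun c => ?_) fun i => ?_) x
    · change f (Ideal.Quotient.mk G'.ideal (MvPolynomial.C c)) = Ideal.Quotient.mk G.ideal (substEps a (MvPolynomial.C c))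
      rw [show substEps a (MvPolynomial.C c) = MvPolynomial.C c from MvPolynomial.aeval_C _ _]
      exact RingHom.congr_fun hfφ c
    · refine (ha i).trans (congrArg _ ?_)
      simp [substEps]
  refine ⟨field0 P a, (CotT.L1basis P).ext fun s => ?_⟩
  rw [field0_d1, LinearMap.sub_apply, chain_basis, chain_basis]
  have hmem : substEps a (G'.F s) - G.F s ∈ G.ideal := by
    refine sub_mem (Ideal.Quotient.eq_zero_iff_mem.1 ?_) (Ideal.subset_span ⟨s, rfl⟩)
    rw [← hf, Ideal.Quotient.eq_zero_iff_mem.2 (show G'.F s ∈ G'.ideal from Ideal.subset_span ⟨s, rfl⟩)]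
    exact map_zero f
  have e : substEps a (G'.F s) - G.F s
      = MvPolynomial.C (epsD k) * cExt (D1 k) (MvPolynomial.mkDerivation k a (P.relation s) + g' s - g s) := by
    rw [hG', hG, firstEq, firstEq, map_add, map_mul, substEps_cExt,
      show substEps a (MvPolynomial.C (epsD k)) = MvPolynomial.C (epsD k) from MvPolynomial.aeval_C _ _,
      C_mul_congr (fun x hx => mul_epsD hx) (red_substEps a (cExt (D1 k) (g' s))), map_sub, map_add]
    ring
  have h0 := eps_mul_mk_eq_zero P G (e ▸ hmem)
  rw [red_cExt, map_sub, map_add] at h0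
  linear_combination h0

/-- A cocycle gives a family. -/
theorem exists_family (c : CotT.cocycles1 P B₀) :
    ∃ (G : PFam P (D1 k)) (g : σ → MvPolynomial ι k), G.F = firstEq P g ∧ chain P g = c := by
  choose g hg using fun s => exists_ev_eq P ((c : CotT.L1 P →ₗ[B₀] B₀) (CotT.L1basis P s))
  refine ⟨⟨firstEq P g, red_firstEq P g, fun q hq => ?_⟩, g, rfl,
    (CotT.L1basis P).ext fun s => by rw [chain_basis, hg]⟩
  obtain ⟨q', hq'⟩ := exists_relKer P q hq
  have hev : MvPolynomial.aeval P.val (dot g q) = 0 := by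
    have e := LinearMap.congr_fun (LinearMap.mem_ker.1 c.2) (CotTLib.cls P q')
    rw [CotT.d2Star_apply, LinearMap.comp_apply, CotTLib.d2_cls, L1_apply_one_tmul, LinearMap.zero_apply] at e
    simp only [dot, map_sum, map_mul, hg]
    simp only [smul_eq_mul, ← hq'] at e ⊢
    exact e
  obtain ⟨r, hr⟩ := exists_dot_of_ev P hev
  refine ⟨fun s => cExt (D1 k) (q s) - MvPolynomial.C (epsD k) * cExt (D1 k) (r s), fun s => ?_, ?_⟩
  · rw [map_sub, map_mul, red_cExt, MvPolynomial.map_C, show (D1 k).res.toRingHom (epsD k) = 0 from res_epsD, map_zero,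
      zero_mul, sub_zero]
  · have e : dot (firstEq P g) (fun s => cExt (D1 k) (q s) - MvPolynomial.C (epsD k) * cExt (D1 k) (r s))
        = cExt (D1 k) (dot P.relation q) + MvPolynomial.C (epsD k) * cExt (D1 k) (dot g q - dot P.relation r) := by
      simp only [dot, map_sum, Finset.mul_sum, map_sub, mul_sub, ← Finset.sum_sub_distrib, ← Finset.sum_add_distrib]
      refine Finset.sum_congr rfl fun s _ => ?_
      rw [map_mul, map_mul, map_mul, firstEq]
      linear_combination (-(cExt (D1 k) (r s) * cExt (D1 k) (g s))) * eps_eps (k := k) (ι := ι)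
    rw [e, hq, hr, sub_self, map_zero, mul_zero, add_zero]

/-- The class in `T¹` of a deformation over the dual numbers. -/
def t1 (u : (defF (k := k) B₀).obj (D1 k)) : CotT.T1 P B₀ :=
  Submodule.Quotient.mk ⟨chain P (exists_firstEq P (famOf P u)).choose,
    chain_mem P _ _ (exists_firstEq P (famOf P u)).choose_spec⟩

theorem t1_cl (G : PFam P (D1 k)) (g : σ → MvPolynomial ι k) (hG : G.F = firstEq P g) :
    t1 P G.cl = Submodule.Quotient.mk ⟨chain P g, chain_mem P G g hG⟩ :=
  (Submodule.Quotient.eq _).2 (chain_of_cl_eq P _ G _ g (exists_firstEq P (famOf P G.cl)).choose_spec hG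
    (famOf_cl P G.cl).symm)

theorem bijective_t1 : Function.Bijective (t1 (k := k) P) := by
  refine ⟨fun u v h => ?_, fun c => ?_⟩
  · obtain ⟨g, hg⟩ := exists_firstEq P (famOf P u)
    obtain ⟨g', hg'⟩ := exists_firstEq P (famOf P v)
    have hu := t1_cl P _ g hg
    have hv := t1_cl P _ g' hg'
    rw [famOf_cl] at hu hv
    rw [hu, hv, Submodule.Quotient.eq] at h
    rw [← famOf_cl P u, ← famOf_cl P v]
    exact (cl_eq_of_chain P _ _ g g' hg hg' h).symm
  · obtain ⟨c, rfl⟩ := Submodule.Quotient.mk_surjective _ c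
    obtain ⟨G, g, hG, hc⟩ := exists_family P c
    exact ⟨G.cl, (t1_cl P G g hG).trans (congrArg Submodule.Quotient.mk (Subtype.ext hc))⟩

end Groth.Agent.AffDef
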