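import Groth.Agent.AffDef.ThickSch
import Groth.Agent.ArtFunLib.FlatSeq
import Groth.Agent.CotTLib.Basic

/-!
# Presented families: deformations given by lifted equations
-/

universe u

open CategoryTheory AlgebraicGeometry Limits TensorProduct IsLocalRing MvPolynomial

noncomputable section

namespace Groth.Agent.AffDef

variable {k : Type u} [Field k] {B₀ : Type u} [CommRing B₀] [Algebra k B₀]

section Morph

/-- The deformation of a deformed algebra. -/
def DAlg.toDef {C : ArtFun.Art k k} (S : DAlg C B₀) : Def0 B₀ C where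
  total := Spec (CommRingCat.of S.B)
  f := Spec.map (CommRingCat.ofHom S.φ)
  flat := Flat.SpecMap_iff.2 S.flat
  i := Spec.map (CommRingCat.ofHom S.π)
  isPullback := isPullback_of_ker _ C.res_surjective _ _ _ S.surj S.comm (S.ker.trans (by rw [ker_res_eq]))

variable {A A' : ArtFun.Art k k}

/-- Base change of deformed algebras along a surjection. -/
theorem DAlg.map_toDef (g : A ⟶ A') (hg : Function.Surjective g) (S : DAlg A B₀) (S' : DAlg A' B₀)
    (f : S.B →+* S'.B) (hf : Function.Surjective f) (hφ : f.comp S.φ = S'.φ.comp g.toAlgHom.toRingHom)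
    (hker : RingHom.ker f = (RingHom.ker g.toAlgHom).map S.φ) (hπ : S'.π.comp f = S.π) :
    (ArtFun.defFunctor (Λ := k) (Spec (CommRingCat.of B₀)) (Spec.map (CommRingCat.ofHom (algebraMap k B₀)))).map g
      S.toDef.cl = S'.toDef.cl := by
  have sq : IsPullback (Spec.map (CommRingCat.ofHom f)) S'.toDef.f S.toDef.f (ArtFun.Art.specMap g) :=
    isPullback_of_ker _ hg _ _ _ hf hφ hker
  rw [ArtFun.defFunctor_map_cl]
  refine Quotient.sound ⟨⟨sq.isoPullback.symm, sq.isoPullback_inv_snd, ?_⟩⟩
  rw [Iso.symm_hom]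
  apply sq.hom_ext
  · refine ((Category.assoc _ _ _).trans (congrArg ((S.toDef.baseChange g).i ≫ ·) sq.isoPullback_inv_fst)).trans
      ((ArtFun.DefSch.baseChange_i_fst _ _).trans ?_)
    change Spec.map (CommRingCat.ofHom S.π) = Spec.map (CommRingCat.ofHom S'.π) ≫ Spec.map _
    rw [← Spec.map_comp, ← CommRingCat.ofHom_comp, hπ]
  · exact ((Category.assoc _ _ _).trans (congrArg ((S.toDef.baseChange g).i ≫ ·) sq.isoPullback_inv_snd)).trans
      ((ArtFun.DefSch.baseChange_i_f _ _).trans S'.toDef.i_f.symm)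

/-- A map of deformed algebras over the same base gives an isomorphism of deformations. -/
theorem DAlg.cl_eq_of_hom (S S' : DAlg A B₀) (f : S.B →+* S'.B) (hφ : f.comp S.φ = S'.φ) (hπ : S'.π.comp f = S.π) :
    S.toDef.cl = S'.toDef.cl := by
  have hb := bijective_hom S.φ S'.φ S'.flat S.π S'.π S.surj S.ker S'.ker f hφ hπ
  have h := S.map_toDef (𝟙 A) Function.surjective_id S' f hb.2 (by rw [hφ]; rfl) ?_ hπ
  · rw [← h, CategoryTheory.Functor.map_id]; rfl
  · rw [(RingHom.injective_iff_ker_eq_bot f).1 hb.1, show RingHom.ker (ArtFun.Art.Hom.toAlgHom (𝟙 A)) = ⊥ from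
      (RingHom.injective_iff_ker_eq_bot _).1 (fun _ _ h => h), Ideal.map_bot]

/-- Isomorphic deformations of deformed algebras come from a map of algebras. -/
theorem DAlg.exists_hom_of_cl_eq (S S' : DAlg A B₀) (h : S.toDef.cl = S'.toDef.cl) :
    ∃ f : S.B →+* S'.B, f.comp S.φ = S'.φ ∧ S'.π.comp f = S.π := by
  obtain ⟨e⟩ := Quotient.exact h.symm
  let g : CommRingCat.of S.B ⟶ CommRingCat.of S'.B := Spec.preimage e.iso.hom
  have hg : Spec.map g = e.iso.hom := Spec.map_preimage _
  have h1 : CommRingCat.ofHom S.φ ≫ g = CommRingCat.ofHom S'.φ := Spec.map_injective (by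
    rw [Spec.map_comp, hg]; exact e.hom_f)
  have h2 : g ≫ CommRingCat.ofHom S'.π = CommRingCat.ofHom S.π := Spec.map_injective (by
    rw [Spec.map_comp, hg]; exact e.i_hom)
  exact ⟨g.hom, congrArg CommRingCat.Hom.hom h1, congrArg CommRingCat.Hom.hom h2⟩

theorem Model.cl_eq {C : ArtFun.Art k k} {𝒳 : Def0 B₀ C} (M : Model 𝒳) : M.S.toDef.cl = 𝒳.cl :=
  Quotient.sound ⟨⟨M.j, M.jf, M.ji⟩⟩

end Morph

variable {ι σ : Type u} [Fintype σ]

/-- `Σ v_s F_s`. -/
def dot {R : Type*} [CommRing R] (F v : σ → R) : R := ∑ s, v s * F s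

lemma dot_add {R : Type*} [CommRing R] (F v w : σ → R) : dot F (v + w) = dot F v + dot F w := by
  simp [dot, add_mul, Finset.sum_add_distrib]

lemma dot_sub {R : Type*} [CommRing R] (F v w : σ → R) : dot F (v - w) = dot F v - dot F w := by
  simp [dot, sub_mul, Finset.sum_sub_distrib]

lemma dot_smul {R : Type*} [CommRing R] (a : R) (F v : σ → R) : dot F (fun s => a * v s) = a * dot F v := by
  simp [dot, Finset.mul_sum, mul_assoc]

lemma map_dot {R R' : Type*} [CommRing R] [CommRing R'] (g : R →+* R') (F v : σ → R) :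
    g (dot F v) = dot (fun s => g (F s)) (fun s => g (v s)) := by
  simp [dot]

lemma mem_span_iff_dot {R : Type*} [CommRing R] (F : σ → R) {x : R} :
    x ∈ Ideal.span (Set.range F) ↔ ∃ v, dot F v = x :=
  Ideal.mem_span_range_iff_exists_fun

lemma dot_mem_span {R : Type*} [CommRing R] (F v : σ → R) : dot F v ∈ Ideal.span (Set.range F) :=
  (mem_span_iff_dot F).2 ⟨v, rfl⟩

lemma exists_dot_of_mem_mul {R : Type*} [CommRing R] (F : σ → R) (J : Ideal R) {x : R}
    (hx : x ∈ J * Ideal.span (Set.range F)) : ∃ w, (∀ s, w s ∈ J) ∧ dot F w = x := by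
  induction hx using Submodule.mul_induction_on' with
  | mem_mul_mem a ha y hy =>
    obtain ⟨v, rfl⟩ := (mem_span_iff_dot F).1 hy
    exact ⟨fun s => a * v s, fun s => Ideal.mul_mem_right _ _ ha, dot_smul a F v⟩
  | add y _ z _ hy hz =>
    obtain ⟨v, hv, rfl⟩ := hy
    obtain ⟨w, hw, rfl⟩ := hz
    exact ⟨v + w, fun s => add_mem (hv s) (hw s), dot_add F v w⟩

variable (P : Algebra.Presentation k B₀ ι σ)

lemma ev_relation (s : σ) : MvPolynomial.aeval P.val (P.relation s) = 0 :=
  (P.algebraMap_apply _).symm.trans (P.relation_mem_ker s)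

lemma exists_dot_of_ev {x : MvPolynomial ι k} (hx : MvPolynomial.aeval P.val x = 0) :
    ∃ a, dot P.relation a = x := by
  rw [← mem_span_iff_dot]
  rw [P.span_range_relation_eq_ker]
  exact (P.algebraMap_apply x).trans hx

/-- Reduction of coefficients. -/
abbrev red (C : ArtFun.Art k k) : MvPolynomial ι C →+* MvPolynomial ι k := MvPolynomial.map C.res.toRingHom

lemma red_surjective (C : ArtFun.Art k k) : Function.Surjective (red (ι := ι) C) :=
  MvPolynomial.map_surjective _ C.res_surjective

lemma ker_red (C : ArtFun.Art k k) :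
    RingHom.ker (red (ι := ι) C) = (maximalIdeal C).map (algebraMap C (MvPolynomial ι C)) := by
  rw [MvPolynomial.ker_map, ker_res_eq]
  rfl

/-- Coefficientwise image of `P`'s structure map. -/
lemma red_map {C' C : ArtFun.Art k k} (g : C' ⟶ C) (x : MvPolynomial ι C') :
    red C (MvPolynomial.map g.toAlgHom.toRingHom x) = red C' x := by
  rw [MvPolynomial.map_map]
  exact congrArg (fun h : C' →+* k => MvPolynomial.map h x) (congrArg AlgHom.toRingHom g.res_comp)

/-- Equations over `C` lifting those of `P`, whose relations lift. -/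
structure PFam (C : ArtFun.Art k k) where
  F : σ → MvPolynomial ι C
  red_F : ∀ s, red C (F s) = P.relation s
  lifts : ∀ q, dot P.relation q = 0 → ∃ R, (∀ s, red C (R s) = q s) ∧ dot F R = 0

namespace PFam

variable {P} {C : ArtFun.Art k k} (G : PFam P C)

/-- The ideal of the equations. -/
abbrev ideal : Ideal (MvPolynomial ι C) := Ideal.span (Set.range G.F)

/-- The algebra of the family. -/
abbrev alg : Type u := MvPolynomial ι C ⧸ G.ideal

lemma red_dot (v : σ → MvPolynomial ι C) : red C (dot G.F v) = dot P.relation (fun s => red C (v s)) := by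
  rw [map_dot]
  exact congrArg (fun F => dot F _) (funext G.red_F)

theorem flat : Module.Flat C G.alg := by
  rw [ArtFunLib.FlatSeq.flat_quotient_iff]
  rintro x ⟨hx, hxm⟩
  obtain ⟨v, rfl⟩ := (mem_span_iff_dot _).1 hx
  have hq : dot P.relation (fun s => red C (v s)) = 0 := by
    rw [← G.red_dot, ← RingHom.mem_ker, ker_red]; exact hxm
  obtain ⟨R, hR, hR0⟩ := G.lifts _ hq
  rw [show dot G.F v = dot G.F (v - R) by rw [dot_sub, hR0, sub_zero]]
  refine sum_mem fun s _ => Ideal.mul_mem_mul ?_ (Ideal.subset_span ⟨s, rfl⟩)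
  rw [← ker_red, RingHom.mem_ker, Pi.sub_apply, map_sub, hR, sub_self]

/-- The augmentation. -/
def π : G.alg →+* B₀ :=
  Ideal.Quotient.lift _ ((MvPolynomial.aeval P.val).toRingHom.comp (red C)) (fun x hx => by
    obtain ⟨v, rfl⟩ := (mem_span_iff_dot _).1 hx
    change MvPolynomial.aeval P.val (red C (dot G.F v)) = 0
    rw [G.red_dot, dot, map_sum]
    exact Finset.sum_eq_zero fun s _ => by rw [map_mul, ev_relation, mul_zero])

lemma π_mk (x : MvPolynomial ι C) : G.π (Ideal.Quotient.mk _ x) = MvPolynomial.aeval P.val (red C x) := rfl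

/-- The deformed algebra. -/
def dalg : DAlg C B₀ where
  B := G.alg
  φ := algebraMap C G.alg
  π := G.π
  surj b := by
    obtain ⟨x, rfl⟩ := P.algebraMap_surjective b
    obtain ⟨y, rfl⟩ := red_surjective C x
    exact ⟨Ideal.Quotient.mk _ y, (P.algebraMap_apply _).symm⟩
  comm := RingHom.ext fun c => by
    change MvPolynomial.aeval P.val (red C (MvPolynomial.C c)) = algebraMap k B₀ (C.res c)
    rw [MvPolynomial.map_C, MvPolynomial.aeval_C]
    rfl
  ker := by
    refine le_antisymm (fun z hz => ?_) (Ideal.map_le_iff_le_comap.2 fun c hc => ?_)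
    · obtain ⟨x, rfl⟩ := Ideal.Quotient.mk_surjective z
      obtain ⟨a, ha⟩ := exists_dot_of_ev P (show MvPolynomial.aeval P.val (red C x) = 0 from hz)
      choose v hv using fun s => red_surjective C (a s)
      have h1 : x - dot G.F v ∈ RingHom.ker (red C) := by
        rw [RingHom.mem_ker, map_sub, G.red_dot]
        simp only [hv]
        rw [ha, sub_self]
      rw [ker_red] at h1
      have h2 := Ideal.mem_map_of_mem (Ideal.Quotient.mk G.ideal) h1
      rw [map_sub, Ideal.Quotient.eq_zero_iff_mem.2 (dot_mem_span G.F v), sub_zero, Ideal.map_map] at h2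
      exact h2
    · change MvPolynomial.aeval P.val (red C (MvPolynomial.C c)) = 0
      rw [MvPolynomial.map_C, MvPolynomial.aeval_C, show C.res.toRingHom c = 0 from (ArtFun.Art.mem_maximalIdeal_iff _ _).1 hc,
        map_zero]
  flat := RingHom.flat_algebraMap_iff.2 G.flat

/-- The deformation of a presented family. -/
abbrev cl : (ArtFun.defFunctor (Λ := k) (Spec (CommRingCat.of B₀)) (Spec.map (CommRingCat.ofHom (algebraMap k B₀)))).obj C :=
  G.dalg.toDef.cl

variable {C' : ArtFun.Art k k}

/-- Push forward along a surjection. -/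
def push (g : C ⟶ C') : PFam P C' where
  F s := MvPolynomial.map g.toAlgHom.toRingHom (G.F s)
  red_F s := by rw [red_map]; exact G.red_F s
  lifts q hq := by
    obtain ⟨R, hR, hR0⟩ := G.lifts q hq
    refine ⟨fun s => MvPolynomial.map g.toAlgHom.toRingHom (R s), fun s => by rw [red_map]; exact hR s, ?_⟩
    rw [← map_dot, hR0, map_zero]

theorem map_cl (g : C ⟶ C') (hg : Function.Surjective g) (G' : PFam P C')
    (hG' : ∀ s, G'.F s = MvPolynomial.map g.toAlgHom.toRingHom (G.F s)) :
    (ArtFun.defFunctor (Λ := k) (Spec (CommRingCat.of B₀)) (Spec.map (CommRingCat.ofHom (algebraMap k B₀)))).map g G.cl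
      = G'.cl := by
  have hI : G.ideal.map (MvPolynomial.map g.toAlgHom.toRingHom) = G'.ideal := by
    rw [Ideal.map_span, ← Set.range_comp]
    exact congrArg (fun F => Ideal.span (Set.range F)) (funext fun s => (hG' s).symm)
  let f : G.alg →+* G'.alg := Ideal.quotientMap _ (MvPolynomial.map g.toAlgHom.toRingHom)
    (Ideal.map_le_iff_le_comap.1 hI.le)
  refine DAlg.map_toDef g hg G.dalg G'.dalg f ?_ ?_ ?_ ?_
  · exact Ideal.quotientMap_surjective (MvPolynomial.map_surjective _ hg)
  · refine RingHom.ext fun c => ?_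
    change Ideal.Quotient.mk _ (MvPolynomial.map _ (MvPolynomial.C c)) = Ideal.Quotient.mk _ (MvPolynomial.C _)
    rw [MvPolynomial.map_C]
  · refine le_antisymm (fun z hz => ?_) (Ideal.map_le_iff_le_comap.2 fun c hc => ?_)
    · obtain ⟨x, rfl⟩ := Ideal.Quotient.mk_surjective z
      have hz' : Ideal.Quotient.mk G'.ideal (MvPolynomial.map g.toAlgHom.toRingHom x) = 0 := hz
      rw [Ideal.Quotient.eq_zero_iff_mem, ← hI,
        Ideal.mem_map_iff_of_surjective _ (MvPolynomial.map_surjective _ hg)] at hz'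
      obtain ⟨y, hy, hxy⟩ := hz'
      have h1 : x - y ∈ RingHom.ker (MvPolynomial.map (σ := ι) g.toAlgHom.toRingHom) := by
        rw [RingHom.mem_ker, map_sub, hxy, sub_self]
      rw [MvPolynomial.ker_map] at h1
      have h2 := Ideal.mem_map_of_mem (Ideal.Quotient.mk G.ideal) h1
      rw [map_sub, Ideal.Quotient.eq_zero_iff_mem.2 hy, sub_zero, Ideal.map_map] at h2
      exact h2
    · change Ideal.Quotient.mk G'.ideal (MvPolynomial.map g.toAlgHom.toRingHom (MvPolynomial.C c)) = 0
      rw [MvPolynomial.map_C, show g.toAlgHom.toRingHom c = 0 from hc, map_zero, map_zero]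
  · refine Ideal.Quotient.ringHom_ext (RingHom.ext fun x => ?_)
    change MvPolynomial.aeval P.val (red C' (MvPolynomial.map g.toAlgHom.toRingHom x)) = MvPolynomial.aeval P.val (red C x)
    rw [red_map]

/-- A retraction onto the exact relations. -/
theorem exists_retraction : ∃ ρ : (σ → MvPolynomial ι C) →ₗ[C] (σ → MvPolynomial ι C),
    (∀ v, dot G.F (ρ v) = 0) ∧ ∀ v, dot G.F v = 0 → ρ v = v := by
  have hnil : IsNilpotent (maximalIdeal C) :=
    IsLocalRing.jacobson_eq_maximalIdeal (R := C) ⊥ bot_ne_top ▸ IsArtinianRing.isNilpotent_jacobson_bot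
  haveI := G.flat
  haveI : Module.Free C G.alg := DefMod95.EndDeform.free_of_flat_of_nilpotent hnil
  let mk : MvPolynomial ι C →ₗ[C] G.alg := (Ideal.Quotient.mkₐ C G.ideal).toLinearMap
  obtain ⟨s, hs⟩ := Module.projective_lifting_property mk LinearMap.id Ideal.Quotient.mk_surjective
  let Φ : (σ → MvPolynomial ι C) →ₗ[C] MvPolynomial ι C :=
    { toFun := dot G.F
      map_add' := dot_add G.F
      map_smul' := fun c v => by simp [dot, Finset.smul_sum] }
  let N := G.ideal.restrictScalars C
  let r : MvPolynomial ι C →ₗ[C] N := LinearMap.codRestrict N (LinearMap.id - s.comp mk) fun x => by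
    refine Ideal.Quotient.eq_zero_iff_mem.1 ?_
    change mk (x - s (mk x)) = 0
    rw [map_sub, show mk (s (mk x)) = mk x from LinearMap.congr_fun hs (mk x), sub_self]
  have hr : r.comp N.subtype = LinearMap.id := LinearMap.ext fun x => Subtype.ext (by
    change (x : MvPolynomial ι C) - s (mk x) = x
    rw [show mk (x : MvPolynomial ι C) = 0 from Ideal.Quotient.eq_zero_iff_mem.2 x.2, map_zero, sub_zero])
  haveI : Module.Projective C N := Module.Projective.of_split N.subtype r hr
  let Φ' : (σ → MvPolynomial ι C) →ₗ[C] N := Φ.codRestrict N (fun v => dot_mem_span G.F v)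
  obtain ⟨t, ht⟩ := Module.projective_lifting_property Φ' LinearMap.id (fun x => by
    obtain ⟨v, hv⟩ := (mem_span_iff_dot _).1 x.2
    exact ⟨v, Subtype.ext hv⟩)
  refine ⟨LinearMap.id - t.comp Φ', fun v => ?_, fun v hv => ?_⟩
  · change Φ (v - t (Φ' v)) = 0
    rw [map_sub, show Φ (t (Φ' v)) = Φ v from congrArg Subtype.val (LinearMap.congr_fun ht (Φ' v)), sub_self]
  · change v - t (Φ' v) = v
    rw [show Φ' v = 0 from Subtype.ext hv, map_zero, sub_zero]

/-- Exact relations vanishing on the closed fibre lie in `m` times the exact relations. -/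
theorem mem_smul_rel {v : σ → MvPolynomial ι C} (hv : dot G.F v = 0) (hred : ∀ s, red C (v s) = 0) :
    ∃ ρ : (σ → MvPolynomial ι C) →ₗ[C] (σ → MvPolynomial ι C), (∀ w, dot G.F (ρ w) = 0) ∧
      v ∈ maximalIdeal C • LinearMap.range ρ := by
  classical
  obtain ⟨ρ, h1, h2⟩ := G.exists_retraction
  refine ⟨ρ, h1, ?_⟩
  have hmem : v ∈ maximalIdeal C • (⊤ : Submodule C (σ → MvPolynomial ι C)) := by
    rw [← Finset.univ_sum_single v]
    refine sum_mem fun s _ => ?_
    have h3 : v s ∈ maximalIdeal C • (⊤ : Submodule C (MvPolynomial ι C)) := by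
      rw [Ideal.smul_top_eq_map, Submodule.restrictScalars_mem, ← ker_red]
      exact hred s
    refine Submodule.smul_induction_on h3 (fun c hc x _ => ?_) fun x y hx hy => ?_
    · rw [Pi.single_smul]
      exact Submodule.smul_mem_smul hc Submodule.mem_top
    · rw [Pi.single_add]
      exact add_mem hx hy
  have h4 := Submodule.mem_map_of_mem (f := ρ) hmem
  rw [h2 v hv, Submodule.map_smul'', Submodule.map_top] at h4
  exact h4

end PFam

/-- Every deformed algebra is a presented family. -/
theorem exists_pfam {C : ArtFun.Art k k} (S : DAlg C B₀) : ∃ G : PFam P C, G.cl = S.toDef.cl := by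
  letI := S.φ.toAlgebra
  choose x hx using fun i => S.surj (P.val i)
  let ψ : MvPolynomial ι C →ₐ[C] S.B := MvPolynomial.aeval x
  have hψπ : ∀ y, S.π (ψ y) = MvPolynomial.aeval P.val (red C y) := by
    intro y
    refine RingHom.congr_fun (f := S.π.comp ψ.toRingHom) (g := (MvPolynomial.aeval P.val).toRingHom.comp (red C))
      (MvPolynomial.ringHom_ext (fun c => ?_) fun i => ?_) y
    · refine (congrArg S.π (MvPolynomial.aeval_C x c)).trans ((RingHom.congr_fun S.comm c).trans ?_)
      change _ = MvPolynomial.aeval P.val (red C (MvPolynomial.C c))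
      rw [MvPolynomial.map_C, MvPolynomial.aeval_C]
      rfl
    · refine (congrArg S.π (MvPolynomial.aeval_X x i)).trans ((hx i).trans ?_)
      change _ = MvPolynomial.aeval P.val (red C (MvPolynomial.X i))
      rw [MvPolynomial.map_X, MvPolynomial.aeval_X]
  have hnil : IsNilpotent (maximalIdeal C) :=
    IsLocalRing.jacobson_eq_maximalIdeal (R := C) ⊥ bot_ne_top ▸ IsArtinianRing.isNilpotent_jacobson_bot
  -- surjectivity
  have hψ : Function.Surjective ψ := by
    have hstep : ∀ y : S.B, ∃ z, y - ψ z ∈ (maximalIdeal C).map S.φ := by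
      intro y
      obtain ⟨w, hw⟩ := P.algebraMap_surjective (S.π y)
      obtain ⟨z, rfl⟩ := red_surjective C w
      refine ⟨z, S.ker.le ?_⟩
      rw [RingHom.mem_ker, map_sub, hψπ, ← hw, P.algebraMap_apply, sub_self]
    have hall : ∀ n : ℕ, ∀ y : S.B, ∃ z, y - ψ z ∈ (maximalIdeal C ^ n).map S.φ := by
      intro n
      induction n with
      | zero => intro y; exact ⟨0, by simp [Ideal.map_top]⟩
      | succ n ih =>
        intro y
        obtain ⟨z, hz⟩ := ih y
        have hmem : ∀ u ∈ (maximalIdeal C ^ n).map S.φ, ∀ r : S.B, ∃ z, r * u - ψ z ∈ (maximalIdeal C ^ (n + 1)).map S.φ := by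
          intro u hu
          induction hu using Submodule.span_induction with
          | mem u hu =>
            obtain ⟨a, ha, rfl⟩ := hu
            intro r
            obtain ⟨z, hz⟩ := hstep r
            refine ⟨MvPolynomial.C a * z, ?_⟩
            rw [map_mul, show ψ (MvPolynomial.C a) = S.φ a from MvPolynomial.aeval_C _ _, mul_comm r, ← mul_sub,
              pow_succ, Ideal.map_mul]
            exact Ideal.mul_mem_mul (Ideal.mem_map_of_mem _ ha) hz
          | zero => exact fun r => ⟨0, by simp⟩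
          | add u v _ _ hu hv =>
            intro r
            obtain ⟨a, ha⟩ := hu r
            obtain ⟨b, hb⟩ := hv r
            refine ⟨a + b, ?_⟩
            rw [map_add, mul_add, add_sub_add_comm]
            exact add_mem ha hb
          | smul c u _ hu =>
            intro r
            rw [smul_eq_mul, ← mul_assoc]
            exact hu _
        obtain ⟨w, hw⟩ := hmem _ hz 1
        exact ⟨z + w, by rwa [map_add, ← sub_sub, ← one_mul (y - ψ z)]⟩
    intro y
    obtain ⟨n, hn⟩ := hnil
    obtain ⟨z, hz⟩ := hall n y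
    rw [hn, Submodule.zero_eq_bot, Ideal.map_bot, Ideal.mem_bot, sub_eq_zero] at hz
    exact ⟨z, hz.symm⟩
  -- equations
  have hker : ∀ y : MvPolynomial ι C, ψ y ∈ (maximalIdeal C).map S.φ →
      ∃ M, red C M = 0 ∧ ψ M = ψ y := by
    intro y hy
    rw [show S.φ = ψ.toRingHom.comp (algebraMap C (MvPolynomial ι C)) from ψ.comp_algebraMap.symm, ← Ideal.map_map] at hy
    obtain ⟨M, hM, hMy⟩ := (Ideal.mem_map_iff_of_surjective _ hψ).1 hy
    exact ⟨M, by rwa [← RingHom.mem_ker, ker_red], hMy⟩
  choose F₀ hF₀ using fun s => red_surjective C (P.relation s)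
  have hF₀m : ∀ s, ψ (F₀ s) ∈ (maximalIdeal C).map S.φ := fun s => S.ker.le (by
    rw [RingHom.mem_ker, hψπ, hF₀, ev_relation])
  choose M hM₁ hM₂ using fun s => hker _ (hF₀m s)
  let F : σ → MvPolynomial ι C := fun s => F₀ s - M s
  have hF : ∀ s, red C (F s) = P.relation s := fun s => by rw [map_sub, hF₀, hM₁, sub_zero]
  have hFψ : ∀ v, ψ (dot F v) = 0 := fun v => by
    rw [dot, map_sum]
    exact Finset.sum_eq_zero fun s _ => by rw [map_mul, map_sub, hM₂, sub_self, mul_zero]
  let I := RingHom.ker ψ.toRingHom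
  have hflatI : Module.Flat C (MvPolynomial ι C ⧸ I) := by
    haveI : Module.Flat C S.B := S.flat
    exact Module.Flat.of_linearEquiv (Ideal.quotientKerAlgEquivOfSurjective hψ).toLinearEquiv
  have hcrit := (ArtFunLib.FlatSeq.flat_quotient_iff I).1 hflatI
  have hred_ev : ∀ y ∈ I, MvPolynomial.aeval P.val (red C y) = 0 := fun y hy => by
    rw [← hψπ, show ψ y = 0 from hy, map_zero]
  have happrox : ∀ y ∈ I, ∃ v, y - dot F v ∈ (maximalIdeal C).map (algebraMap C (MvPolynomial ι C)) * I := by
    intro y hy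
    obtain ⟨a, ha⟩ := exists_dot_of_ev P (hred_ev y hy)
    choose v hv using fun s => red_surjective C (a s)
    refine ⟨v, hcrit ⟨sub_mem hy (hFψ v), ?_⟩⟩
    rw [SetLike.mem_coe, ← ker_red, RingHom.mem_ker, map_sub, map_dot]
    simp only [hv, hF]
    rw [ha, sub_self]
  have hspan : I ≤ Ideal.span (Set.range F) := by
    have hall : ∀ n : ℕ, I ≤ Ideal.span (Set.range F) ⊔ ((maximalIdeal C).map (algebraMap C (MvPolynomial ι C))) ^ n * I := by
      intro n
      induction n with
      | zero => rw [pow_zero, one_mul]; exact le_sup_right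
      | succ n ih =>
        refine ih.trans (sup_le le_sup_left ?_)
        have h1 : I ≤ Ideal.span (Set.range F) ⊔ (maximalIdeal C).map (algebraMap C (MvPolynomial ι C)) * I := fun y hy => by
          obtain ⟨v, hv⟩ := happrox y hy
          rw [← add_sub_cancel (dot F v) y]
          exact Submodule.add_mem_sup (dot_mem_span F v) hv
        refine (Ideal.mul_mono_right h1).trans ?_
        rw [Ideal.mul_sup, pow_succ, mul_assoc]
        exact sup_le_sup_right Ideal.mul_le_right _
    obtain ⟨n, hn⟩ := hnil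
    have h2 := hall n
    rwa [← Ideal.map_pow, hn, Submodule.zero_eq_bot, Ideal.map_bot, Ideal.bot_mul, sup_bot_eq] at h2
  let G : PFam P C :=
    { F := F
      red_F := hF
      lifts := fun q hq => by
        choose v hv using fun s => red_surjective C (q s)
        have h1 : dot F v ∈ I ⊓ (maximalIdeal C).map (algebraMap C (MvPolynomial ι C)) := by
          refine ⟨hFψ v, ?_⟩
          rw [SetLike.mem_coe, ← ker_red, RingHom.mem_ker, map_dot]
          simp only [hv, hF]
          exact hq
        obtain ⟨w, hw, hwv⟩ := exists_dot_of_mem_mul F _ (Ideal.mul_mono_right hspan (hcrit h1))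
        refine ⟨fun s => v s - w s, fun s => ?_, ?_⟩
        · rw [map_sub, hv, show red C (w s) = 0 from RingHom.mem_ker.1 ((ker_red C).ge (hw s)), sub_zero]
        · rw [show (fun s => v s - w s) = v - w from rfl, dot_sub, hwv, sub_self] }
  refine ⟨G, DAlg.cl_eq_of_hom G.dalg S (Ideal.Quotient.lift _ ψ.toRingHom fun y hy => ?_) (RingHom.ext fun c => ?_) ?_⟩
  · obtain ⟨v, rfl⟩ := (mem_span_iff_dot _).1 hy
    exact hFψ v
  · exact MvPolynomial.aeval_C x c
  · exact Ideal.Quotient.ringHom_ext (RingHom.ext hψπ)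

end Groth.Agent.AffDef
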