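import Groth.Prelude.Def_ArtFun3
import Groth.Agent.AffDef.PFam
import Groth.Agent.ArtFunLib.Basic

/-!
# The obstruction theory with values in `T²`
-/

universe u

open CategoryTheory AlgebraicGeometry TensorProduct IsLocalRing MvPolynomial

noncomputable section

namespace Groth.Agent.AffDef

variable {k : Type u} [Field k] {B₀ : Type u} [CommRing B₀] [Algebra k B₀] {ι σ : Type u}
variable (P : Algebra.Presentation k B₀ ι σ)

section Contract

variable {C : ArtFun.Art k k}

/-- The map to the trivial deformation. -/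
def theta (C : ArtFun.Art k k) : MvPolynomial ι C →+* B₀ ⊗[k] C :=
  MvPolynomial.eval₂Hom (Algebra.TensorProduct.includeRight : (C : Type u) →ₐ[k] B₀ ⊗[k] C).toRingHom
    fun i => P.val i ⊗ₜ 1

/-- Contraction of the trivial deformation with a functional. -/
def phi' (l : (C : Type u) →ₗ[k] k) : MvPolynomial ι C →+ B₀ :=
  ((TensorProduct.rid k B₀).toLinearMap ∘ₗ l.lTensor B₀).toAddMonoidHom.comp (theta P C).toAddMonoidHom

lemma phi'_apply (l : (C : Type u) →ₗ[k] k) (x : MvPolynomial ι C) :
    phi' P l x = TensorProduct.rid k B₀ (l.lTensor B₀ (theta P C x)) := rfl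

lemma phi'_add (l l' : (C : Type u) →ₗ[k] k) (x : MvPolynomial ι C) :
    phi' P (l + l') x = phi' P l x + phi' P l' x := by
  rw [phi'_apply, LinearMap.lTensor_add, LinearMap.add_apply, map_add]
  rfl

lemma phi'_smul (c : k) (l : (C : Type u) →ₗ[k] k) (x : MvPolynomial ι C) :
    phi' P (c • l) x = c • phi' P l x := by
  rw [phi'_apply, LinearMap.lTensor_smul, LinearMap.smul_apply, map_smul]
  rfl

variable {C' : ArtFun.Art k k}

lemma theta_map (g : C ⟶ C') (x : MvPolynomial ι C) :
    theta P C' (MvPolynomial.map g.toAlgHom.toRingHom x)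
      = Algebra.TensorProduct.map (AlgHom.id k B₀) g.toAlgHom (theta P C x) := by
  refine RingHom.congr_fun (f := (theta P C').comp (MvPolynomial.map g.toAlgHom.toRingHom))
    (g := (Algebra.TensorProduct.map (AlgHom.id k B₀) g.toAlgHom).toRingHom.comp (theta P C))
    (MvPolynomial.ringHom_ext (fun c => ?_) fun i => ?_) x
  · simp [theta]
  · simp [theta]

lemma phi'_map (g : C ⟶ C') (l : (C' : Type u) →ₗ[k] k) (x : MvPolynomial ι C) :
    phi' P l (MvPolynomial.map g.toAlgHom.toRingHom x) = phi' P (l.comp g.toAlgHom.toLinearMap) x := by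
  rw [phi'_apply, phi'_apply, theta_map, LinearMap.lTensor_comp, LinearMap.comp_apply]
  rfl

variable {p : C' ⟶ C}

lemma phi'_C_mul (hp : ArtFun.Art.IsSemismallExt p) (l : (C' : Type u) →ₗ[k] k) {j : C'}
    (hj : j ∈ RingHom.ker p.toAlgHom) (g : MvPolynomial ι C') :
    phi' P l (MvPolynomial.C j * g) = l j • MvPolynomial.aeval P.val (red C' g) := by
  induction g using MvPolynomial.induction_on with
  | C c =>
    rw [← map_mul, MvPolynomial.map_C, MvPolynomial.aeval_C, phi'_apply]
    rw [show theta P C' (MvPolynomial.C (j * c)) = (1 : B₀) ⊗ₜ[k] (j * c) by simp [theta]]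
    rw [LinearMap.lTensor_tmul, TensorProduct.rid_tmul, mul_comm j, mul_eq_res_mul hp c hj, ← Algebra.smul_def,
      map_smul, Algebra.algebraMap_eq_smul_one, smul_smul, smul_eq_mul, mul_comm]
    rfl
  | add x y hx hy => rw [mul_add, map_add, map_add, map_add, smul_add, hx, hy]
  | mul_X g i hg =>
    have key : ∀ z : B₀ ⊗[k] C', TensorProduct.rid k B₀ (l.lTensor B₀ (z * (P.val i ⊗ₜ 1)))
        = TensorProduct.rid k B₀ (l.lTensor B₀ z) * P.val i := by
      intro z
      induction z using TensorProduct.induction_on with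
      | zero => simp
      | tmul b c => simp
      | add y z hy hz => rw [add_mul, map_add, map_add, map_add, map_add, add_mul, hy, hz]
    rw [← mul_assoc, map_mul (red C'), MvPolynomial.map_X, map_mul (MvPolynomial.aeval P.val), MvPolynomial.aeval_X,
      phi'_apply, map_mul (theta P C'), show theta P C' (MvPolynomial.X i) = P.val i ⊗ₜ 1 by simp [theta], key,
      ← phi'_apply, hg, smul_mul_assoc]

lemma C_mul_eq_zero (hp : ArtFun.Art.IsSemismallExt p) {j : C'} (hj : j ∈ RingHom.ker p.toAlgHom)
    {y : MvPolynomial ι C'} (hy : red C' y = 0) : MvPolynomial.C j * y = 0 := by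
  have hy' : y ∈ (maximalIdeal C').map (algebraMap C' (MvPolynomial ι C')) := ker_red C' ▸ hy
  clear hy
  induction hy' using Submodule.span_induction with
  | mem y hy =>
    obtain ⟨a, ha, rfl⟩ := hy
    change MvPolynomial.C j * MvPolynomial.C a = 0
    rw [← map_mul, mul_comm, mul_ker_eq_zero hp ha hj, map_zero]
  | zero => rw [mul_zero]
  | add x y _ _ hx hy => rw [mul_add, hx, hy, add_zero]
  | smul r x _ hx => rw [smul_eq_mul, mul_left_comm, hx, mul_zero]

/-- Elements killed by the coefficient map are combinations of `C j * g`. -/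
lemma ker_map_induction {motive : MvPolynomial ι C' → Prop} (h0 : motive 0)
    (hadd : ∀ x y, motive x → motive y → motive (x + y))
    (hC : ∀ (j : C') (g : MvPolynomial ι C'), j ∈ RingHom.ker p.toAlgHom → motive (MvPolynomial.C j * g))
    {x : MvPolynomial ι C'} (hx : MvPolynomial.map p.toAlgHom.toRingHom x = 0) : motive x := by
  have hx' : x ∈ (RingHom.ker p.toAlgHom).map (MvPolynomial.C : C' →+* MvPolynomial ι C') := by
    rw [show RingHom.ker p.toAlgHom = RingHom.ker p.toAlgHom.toRingHom from rfl, ← MvPolynomial.ker_map]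
    exact hx
  clear hx
  suffices h : ∀ g, motive (x * g) by simpa using h 1
  induction hx' using Submodule.span_induction with
  | mem x hx =>
    obtain ⟨j, hj, rfl⟩ := hx
    exact fun g => hC j g hj
  | zero => exact fun g => by rw [zero_mul]; exact h0
  | add x y _ _ hx hy => exact fun g => by rw [add_mul]; exact hadd _ _ (hx g) (hy g)
  | smul r x _ hx => exact fun g => by rw [smul_eq_mul, mul_comm r, mul_assoc]; exact hx _

lemma phi'_mul (hp : ArtFun.Art.IsSemismallExt p) (l : (C' : Type u) →ₗ[k] k) {x : MvPolynomial ι C'}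
    (hx : MvPolynomial.map p.toAlgHom.toRingHom x = 0) (a : MvPolynomial ι C') :
    phi' P l (x * a) = MvPolynomial.aeval P.val (red C' a) * phi' P l x := by
  refine ker_map_induction (p := p)
    (motive := fun x => phi' P l (x * a) = MvPolynomial.aeval P.val (red C' a) * phi' P l x) (by simp)
    (fun x y hx hy => by rw [add_mul, map_add, map_add, hx, hy, mul_add]) (fun j g hj => ?_) hx
  rw [mul_assoc, phi'_C_mul P hp l hj, phi'_C_mul P hp l hj, map_mul, map_mul, mul_smul_comm, mul_comm]

lemma phi'_congr (hp : ArtFun.Art.IsSemismallExt p) (l l' : (C' : Type u) →ₗ[k] k)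
    (h : ∀ j ∈ RingHom.ker p.toAlgHom, l j = l' j) {x : MvPolynomial ι C'}
    (hx : MvPolynomial.map p.toAlgHom.toRingHom x = 0) : phi' P l x = phi' P l' x := by
  exact ker_map_induction (p := p) (motive := fun x => phi' P l x = phi' P l' x) (by simp)
    (fun x y hx hy => by rw [map_add, map_add, hx, hy])
    (fun j g hj => by rw [phi'_C_mul P hp l hj, phi'_C_mul P hp l' hj, h j hj]) hx

variable (p)

/-- A basis of the kernel. -/
abbrev kerBasis : Module.Basis (Module.Basis.ofVectorSpaceIndex k ↥(RingHom.ker p.toAlgHom)) k ↥(RingHom.ker p.toAlgHom) :=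
  Module.Basis.ofVectorSpace k _

instance finite_ker : Module.Finite k ↥(RingHom.ker p.toAlgHom) := by
  haveI : Module.Finite k C' := ArtFunLib.module_finite C'
  exact Module.Finite.of_injective ((RingHom.ker p.toAlgHom).subtype.restrictScalars k) Subtype.val_injective

instance fintype_kerIndex : Fintype (Module.Basis.ofVectorSpaceIndex k ↥(RingHom.ker p.toAlgHom)) :=
  FiniteDimensional.fintypeBasisIndex (kerBasis p)

/-- The extended coordinate functionals. -/
def kerCoord (i : Module.Basis.ofVectorSpaceIndex k ↥(RingHom.ker p.toAlgHom)) : (C' : Type u) →ₗ[k] k :=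
  (LinearMap.exists_extend (p := (RingHom.ker p.toAlgHom).restrictScalars k) ((kerBasis p).coord i)).choose

lemma kerCoord_apply (i : Module.Basis.ofVectorSpaceIndex k ↥(RingHom.ker p.toAlgHom)) (j : C')
    (hj : j ∈ RingHom.ker p.toAlgHom) : kerCoord p i j = (kerBasis p).repr ⟨j, hj⟩ i :=
  LinearMap.congr_fun
    (LinearMap.exists_extend (p := (RingHom.ker p.toAlgHom).restrictScalars k) ((kerBasis p).coord i)).choose_spec ⟨j, hj⟩

lemma exists_rep (hp : ArtFun.Art.IsSemismallExt p) {x : MvPolynomial ι C'}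
    (hx : MvPolynomial.map p.toAlgHom.toRingHom x = 0) :
    ∃ g : _ → MvPolynomial ι C', x = ∑ i, MvPolynomial.C ((kerBasis p i : C')) * g i ∧
      ∀ i, phi' P (kerCoord p i) x = MvPolynomial.aeval P.val (red C' (g i)) := by
  have h1 : ∃ g : _ → MvPolynomial ι C', x = ∑ i, MvPolynomial.C ((kerBasis p i : C')) * g i := by
    refine ker_map_induction (p := p)
      (motive := fun x => ∃ g : _ → MvPolynomial ι C', x = ∑ i, MvPolynomial.C ((kerBasis p i : C')) * g i)
      ⟨0, by simp⟩ (fun x y hx hy => ?_) (fun j g hj => ?_) hx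
    · obtain ⟨g, rfl⟩ := hx
      obtain ⟨h, rfl⟩ := hy
      exact ⟨g + h, by simp [mul_add, Finset.sum_add_distrib]⟩
    · refine ⟨fun i => MvPolynomial.C (algebraMap k C' ((kerBasis p).repr ⟨j, hj⟩ i)) * g, ?_⟩
      have h := congrArg Subtype.val ((kerBasis p).sum_repr ⟨j, hj⟩)
      rw [AddSubmonoidClass.coe_finsetSum] at h
      conv_lhs => rw [show j = _ from h.symm, map_sum, Finset.sum_mul]
      refine Finset.sum_congr rfl fun i _ => ?_
      rw [Submodule.coe_smul_of_tower, Algebra.smul_def, map_mul]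
      ring
  obtain ⟨g, rfl⟩ := h1
  refine ⟨g, rfl, fun l => ?_⟩
  rw [map_sum, Finset.sum_eq_single l]
  · rw [phi'_C_mul P hp _ (kerBasis p l).2, kerCoord_apply p l _ (kerBasis p l).2, Module.Basis.repr_self,
      Finsupp.single_eq_same, one_smul]
  · intro i _ hne
    rw [phi'_C_mul P hp _ (kerBasis p i).2, kerCoord_apply p l _ (kerBasis p i).2, Module.Basis.repr_self,
      Finsupp.single_eq_of_ne (Ne.symm hne), zero_smul]
  · exact fun h => absurd (Finset.mem_univ l) h

end Contract

variable [Fintype σ]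

/-- A relation as a vector of polynomials. -/
def relVec (q : CotT.relKer P) : σ → MvPolynomial ι k := fun s => (q : CotT.relMod P) s

lemma jmap_eq_dot (f : CotT.relMod P) :
    CotT.jmap P f = dot P.relation (fun s => (show MvPolynomial ι k from f s)) := by
  rw [CotT.jmap, Finsupp.linearCombination_apply, Finsupp.sum_fintype]
  · rfl
  · exact fun i => zero_smul _ _

lemma dot_relVec (q : CotT.relKer P) : dot P.relation (relVec P q) = 0 :=
  (jmap_eq_dot P (q : CotT.relMod P)).symm.trans q.2

/-- The relation module element of a vector. -/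
lemma exists_relKer (v : σ → MvPolynomial ι k) (hv : dot P.relation v = 0) : ∃ q : CotT.relKer P, relVec P q = v := by
  refine ⟨⟨(Finsupp.equivFunOnFinite.symm (fun s => (v s : P.toExtension.Ring)) : CotT.relMod P), ?_⟩, rfl⟩
  exact (jmap_eq_dot P _).trans hv

lemma L1_apply_one_tmul {N : Type u} [AddCommGroup N] [Module B₀ N] (g : CotT.L1 P →ₗ[B₀] N) (f : CotT.relMod P) :
    g ((1 : B₀) ⊗ₜ f) = ∑ s, MvPolynomial.aeval P.val (show MvPolynomial ι k from f s) • g (CotT.L1basis P s) := by
  classical
  conv_lhs => rw [← Finsupp.univ_sum_single f]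
  rw [TensorProduct.tmul_sum, map_sum]
  refine Finset.sum_congr rfl fun s _ => ?_
  rw [← map_smul, CotT.L1basis_apply, TensorProduct.smul_tmul', smul_eq_mul, mul_one]
  refine congrArg g ?_
  have e : Finsupp.single s (f s) = f s • Finsupp.single s (1 : P.toExtension.Ring) := by simp
  rw [e, ← TensorProduct.smul_tmul, Algebra.smul_def, mul_one, CotT.algebraMap_toExtension]

section Obs

variable {P} {C' C : ArtFun.Art k k} {p : C' ⟶ C}
variable (G : PFam P C) (F' : σ → MvPolynomial ι C')
variable (hF : ∀ s, MvPolynomial.map p.toAlgHom.toRingHom (F' s) = G.F s)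

/-- A valid lift of a relation. -/
def IsRelLift (p : C' ⟶ C) (F' : σ → MvPolynomial ι C') (v : σ → MvPolynomial ι k) (R : σ → MvPolynomial ι C') : Prop :=
  (∀ s, red C' (R s) = v s) ∧ MvPolynomial.map p.toAlgHom.toRingHom (dot F' R) = 0

include hF in
lemma exists_relLift (hp : ArtFun.Art.IsSemismallExt p) {v : σ → MvPolynomial ι k} (hv : dot P.relation v = 0) :
    ∃ R, IsRelLift p F' v R := by
  obtain ⟨R₀, h1, h2⟩ := G.lifts v hv
  choose R hR using fun s => MvPolynomial.map_surjective p.toAlgHom.toRingHom hp.1 (R₀ s)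
  refine ⟨R, fun s => ?_, ?_⟩
  · rw [← red_map p, hR, h1]
  · rw [map_dot]
    simp only [hR, hF]
    exact h2

include hF in
lemma red_F' (s : σ) : red C' (F' s) = P.relation s := by
  rw [← red_map p, hF, G.red_F]

include hF in
lemma phi'_dot_ker (hp : ArtFun.Art.IsSemismallExt p) (l : (C' : Type u) →ₗ[k] k) {D : σ → MvPolynomial ι C'}
    (hD : ∀ s, MvPolynomial.map p.toAlgHom.toRingHom (D s) = 0) : phi' P l (dot F' D) = 0 := by
  rw [dot, map_sum]
  refine Finset.sum_eq_zero fun s _ => ?_
  rw [phi'_mul P hp l (hD s), red_F' G F' hF, ev_relation, zero_mul]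

include hF in
lemma phi'_relLift_zero (hp : ArtFun.Art.IsSemismallExt p) (l : (C' : Type u) →ₗ[k] k) {R : σ → MvPolynomial ι C'}
    (hR : IsRelLift p F' 0 R) : phi' P l (dot F' R) = 0 := by
  let m : (σ → MvPolynomial ι C') → (σ → MvPolynomial ι C) := fun R s => MvPolynomial.map p.toAlgHom.toRingHom (R s)
  have h0 : dot G.F (m R) = 0 := by
    have h := hR.2
    rw [map_dot] at h
    simp only [hF] at h
    exact h
  obtain ⟨ρ, hρ, hmem⟩ := G.mem_smul_rel h0 (fun s => (red_map p (R s)).trans (hR.1 s))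
  have key : ∀ w ∈ maximalIdeal C • LinearMap.range ρ, ∀ R', m R' = w →
      MvPolynomial.map p.toAlgHom.toRingHom (dot F' R') = 0 ∧ phi' P l (dot F' R') = 0 := by
    intro w hw
    refine Submodule.smul_induction_on hw (fun a ha r hr R' hR' => ?_) fun x y hx hy R' hR' => ?_
    · obtain ⟨u, rfl⟩ := hr
      obtain ⟨a', rfl⟩ := hp.1 a
      choose r' hr' using fun s => MvPolynomial.map_surjective (σ := ι) p.toAlgHom.toRingHom hp.1 (ρ u s)
      have hr0 : MvPolynomial.map p.toAlgHom.toRingHom (dot F' r') = 0 := by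
        rw [map_dot]
        simp only [hr', hF]
        exact hρ u
      have ha' : C'.res a' = 0 := by
        rw [← ArtFun.Art.res_app p]; exact (ArtFun.Art.mem_maximalIdeal_iff _ _).1 ha
      have hD : ∀ s, MvPolynomial.map p.toAlgHom.toRingHom (R' s - MvPolynomial.C a' * r' s) = 0 := by
        intro s
        rw [map_sub, map_mul, MvPolynomial.map_C, hr', show MvPolynomial.map _ (R' s) = _ from congrFun hR' s,
          Pi.smul_apply, MvPolynomial.smul_eq_C_mul]
        exact sub_self _
      have e : dot F' R' = dot F' (fun s => R' s - MvPolynomial.C a' * r' s) + dot F' r' * MvPolynomial.C a' := by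
        rw [mul_comm, ← dot_smul, ← dot_add]
        exact congrArg _ (funext fun s => (sub_add_cancel _ _).symm)
      constructor
      · rw [e, map_add, map_mul, hr0, zero_mul, add_zero, map_dot]
        exact Finset.sum_eq_zero fun s _ => mul_eq_zero_of_left (hD s) _
      · rw [e, map_add, phi'_dot_ker G F' hF hp l hD, zero_add, phi'_mul P hp l hr0, MvPolynomial.map_C,
          show C'.res.toRingHom a' = 0 from ha', map_zero, map_zero, zero_mul]
    · choose r' hr' using fun s => MvPolynomial.map_surjective (σ := ι) p.toAlgHom.toRingHom hp.1 (x s)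
      obtain ⟨h1, h2⟩ := hx r' (funext hr')
      obtain ⟨h3, h4⟩ := hy (R' - r') (funext fun s => by
        change MvPolynomial.map p.toAlgHom.toRingHom (R' s - r' s) = y s
        rw [map_sub, hr', show MvPolynomial.map _ (R' s) = _ from congrFun hR' s, Pi.add_apply, add_sub_cancel_left])
      rw [dot_sub] at h3 h4
      rw [map_sub, h1, sub_zero] at h3
      rw [map_sub, h2, sub_zero] at h4
      exact ⟨h3, h4⟩
  exact (key _ hmem R rfl).2

include hF in
lemma phi'_relLift_congr (hp : ArtFun.Art.IsSemismallExt p) (l : (C' : Type u) →ₗ[k] k) {v : σ → MvPolynomial ι k}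
    {R R' : σ → MvPolynomial ι C'} (h : IsRelLift p F' v R) (h' : IsRelLift p F' v R') :
    phi' P l (dot F' R) = phi' P l (dot F' R') := by
  rw [← sub_eq_zero, ← map_sub, ← dot_sub]
  refine phi'_relLift_zero G F' hF hp l ⟨fun s => ?_, ?_⟩
  · rw [Pi.sub_apply, map_sub, h.1, h'.1, sub_self]; rfl
  · rw [dot_sub, map_sub, h.2, h'.2, sub_zero]

variable (hp : ArtFun.Art.IsSemismallExt p) (l : (C' : Type u) →ₗ[k] k)

/-- The value of the obstruction cocycle on a relation. -/
def omega₀ (q : CotT.relKer P) : B₀ :=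
  phi' P l (dot F' (exists_relLift G F' hF hp (dot_relVec P q)).choose)

lemma omega₀_eq {q : CotT.relKer P} {R : σ → MvPolynomial ι C'} (hR : IsRelLift p F' (relVec P q) R) :
    omega₀ G F' hF hp l q = phi' P l (dot F' R) :=
  phi'_relLift_congr G F' hF hp l (exists_relLift G F' hF hp (dot_relVec P q)).choose_spec hR

/-- The cocycle on relations, linear. -/
def omega₁ : CotT.relKer P →ₗ[P.toExtension.Ring] B₀ where
  toFun := omega₀ G F' hF hp l
  map_add' q q' := by
    obtain ⟨R, hR⟩ := exists_relLift G F' hF hp (dot_relVec P q)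
    obtain ⟨R', hR'⟩ := exists_relLift G F' hF hp (dot_relVec P q')
    rw [omega₀_eq G F' hF hp l hR, omega₀_eq G F' hF hp l hR',
      omega₀_eq G F' hF hp l (R := R + R') ⟨fun s => ?_, ?_⟩, dot_add, map_add]
    · rw [dot_add, map_add, hR.2, hR'.2, add_zero]
    · rw [Pi.add_apply, map_add, hR.1, hR'.1]; rfl
  map_smul' a q := by
    obtain ⟨R, hR⟩ := exists_relLift G F' hF hp (dot_relVec P q)
    obtain ⟨a', ha'⟩ := red_surjective C' (show MvPolynomial ι k from a)
    rw [omega₀_eq G F' hF hp l hR, omega₀_eq G F' hF hp l (R := fun s => a' * R s) ⟨fun s => ?_, ?_⟩, dot_smul,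
      mul_comm a', phi'_mul P hp l hR.2, ha', RingHom.id_apply, Algebra.smul_def, CotT.algebraMap_toExtension]
    · rw [dot_smul, map_mul, hR.2, mul_zero]
    · rw [map_mul, hR.1, ha']; rfl

lemma omega₁_trivRel (q : CotT.relKer P) (hq : (q : CotT.relMod P) ∈ CotT.trivRel P) : omega₁ G F' hF hp l q = 0 := by
  suffices h : ∀ y ∈ CotT.trivRel P, ∀ hy : y ∈ CotT.relKer P, omega₁ G F' hF hp l ⟨y, hy⟩ = 0 from h _ hq q.2
  intro y hy
  induction hy using Submodule.span_induction with
  | mem y hy =>
    obtain ⟨a, b, rfl⟩ := hy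
    intro hy
    choose a' ha' using fun s => red_surjective C' (show MvPolynomial ι k from a s)
    choose b' hb' using fun s => red_surjective C' (show MvPolynomial ι k from b s)
    have hj : ∀ (v : CotT.relMod P) (v' : σ → MvPolynomial ι C'), (∀ s, red C' (v' s) = v s) →
        red C' (dot F' v') = CotT.jmap P v := by
      intro v v' hv
      rw [map_dot, jmap_eq_dot]
      simp only [hv, red_F' G F' hF]
    have e : dot F' (fun s => dot F' a' * b' s - dot F' b' * a' s) = 0 := by
      rw [show (fun s => dot F' a' * b' s - dot F' b' * a' s)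
        = (fun s => dot F' a' * b' s) - (fun s => dot F' b' * a' s) from rfl, dot_sub, dot_smul, dot_smul]
      ring
    refine (omega₀_eq G F' hF hp l (R := fun s => dot F' a' * b' s - dot F' b' * a' s) ⟨fun s => ?_, ?_⟩).trans
      (by rw [e, map_zero])
    · rw [map_sub, map_mul, map_mul, hj a a' ha', hj b b' hb', ha', hb']
      rfl
    · rw [e, map_zero]
  | zero => exact fun _ => map_zero _
  | add y z hy hz ihy ihz =>
    intro h
    have e := map_add (omega₁ G F' hF hp l) ⟨y, CotT.trivRel_le_relKer P hy⟩ ⟨z, CotT.trivRel_le_relKer P hz⟩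
    rw [ihy, ihz, add_zero] at e
    exact e
  | smul c y hy ihy =>
    intro h
    have e := map_smul (omega₁ G F' hF hp l) c ⟨y, CotT.trivRel_le_relKer P hy⟩
    rw [ihy, smul_zero] at e
    exact e

/-- The obstruction cocycle. -/
def omega : CotT.L2 P →ₗ[B₀] B₀ :=
  Submodule.liftQ _ (LinearMap.liftBaseChange B₀ (omega₁ G F' hF hp l)) (LinearMap.range_le_ker_iff.2
    (TensorProduct.AlgebraTensorModule.ext fun b q => by
      simp only [LinearMap.coe_comp, Function.comp_apply, LinearMap.baseChange_tmul, LinearMap.zero_apply,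
        LinearMap.liftBaseChange_tmul, Submodule.coe_subtype]
      rw [omega₁_trivRel G F' hF hp l q.1 q.2, smul_zero]))

lemma omega_cls {q : CotT.relKer P} {R : σ → MvPolynomial ι C'} (hR : IsRelLift p F' (relVec P q) R) :
    omega G F' hF hp l (CotTLib.cls P q) = phi' P l (dot F' R) := by
  rw [CotTLib.cls_apply, omega, Submodule.liftQ_apply, LinearMap.liftBaseChange_tmul, one_smul]
  exact omega₀_eq G F' hF hp l hR

lemma omega_add (l' : (C' : Type u) →ₗ[k] k) :
    omega G F' hF hp (l + l') = omega G F' hF hp l + omega G F' hF hp l' := CotTLib.linearMap_ext_L2 P fun q => by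
  obtain ⟨R, hR⟩ := exists_relLift G F' hF hp (dot_relVec P q)
  rw [LinearMap.add_apply, omega_cls G F' hF hp _ hR, omega_cls G F' hF hp _ hR, omega_cls G F' hF hp _ hR, phi'_add]

lemma omega_smul (c : k) : omega G F' hF hp (c • l) = c • omega G F' hF hp l := CotTLib.linearMap_ext_L2 P fun q => by
  obtain ⟨R, hR⟩ := exists_relLift G F' hF hp (dot_relVec P q)
  rw [LinearMap.smul_apply, omega_cls G F' hF hp _ hR, omega_cls G F' hF hp _ hR, phi'_smul]

/-- The class of the obstruction cocycle, linearly in the functional. -/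
def obsClass : ((C' : Type u) →ₗ[k] k) →ₗ[k] CotT.T2 P B₀ where
  toFun l := Submodule.Quotient.mk (omega G F' hF hp l)
  map_add' l l' := by rw [omega_add]; rfl
  map_smul' c l := by rw [omega_smul]; rfl

lemma obsClass_congr (l' : (C' : Type u) →ₗ[k] k) (h : ∀ j ∈ RingHom.ker p.toAlgHom, l j = l' j) :
    obsClass G F' hF hp l = obsClass G F' hF hp l' := by
  refine congrArg Submodule.Quotient.mk (CotTLib.linearMap_ext_L2 P fun q => ?_)
  obtain ⟨R, hR⟩ := exists_relLift G F' hF hp (dot_relVec P q)
  rw [omega_cls G F' hF hp _ hR, omega_cls G F' hF hp _ hR, phi'_congr P hp l l' h hR.2]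

variable (F'' : σ → MvPolynomial ι C') (hF'' : ∀ s, MvPolynomial.map p.toAlgHom.toRingHom (F'' s) = G.F s)

/-- The change of the cocycle with the lifted equations. -/
lemma omega_change : omega G F'' hF'' hp l = omega G F' hF hp l
    + CotT.d2Star P B₀ ((CotT.L1basis P).constr B₀ fun s => phi' P l (F'' s - F' s)) := by
  refine CotTLib.linearMap_ext_L2 P fun q => ?_
  obtain ⟨R, hR⟩ := exists_relLift G F' hF hp (dot_relVec P q)
  have hd : ∀ s, MvPolynomial.map p.toAlgHom.toRingHom (F'' s - F' s) = 0 := fun s => by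
    rw [map_sub, hF'', hF, sub_self]
  have e : dot F'' R = dot F' R + ∑ s, (F'' s - F' s) * R s := by
    rw [dot, dot, ← Finset.sum_add_distrib]
    exact Finset.sum_congr rfl fun s _ => by ring
  have hR'' : IsRelLift p F'' (relVec P q) R := ⟨hR.1, by
    rw [e, map_add, hR.2, zero_add, map_sum]
    exact Finset.sum_eq_zero fun s _ => by rw [map_mul, hd, zero_mul]⟩
  rw [LinearMap.add_apply, omega_cls G F'' hF'' hp l hR'', omega_cls G F' hF hp l hR, e, map_add, CotT.d2Star_apply,
    LinearMap.comp_apply, CotTLib.d2_cls, L1_apply_one_tmul, map_sum]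
  congr 1
  refine Finset.sum_congr rfl fun s _ => ?_
  rw [phi'_mul P hp l (hd s), Module.Basis.constr_basis, smul_eq_mul, hR.1]
  rfl

lemma obsClass_eq : obsClass G F'' hF'' hp l = obsClass G F' hF hp l := by
  change (Submodule.Quotient.mk _ : CotT.T2 P B₀) = Submodule.Quotient.mk _
  rw [omega_change G F' hF hp l F'' hF'', Submodule.Quotient.eq, add_sub_cancel_left]
  exact ⟨_, rfl⟩

/-- If the classes vanish, the family lifts. -/
theorem exists_lift_of_obsClass (h : ∀ i, obsClass G F' hF hp (kerCoord p i) = 0) :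
    ∃ G' : PFam P C', ∀ s, G.F s = MvPolynomial.map p.toAlgHom.toRingHom (G'.F s) := by
  have hrange : ∀ i, ∃ g : CotT.L1 P →ₗ[B₀] B₀, CotT.d2Star P B₀ g = omega G F' hF hp (kerCoord p i) := fun i =>
    LinearMap.mem_range.1 ((Submodule.Quotient.mk_eq_zero _).1 (h i))
  choose g hg using hrange
  choose w hw using fun (i : _) (s : σ) => P.algebraMap_surjective (g i (CotT.L1basis P s))
  choose w' hw' using fun (i : _) (s : σ) => red_surjective C' (w i s)
  let F₂ : σ → MvPolynomial ι C' := fun s => F' s - ∑ i, MvPolynomial.C (kerBasis p i : C') * w' i s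
  have hd : ∀ s, MvPolynomial.map p.toAlgHom.toRingHom (∑ i, MvPolynomial.C (kerBasis p i : C') * w' i s) = 0 := by
    intro s
    rw [map_sum]
    refine Finset.sum_eq_zero fun i _ => ?_
    rw [map_mul, MvPolynomial.map_C, show p.toAlgHom.toRingHom (kerBasis p i : C') = 0 from (kerBasis p i).2,
      map_zero, zero_mul]
  have hF₂ : ∀ s, MvPolynomial.map p.toAlgHom.toRingHom (F₂ s) = G.F s := fun s => by
    rw [map_sub, hd, sub_zero, hF]
  have hω : ∀ i, omega G F₂ hF₂ hp (kerCoord p i) = 0 := by
    intro l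
    rw [omega_change G F' hF hp _ F₂ hF₂, ← hg, ← map_add]
    refine (congrArg (CotT.d2Star P B₀) ((CotT.L1basis P).ext fun s => ?_)).trans (map_zero _)
    rw [LinearMap.add_apply, Module.Basis.constr_basis, LinearMap.zero_apply, sub_sub_cancel_left, map_neg, map_sum,
      Finset.sum_eq_single l]
    · rw [phi'_C_mul P hp _ (kerBasis p l).2, kerCoord_apply p l _ (kerBasis p l).2, Module.Basis.repr_self,
        Finsupp.single_eq_same, one_smul, hw', ← hw l s, P.algebraMap_apply, add_neg_cancel]
    · intro i _ hne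
      rw [phi'_C_mul P hp _ (kerBasis p i).2, kerCoord_apply p l _ (kerBasis p i).2, Module.Basis.repr_self,
        Finsupp.single_eq_of_ne (Ne.symm hne), zero_smul]
    · exact fun h => absurd (Finset.mem_univ l) h
  refine ⟨⟨F₂, red_F' G F₂ hF₂, fun v hv => ?_⟩, fun s => (hF₂ s).symm⟩
  obtain ⟨q, rfl⟩ := exists_relKer P v hv
  obtain ⟨R, hR⟩ := exists_relLift G F₂ hF₂ hp (dot_relVec P q)
  obtain ⟨c, hc, hcev⟩ := exists_rep P p hp hR.2
  have hev : ∀ i, MvPolynomial.aeval P.val (red C' (c i)) = 0 := fun i => by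
    rw [← hcev, ← omega_cls G F₂ hF₂ hp _ hR, hω, LinearMap.zero_apply]
  choose a ha using fun i => exists_dot_of_ev P (hev i)
  choose a' ha' using fun (i : _) (s : σ) => red_surjective C' (a i s)
  have hc' : ∀ i, MvPolynomial.C (kerBasis p i : C') * c i = dot F₂ (fun s => MvPolynomial.C (kerBasis p i : C') * a' i s) := by
    intro i
    rw [dot_smul, ← sub_eq_zero, ← mul_sub]
    refine C_mul_eq_zero hp (kerBasis p i).2 ?_
    rw [map_sub, map_dot]
    simp only [red_F' G F₂ hF₂, ha']
    rw [ha, sub_self]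
  refine ⟨fun s => R s - ∑ i, MvPolynomial.C (kerBasis p i : C') * a' i s, fun s => ?_, ?_⟩
  · rw [map_sub, hR.1, map_sum]
    refine sub_eq_self.2 (Finset.sum_eq_zero fun i _ => ?_)
    rw [map_mul, MvPolynomial.map_C, show C'.res.toRingHom (kerBasis p i : C') = 0 from
      (ArtFun.Art.mem_maximalIdeal_iff _ _).1 (ker_le_max (kerBasis p i).2), map_zero, zero_mul]
  · rw [show (fun s => R s - ∑ i, MvPolynomial.C (kerBasis p i : C') * a' i s)
      = R - fun s => ∑ i, MvPolynomial.C (kerBasis p i : C') * a' i s from rfl, dot_sub, hc, sub_eq_zero]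
    rw [Finset.sum_congr rfl fun i _ => hc' i]
    simp only [dot, Finset.sum_mul]
    exact Finset.sum_comm

/-- If the deformation lifts, the classes vanish. -/
theorem obsClass_of_thick (T : Thick p G.dalg) (i : Module.Basis.ofVectorSpaceIndex k ↥(RingHom.ker p.toAlgHom)) :
    obsClass G F' hF hp (kerCoord p i) = 0 := by
  let tq : T.R →+* G.alg := T.q
  choose x hx using fun n => T.surj (Ideal.Quotient.mk G.ideal (MvPolynomial.X n))
  let ψ : MvPolynomial ι C' →+* T.R := MvPolynomial.eval₂Hom T.φ x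
  have hqψ : ∀ y, tq (ψ y) = Ideal.Quotient.mk G.ideal (MvPolynomial.map p.toAlgHom.toRingHom y) := by
    intro y
    refine RingHom.congr_fun (f := tq.comp ψ)
      (g := (Ideal.Quotient.mk G.ideal).comp (MvPolynomial.map p.toAlgHom.toRingHom))
      (MvPolynomial.ringHom_ext (fun c => ?_) fun n => ?_) y
    · rw [RingHom.comp_apply, RingHom.comp_apply, MvPolynomial.map_C]
      change tq (MvPolynomial.eval₂ T.φ x (MvPolynomial.C c)) = _
      rw [MvPolynomial.eval₂_C]
      exact RingHom.congr_fun T.comm c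
    · rw [RingHom.comp_apply, RingHom.comp_apply, MvPolynomial.map_X]
      change tq (MvPolynomial.eval₂ T.φ x (MvPolynomial.X n)) = _
      rw [MvPolynomial.eval₂_X]
      exact hx n
  have hπψ : ∀ y, (T.pre hp).π (ψ y) = MvPolynomial.aeval P.val (red C' y) := fun y => by
    change G.π (tq (ψ y)) = _
    rw [hqψ, G.π_mk, red_map]
  have hψC : ∀ c, ψ (MvPolynomial.C c) = T.φ c := fun c => MvPolynomial.eval₂_C _ _ _
  have hlift : ∀ r : T.R, ∃ z, tq r = tq (ψ z) := by
    intro r
    obtain ⟨y, hy⟩ := Ideal.Quotient.mk_surjective (tq r)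
    obtain ⟨z, rfl⟩ := MvPolynomial.map_surjective p.toAlgHom.toRingHom hp.1 y
    exact ⟨z, hy.symm.trans (hqψ z).symm⟩
  have hM : ∀ y ∈ (RingHom.ker p.toAlgHom).map T.φ, ∀ r, ∃ M, MvPolynomial.map p.toAlgHom.toRingHom M = 0 ∧ ψ M = r * y := by
    intro y hy
    induction hy using Submodule.span_induction with
    | mem y hy =>
      obtain ⟨j, hj, rfl⟩ := hy
      intro r
      obtain ⟨z, hz⟩ := hlift r
      refine ⟨MvPolynomial.C j * z, ?_, ?_⟩
      · rw [map_mul, MvPolynomial.map_C, show p.toAlgHom.toRingHom j = 0 from hj, map_zero, zero_mul]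
      · rw [map_mul, hψC, mul_comm r]
        exact ((T.pre hp).mul_congr hp hj (congrArg G.π hz)).symm
    | zero => exact fun r => ⟨0, map_zero _, by rw [map_zero, mul_zero]⟩
    | add y z _ _ hy hz =>
      intro r
      obtain ⟨M, hM, hM'⟩ := hy r
      obtain ⟨N, hN, hN'⟩ := hz r
      exact ⟨M + N, by rw [map_add, hM, hN, add_zero], by rw [map_add, hM', hN', mul_add]⟩
    | smul c y _ hy => intro r; rw [smul_eq_mul, ← mul_assoc]; exact hy _
  have hFq : ∀ s, tq (ψ (F' s)) = 0 := fun s => by
    rw [hqψ, hF, Ideal.Quotient.eq_zero_iff_mem]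
    exact Ideal.subset_span ⟨s, rfl⟩
  choose M hM₁ hM₂ using fun s => hM _ (T.ker.le (RingHom.mem_ker.2 (hFq s))) 1
  let F₂ : σ → MvPolynomial ι C' := fun s => F' s - M s
  have hF₂ : ∀ s, MvPolynomial.map p.toAlgHom.toRingHom (F₂ s) = G.F s := fun s => by
    rw [map_sub, hF, hM₁, sub_zero]
  have hψF : ∀ R, ψ (dot F₂ R) = 0 := fun R => by
    rw [dot, map_sum]
    refine Finset.sum_eq_zero fun s _ => ?_
    rw [map_mul, map_sub, hM₂, one_mul, sub_self, mul_zero]
  rw [← obsClass_eq G F' hF hp _ F₂ hF₂]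
  refine (Submodule.Quotient.mk_eq_zero _).2 ?_
  suffices h : omega G F₂ hF₂ hp (kerCoord p i) = 0 by rw [h]; exact zero_mem _
  refine CotTLib.linearMap_ext_L2 P fun q => ?_
  obtain ⟨R, hR⟩ := exists_relLift G F₂ hF₂ hp (dot_relVec P q)
  obtain ⟨c, hc, hcev⟩ := exists_rep P p hp hR.2
  have hμ : (T.pre hp).μ hp (∑ n, (T.pre hp).π (ψ (c n)) ⊗ₜ[k] kerBasis p n) = 0 := by
    rw [map_sum, ← hψF R, hc, map_sum]
    refine Finset.sum_congr rfl fun n _ => ?_
    rw [Pre.μ_tmul, map_mul, hψC]
    rfl
  have h0 := T.μ_inj hp (hμ.trans (map_zero _).symm)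
  have h1 := congrArg (fun z => TensorProduct.rid k B₀ (((kerBasis p).coord i).lTensor B₀ z)) h0
  simp only [map_sum, map_zero, LinearMap.lTensor_tmul, TensorProduct.rid_tmul, Module.Basis.coord_apply,
    Module.Basis.repr_self] at h1
  rw [Finset.sum_eq_single i (fun n _ hne => by rw [Finsupp.single_eq_of_ne (Ne.symm hne), zero_smul])
    (fun h => absurd (Finset.mem_univ i) h), Finsupp.single_eq_same, one_smul, hπψ] at h1
  rw [omega_cls G F₂ hF₂ hp _ hR, hcev, h1, LinearMap.zero_apply]

end Obs

/-- A presented family for each deformation class. -/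
theorem exists_fam {C : ArtFun.Art k k}
    (u : (ArtFun.defFunctor (Λ := k) (Spec (CommRingCat.of B₀)) (Spec.map (CommRingCat.ofHom (algebraMap k B₀)))).obj C) :
    ∃ G : PFam P C, G.cl = u := by
  induction u using Quotient.inductionOn with
  | _ 𝒳 =>
    obtain ⟨M⟩ := exists_model 𝒳
    obtain ⟨G, hG⟩ := exists_pfam P M.S
    exact ⟨G, hG.trans M.cl_eq⟩

end Groth.Agent.AffDef
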