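import Groth.Agent.AffDef.T2Obs

/-!
# `T²` is an obstruction space for deformations of an affine scheme
-/

universe u

open CategoryTheory AlgebraicGeometry TensorProduct IsLocalRing MvPolynomial

noncomputable section

namespace Groth.Agent.AffDef

variable {k : Type u} [Field k] {B₀ : Type u} [CommRing B₀] [Algebra k B₀] {ι σ : Type u} [Fintype σ]
variable (P : Algebra.Presentation k B₀ ι σ)

/-- The deformation functor of `Spec B₀`. -/
abbrev defF (B₀ : Type u) [CommRing B₀] [Algebra k B₀] : ArtFun.Art k k ⥤ Type (u + 1) :=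
  ArtFun.defFunctor (Λ := k) (Spec (CommRingCat.of B₀)) (Spec.map (CommRingCat.ofHom (algebraMap k B₀)))

variable {C' C : ArtFun.Art k k} (p : C' ⟶ C) (hp : ArtFun.Art.IsSemismallExt p)

/-- The chosen family of a class. -/
def famOf (u : (defF (k := k) B₀).obj C) : PFam P C := (exists_fam P u).choose

lemma famOf_cl (u : (defF (k := k) B₀).obj C) : (famOf P u).cl = u := (exists_fam P u).choose_spec

/-- Chosen lifts of the equations. -/
def liftF (u : (defF (k := k) B₀).obj C) (s : σ) : MvPolynomial ι C' :=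
  Function.surjInv (MvPolynomial.map_surjective p.toAlgHom.toRingHom hp.1) ((famOf P u).F s)

lemma map_liftF (u : (defF (k := k) B₀).obj C) (s : σ) :
    MvPolynomial.map p.toAlgHom.toRingHom (liftF P p hp u s) = (famOf P u).F s :=
  Function.surjInv_eq _ _

/-- The obstruction. -/
def obsElt (u : (defF (k := k) B₀).obj C) : CotT.T2 P B₀ ⊗[k] ↥(RingHom.ker p.toAlgHom) :=
  ∑ i, obsClass (famOf P u) (liftF P p hp u) (map_liftF P p hp u) hp (kerCoord p i) ⊗ₜ[k] kerBasis p i

lemma obsElt_eq_zero_iff (u : (defF (k := k) B₀).obj C) :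
    obsElt P p hp u = 0 ↔ ∀ i, obsClass (famOf P u) (liftF P p hp u) (map_liftF P p hp u) hp (kerCoord p i) = 0 := by
  refine ⟨fun h i => ?_, fun h => Finset.sum_eq_zero fun i _ => by rw [h, TensorProduct.zero_tmul]⟩
  have h1 := congrArg (fun z => TensorProduct.rid k (CotT.T2 P B₀)
    (((kerBasis p).coord i).lTensor (CotT.T2 P B₀) z)) h
  simp only [obsElt, map_sum, map_zero, LinearMap.lTensor_tmul, TensorProduct.rid_tmul, Module.Basis.coord_apply,
    Module.Basis.repr_self] at h1
  rwa [Finset.sum_eq_single i (fun n _ hne => by rw [Finsupp.single_eq_of_ne (Ne.symm hne), zero_smul])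
    (fun h => absurd (Finset.mem_univ i) h), Finsupp.single_eq_same, one_smul] at h1

/-- `T²` is an obstruction space. -/
def obsTheoryT2 : ArtFun.ObsTheory (defF (k := k) B₀) (CotT.T2 P B₀) where
  obs p hp u := obsElt P p hp u
  obs_eq_zero_iff := by
    intro C' C p hp u
    rw [obsElt_eq_zero_iff]
    refine ⟨fun h => ?_, fun ⟨u', hu'⟩ i => ?_⟩
    · obtain ⟨G', hG'⟩ := exists_lift_of_obsClass _ _ _ hp h
      exact ⟨G'.cl, (G'.map_cl p hp.1 (famOf P u) hG').trans (famOf_cl P u)⟩
    · induction u' using Quotient.inductionOn with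
      | _ 𝒳' =>
        have hcl : (𝒳'.baseChange p).cl = (famOf P u).dalg.toDef.cl := hu'.trans (famOf_cl P u).symm
        obtain ⟨e⟩ := Quotient.exact hcl
        let M : Model (famOf P u).dalg.toDef :=
          ⟨(famOf P u).dalg, CategoryTheory.Iso.refl _, Category.id_comp _, Category.comp_id _⟩
        obtain ⟨T, -⟩ := exists_toLift M hp ⟨𝒳', e⟩
        exact obsClass_of_thick _ _ _ hp T i
  obs_quot := by
    intro C' C p hp K hK hKJ hq u
    let π' := ArtFun.Art.quotMk C' K hK
    let p'' := ArtFun.Art.quotFactor hK p hKJ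
    let G := famOf P u
    let F' := liftF P p hp u
    let F₂ : σ → MvPolynomial ι (ArtFun.Art.quot C' K hK) := fun s => MvPolynomial.map π'.toAlgHom.toRingHom (F' s)
    have hF₂ : ∀ s, MvPolynomial.map p''.toAlgHom.toRingHom (F₂ s) = G.F s := fun s => by
      rw [MvPolynomial.map_map, ← map_liftF P p hp u]
      exact congrArg (fun g : C' →+* C => MvPolynomial.map g (F' s)) (RingHom.ext fun _ => rfl)
    have hΩ : ∀ l, obsClass G F₂ hF₂ hq l = obsClass G F' (map_liftF P p hp u) hp (l.comp π'.toAlgHom.toLinearMap) := by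
      intro l
      refine congrArg Submodule.Quotient.mk (CotTLib.linearMap_ext_L2 P fun q => ?_)
      obtain ⟨R, hR⟩ := exists_relLift G F' (map_liftF P p hp u) hp (dot_relVec P q)
      have e : dot F₂ (fun s => MvPolynomial.map π'.toAlgHom.toRingHom (R s))
          = MvPolynomial.map π'.toAlgHom.toRingHom (dot F' R) := (map_dot _ _ _).symm
      have hR₂ : IsRelLift p'' F₂ (relVec P q) (fun s => MvPolynomial.map π'.toAlgHom.toRingHom (R s)) := by
        refine ⟨fun s => (red_map π' (R s)).trans (hR.1 s), ?_⟩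
        rw [e, MvPolynomial.map_map]
        exact hR.2
      rw [omega_cls G F₂ hF₂ hq l hR₂, omega_cls G F' _ hp _ hR, e, phi'_map]
    let b := kerBasis p
    let b' := kerBasis p''
    let π₀ := (ArtFun.Art.kerToQuot hK p hKJ).restrictScalars k
    have hexp : ∀ l, obsClass G F' (map_liftF P p hp u) hp ((kerCoord p'' l).comp π'.toAlgHom.toLinearMap)
        = ∑ i, (b'.repr (π₀ (b i)) l) • obsClass G F' (map_liftF P p hp u) hp (kerCoord p i) := by
      intro l
      rw [obsClass_congr G F' (map_liftF P p hp u) hp _ (∑ i, (b'.repr (π₀ (b i)) l) • kerCoord p i) (fun j hj => ?_),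
        map_sum]
      · exact Finset.sum_congr rfl fun i _ => map_smul _ _ _
      · have hj' : π'.toAlgHom j ∈ RingHom.ker p''.toAlgHom := hj
        rw [LinearMap.comp_apply, LinearMap.sum_apply]
        change kerCoord p'' l (π'.toAlgHom j) = _
        rw [kerCoord_apply p'' l _ hj']
        have hsum : (⟨π'.toAlgHom j, hj'⟩ : ↥(RingHom.ker p''.toAlgHom))
            = ∑ i, (b.repr ⟨j, hj⟩ i) • π₀ (b i) := by
          refine (congrArg π₀ (b.sum_repr ⟨j, hj⟩).symm).trans ((map_sum π₀ _ _).trans ?_)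
          exact Finset.sum_congr rfl fun i _ => map_smul π₀ _ _
        rw [hsum, map_sum, Finsupp.finsetSum_apply]
        refine Finset.sum_congr rfl fun i _ => ?_
        rw [map_smul, Finsupp.smul_apply, LinearMap.smul_apply, kerCoord_apply p i j hj, smul_eq_mul, smul_eq_mul, mul_comm]
    change ∑ l, _ ⊗ₜ[k] b' l = LinearMap.lTensor _ π₀ (∑ i, _ ⊗ₜ[k] b i)
    rw [map_sum]
    simp only [LinearMap.lTensor_tmul]
    calc ∑ l, obsClass G (liftF P p'' hq u) (map_liftF P p'' hq u) hq (kerCoord p'' l) ⊗ₜ[k] b' l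
        = ∑ l, ∑ i, obsClass G F' (map_liftF P p hp u) hp (kerCoord p i) ⊗ₜ[k] ((b'.repr (π₀ (b i)) l) • b' l) := by
          refine Finset.sum_congr rfl fun l _ => ?_
          rw [obsClass_eq G F₂ hF₂ hq (kerCoord p'' l) (liftF P p'' hq u) (map_liftF P p'' hq u), hΩ, hexp,
            TensorProduct.sum_tmul]
          exact Finset.sum_congr rfl fun i _ => TensorProduct.smul_tmul _ _ _
      _ = ∑ i, obsClass G F' (map_liftF P p hp u) hp (kerCoord p i) ⊗ₜ[k] π₀ (b i) := by
          rw [Finset.sum_comm]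
          refine Finset.sum_congr rfl fun i _ => ?_
          rw [← TensorProduct.tmul_sum, b'.sum_repr]

end Groth.Agent.AffDef
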