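import Groth.Agent.AffDef.FirstOrder
import Groth.Agent.ArtFunLib.ObsBounds
import Groth.Agent.PSLoc.Basic

/-!
# The tangent space and the dimension of a hull of an affine scheme
-/

universe u

open CategoryTheory AlgebraicGeometry TensorProduct IsLocalRing MvPolynomial ArtFun

noncomputable section

namespace Groth.Agent.AffDef

variable {k : Type u} [Field k] {B₀ : Type u} [CommRing B₀] [Algebra k B₀] {ι σ : Type u} [Fintype σ]
variable (P : Algebra.Presentation k B₀ ι σ)

/-- The power series ring. -/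
abbrev PS (k : Type u) [Field k] (n : ℕ) : CRing k k := ArtFunLib.psRing (ArtFunLib.fieldCRing k) n

lemma ker_res_CRing (R : CRing k k) : RingHom.ker R.res = maximalIdeal R.carrier :=
  IsLocalRing.eq_maximalIdeal (RingHom.ker_isMaximal_of_surjective _ R.res_surjective)

lemma maximalIdeal_PS (n : ℕ) :
    maximalIdeal (PS k n).carrier = Ideal.span (Set.range (ArtFunLib.psX (ArtFunLib.fieldCRing k) n)) := by
  have hR0 : maximalIdeal (ArtFunLib.fieldCRing k).carrier = ⊥ := (IsLocalRing.maximalIdeal_eq_bot : maximalIdeal k = ⊥)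
  rw [ArtFunLib.maximalIdeal_psRing, hR0, Ideal.map_bot, bot_sup_eq]

lemma D1_sq {a b : D1 k} (ha : a ∈ maximalIdeal (D1 k)) (hb : b ∈ maximalIdeal (D1 k)) : a * b = 0 := by
  obtain ⟨c, rfl⟩ := exists_eq_smul_epsD hb
  rw [mul_smul_comm, mul_epsD ha, smul_zero]

lemma sq_le_ker {Q : Type u} [CommRing Q] [IsLocalRing Q] [Algebra k Q] {resQ : Q →ₐ[k] k}
    (hQ : RingHom.ker resQ = maximalIdeal Q) (φ : HomSet Q resQ (D1 k)) : maximalIdeal Q ^ 2 ≤ RingHom.ker φ.1 := by
  have h : ∀ a ∈ maximalIdeal Q, φ.1 a ∈ maximalIdeal (D1 k) := fun a ha => by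
    rw [Art.mem_maximalIdeal_iff]
    exact (congrArg (fun f : Q →ₐ[k] k => f a) φ.2).trans (hQ.ge ha)
  rw [pow_two, Ideal.mul_le]
  intro a ha b hb
  rw [RingHom.mem_ker, map_mul, D1_sq (h a ha) (h b hb)]

lemma map_cExt {C C' : Art k k} (g : C ⟶ C') (x : MvPolynomial ι k) :
    MvPolynomial.map g.toAlgHom.toRingHom (cExt C x) = cExt C' x := by
  rw [cExt, cExt, MvPolynomial.map_map]
  exact congrArg (fun h => MvPolynomial.map h x) g.toAlgHom.comp_algebraMap

lemma chain_sum {τ : Type*} (I : Finset τ) (v : τ → k) (g : τ → σ → MvPolynomial ι k) :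
    chain P (fun s => ∑ i ∈ I, v i • g i s) = ∑ i ∈ I, v i • chain P (g i) := by
  refine (CotT.L1basis P).ext fun s => ?_
  rw [chain_basis, map_sum, LinearMap.sum_apply]
  exact Finset.sum_congr rfl fun i _ => by rw [map_smul, LinearMap.smul_apply, chain_basis]

variable {R : CRing k k} {n : ℕ} (ξ : Family R.carrier R.res (defF (k := k) B₀))
  (θ : (PS k n).carrier →ₐ[k] R.carrier)

omit [Fintype σ] in
include θ in
/-- The tangent directions of a hull, through its first-order truncation. -/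
theorem exists_tangent_model (hθs : Function.Surjective θ) (hθr : R.res.comp θ = (PS k n).res)
    (hker : RingHom.ker θ ≤ maximalIdeal (PS k n).carrier ^ 2) :
    ∃ (C1 : Art k k) (qH : HomSet R.carrier R.res C1) (t : Fin n → C1) (χ : (Fin n → k) → (C1 ⟶ D1 k)),
      (∀ i, ∀ a ∈ maximalIdeal C1, a * t i = 0) ∧
      (∀ a ∈ maximalIdeal C1, ∃ c : Fin n → k, a = ∑ i, c i • t i) ∧
      (∀ v i, χ v (t i) = v i • epsD k) ∧ Function.Bijective fun v => HomSet.map (χ v) qH := by
  classical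
  have hkm := ker_res_CRing R
  obtain ⟨C1, q, hq, hqk, hqr⟩ := ArtFunLib.exists_artQuot R.res_surjective (maximalIdeal R.carrier ^ 2)
    (hkm ▸ Ideal.pow_le_self two_ne_zero) 2 (hkm ▸ le_rfl)
  let x : Fin n → R.carrier := fun i => θ (ArtFunLib.psX (ArtFunLib.fieldCRing k) n i)
  have hx : ∀ i, x i ∈ maximalIdeal R.carrier := fun i => by
    rw [CRing.mem_maximalIdeal_iff]
    exact (congrArg (fun f : (PS k n).carrier →ₐ[k] k => f (ArtFunLib.psX (ArtFunLib.fieldCRing k) n i)) hθr).trans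
      (ArtFunLib.psX_res _ _ _)
  have hres : ∀ r, C1.res (q r) = R.res r := fun r => congrArg (fun f : R.carrier →ₐ[k] k => f r) hqr
  let t : Fin n → C1 := fun i => q (x i)
  have ht : ∀ i, ∀ a ∈ maximalIdeal C1, a * t i = 0 := by
    intro i a ha
    obtain ⟨r, rfl⟩ := hq a
    have hr : r ∈ maximalIdeal R.carrier := by
      rw [CRing.mem_maximalIdeal_iff, ← hres]
      exact (Art.mem_maximalIdeal_iff _ _).1 ha
    change q r * q (x i) = 0
    rw [← map_mul, ← RingHom.mem_ker, hqk, pow_two]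
    exact Ideal.mul_mem_mul hr (hx i)
  have hgen : ∀ a ∈ maximalIdeal C1, ∃ c : Fin n → k, a = ∑ i, c i • t i := by
    intro a ha
    obtain ⟨r, rfl⟩ := hq a
    obtain ⟨z, rfl⟩ := hθs r
    have hz : z ∈ maximalIdeal (PS k n).carrier := by
      rw [CRing.mem_maximalIdeal_iff, ← hθr, AlgHom.comp_apply, ← hres]
      exact (Art.mem_maximalIdeal_iff _ _).1 ha
    rw [maximalIdeal_PS, Ideal.mem_span_range_iff_exists_fun] at hz
    obtain ⟨c, rfl⟩ := hz
    refine ⟨fun i => C1.res (q (θ (c i))), ?_⟩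
    rw [map_sum, map_sum]
    refine Finset.sum_congr rfl fun i _ => ?_
    rw [map_mul, map_mul, Algebra.smul_def]
    change q (θ (c i)) * t i = _
    rw [← sub_eq_zero, ← sub_mul]
    exact ht i _ (sub_res_mem C1 _)
  -- the tangent vectors
  have hA : ∀ v : Fin n → k, ∃ χ : C1 ⟶ D1 k, ∀ i, χ (t i) = v i • epsD k := by
    intro v
    obtain ⟨ψ, -, hψ⟩ := ArtFunLib.exists_psHomSet (R := ArtFunLib.fieldCRing k) (n := n) (A := D1 k)
      ⟨(Algebra.ofId k (D1 k) : k →ₐ[k] D1 k), AlgHom.ext fun c => (D1 k).res.commutes c⟩ (fun i => v i • epsD k)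
      (fun i => by rw [Art.mem_maximalIdeal_iff, map_smul, res_epsD, smul_zero])
    obtain ⟨φ, hφ⟩ := ArtFunLib.exists_algHom_factor hθs ψ.1
      (hker.trans (sq_le_ker (ker_res_CRing (PS k n)) ψ))
    have hφr : (D1 k).res.comp φ = R.res := AlgHom.ext fun r => by
      obtain ⟨z, rfl⟩ := hθs r
      rw [AlgHom.comp_apply, hφ]
      exact (congrArg (fun f : (PS k n).carrier →ₐ[k] k => f z) (ψ.2.trans hθr.symm))
    obtain ⟨χ, hχ⟩ := ArtFunLib.exists_algHom_factor hq φ (hqk ▸ sq_le_ker hkm ⟨φ, hφr⟩)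
    refine ⟨⟨χ, AlgHom.ext fun a => ?_⟩, fun i => ?_⟩
    · obtain ⟨r, rfl⟩ := hq a
      rw [AlgHom.comp_apply, hχ]
      exact (congrArg (fun f : R.carrier →ₐ[k] k => f r) hφr).trans (hres r).symm
    · exact (hχ (x i)).trans ((hφ _).trans (hψ i))
  choose χ hχ using hA
  let qH : HomSet R.carrier R.res C1 := ⟨q, hqr⟩
  have hval : ∀ v i, (HomSet.map (χ v) qH).1 (x i) = v i • epsD k := fun v i => hχ v i
  refine ⟨C1, qH, t, χ, ht, hgen, hχ, fun v w h => funext fun i => ?_, fun φ => ?_⟩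
  · have e := congrArg (fun f : HomSet R.carrier R.res (D1 k) => f.1 (x i)) h
    simp only [hval] at e
    by_contra hne
    refine epsD_ne_zero (k := k) ((smul_eq_zero.1 ?_).resolve_left (sub_ne_zero.2 hne))
    rw [sub_smul, e, sub_self]
  · choose v hv using fun i => exists_eq_smul_epsD (a := φ.1 (x i)) (by
      rw [Art.mem_maximalIdeal_iff]
      exact (congrArg (fun f : R.carrier →ₐ[k] k => f (x i)) φ.2).trans ((CRing.mem_maximalIdeal_iff _ _).1 (hx i)))
    refine ⟨v, Subtype.ext (AlgHom.ext fun r => ?_)⟩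
    obtain ⟨z, rfl⟩ := hθs r
    have hr : ∀ φ : HomSet R.carrier R.res (D1 k), (D1 k).res.comp (φ.1.comp θ) = (PS k n).res := fun φ => by
      rw [← AlgHom.comp_assoc, φ.2, hθr]
    have hext := ArtFunLib.psHomSet_ext (ψ₁ := ⟨_, hr (HomSet.map (χ v) qH)⟩) (ψ₂ := ⟨_, hr φ⟩)
      (Subsingleton.elim _ _ : (_ : k →ₐ[k] D1 k) = _) (fun i => (hval v i).trans (hv i).symm)
    exact congrArg (fun f : HomSet (PS k n).carrier (PS k n).res (D1 k) => f.1 z) hext

/-- Pushing a family to the dual numbers along tangent directions. -/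
theorem exists_push_firstEq {C1 : Art k k} (t : Fin n → C1) (ht : ∀ i, ∀ a ∈ maximalIdeal C1, a * t i = 0)
    (hgen : ∀ a ∈ maximalIdeal C1, ∃ c : Fin n → k, a = ∑ i, c i • t i) (G : PFam P C1) :
    ∃ g : σ → Fin n → MvPolynomial ι k, ∀ (χ : C1 ⟶ D1 k) (v : Fin n → k), (∀ i, χ (t i) = v i • epsD k) →
      (G.push χ).F = firstEq P (fun s => ∑ i, v i • g s i) := by
  choose g hg using fun s => exists_sum_of_red_zero t ht hgen (x := G.F s - cExt C1 (P.relation s))
    (by rw [map_sub, G.red_F, red_cExt, sub_self])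
  refine ⟨g, fun χ v hχ => funext fun s => ?_⟩
  change MvPolynomial.map χ.toAlgHom.toRingHom (G.F s) = _
  rw [eq_add_of_sub_eq (hg s), map_add, map_cExt, map_sum, firstEq, map_sum (cExt (D1 k)), Finset.mul_sum, add_comm]
  refine congrArg₂ (· + ·) rfl (Finset.sum_congr rfl fun i _ => ?_)
  rw [map_mul, MvPolynomial.map_C, map_cExt, show χ.toAlgHom.toRingHom (t i) = v i • epsD k from hχ i,
    MvPolynomial.smul_eq_C_mul, map_mul, cExt, MvPolynomial.map_C, Algebra.smul_def, map_mul]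
  ring

/-- A bijection which is linear away from the origin computes the dimension. -/
theorem finrank_of_bijective_linear_off_zero [Infinite k] {A M : Type*} [CommRing A] [Algebra k A] [AddCommGroup M]
    [Module A M] [Module k M] [IsScalarTower k A M] (Z : Submodule A M) (B : Submodule A Z) (L : (Fin n → k) →ₗ[k] M)
    (hmem : ∀ v, L v ∈ Z) (Ψ : (Fin n → k) → Z ⧸ B) (hΨ : Function.Bijective Ψ)
    (h : ∀ v, v ≠ 0 → Ψ v = Submodule.Quotient.mk ⟨L v, hmem v⟩) : Module.finrank k (Z ⧸ B) = n := by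
  classical
  let Φ : (Fin n → k) →ₗ[k] Z ⧸ B := (B.mkQ.restrictScalars k).comp
    ({ toFun := fun v => ⟨L v, hmem v⟩
       map_add' := fun v w => Subtype.ext (map_add L v w)
       map_smul' := fun c v => Subtype.ext (map_smul L c v) } : (Fin n → k) →ₗ[k] Z)
  have hΦ : ∀ v, v ≠ 0 → Ψ v = Φ v := h
  have h0 : Ψ 0 = 0 := by
    obtain ⟨v, hv⟩ := hΨ.2 0
    by_cases hv0 : v = 0
    · rw [← hv0]; exact hv
    exfalso
    obtain ⟨c, hc⟩ := Infinite.exists_notMem_finset ({0, 1} : Finset k)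
    simp only [Finset.mem_insert, Finset.mem_singleton, not_or] at hc
    have e : Ψ (c • v) = Ψ v := by
      rw [hΦ _ (smul_ne_zero hc.1 hv0), map_smul, ← hΦ _ hv0, hv, smul_zero]
    exact smul_ne_zero (sub_ne_zero.2 hc.2) hv0 (by rw [sub_smul, one_smul, hΨ.1 e, sub_self])
  have hΨΦ : Ψ = Φ := funext fun v => if h : v = 0 then by rw [h, h0, map_zero] else hΦ v h
  rw [← (LinearEquiv.ofBijective Φ (hΨΦ ▸ hΨ)).finrank_eq, Module.finrank_pi, Fintype.card_fin]

include ξ θ in
/-- The dimension of `T¹` is the embedding dimension of a hull. -/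
theorem finrank_T1 [IsAlgClosed k] (hθs : Function.Surjective θ) (hθr : R.res.comp θ = (PS k n).res)
    (hker : RingHom.ker θ ≤ maximalIdeal (PS k n).carrier ^ 2) (hbij : Function.Bijective (ξ.app (D1 k))) :
    Module.finrank k (CotT.T1 P B₀) = n := by
  classical
  obtain ⟨C1, qH, t, χ, ht, hgen, hχ, hqbij⟩ := exists_tangent_model θ hθs hθr hker
  let G := famOf P (ξ.app C1 qH)
  obtain ⟨g, hg⟩ := exists_push_firstEq P t ht hgen G
  let Ψ : (Fin n → k) → CotT.T1 P B₀ := fun v => t1 P (ξ.app (D1 k) (HomSet.map (χ v) qH))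
  have hΨ : Function.Bijective Ψ := (bijective_t1 P).comp (hbij.comp hqbij)
  let gv : (Fin n → k) → σ → MvPolynomial ι k := fun v s => ∑ i, v i • g s i
  have hpush : ∀ v, (G.push (χ v)).F = firstEq P (gv v) := fun v => hg (χ v) v (hχ v)
  let L : (Fin n → k) →ₗ[k] (CotT.L1 P →ₗ[B₀] B₀) := Fintype.linearCombination k fun i => chain P (fun s => g s i)
  have hL : ∀ v, L v = chain P (gv v) := fun v => by
    rw [Fintype.linearCombination_apply, ← chain_sum P Finset.univ v (fun i s => g s i)]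
  have hLmem : ∀ v, L v ∈ CotT.cocycles1 P B₀ := fun v => by
    rw [hL]
    exact chain_mem P _ _ (hpush v)
  refine finrank_of_bijective_linear_off_zero (CotT.cocycles1 P B₀) (CotT.coboundaries1 P B₀) L hLmem Ψ hΨ ?_
  intro v hv
  obtain ⟨i, hi⟩ : ∃ i, v i ≠ 0 := by
    by_contra h
    push Not at h
    exact hv (funext h)
  have hs : Function.Surjective (χ v) := by
    intro a
    obtain ⟨c, hc⟩ := exists_eq_smul_epsD (sub_res_mem (D1 k) a)
    refine ⟨algebraMap k C1 ((D1 k).res a) + (c / v i) • t i, ?_⟩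
    change (χ v).toAlgHom _ = a
    rw [map_add, AlgHom.commutes, map_smul, show (χ v).toAlgHom (t i) = v i • epsD k from hχ v i, smul_smul,
      div_mul_cancel₀ _ hi, ← hc, add_sub_cancel]
  have e : ξ.app (D1 k) (HomSet.map (χ v) qH) = (G.push (χ v)).cl := by
    rw [ξ.natural, ← famOf_cl P (ξ.app C1 qH)]
    exact G.map_cl (χ v) hs (G.push (χ v)) fun s => rfl
  change t1 P _ = _
  rw [e, t1_cl P _ _ (hpush v)]
  exact congrArg Submodule.Quotient.mk (Subtype.ext (hL v).symm)

/-- Deformations over `k` are unique. -/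
theorem subsingleton_base : Subsingleton ((defF (k := k) B₀).obj (Art.base k k)) := by
  refine ⟨fun u v => ?_⟩
  induction u using Quotient.inductionOn with
  | _ 𝒳 =>
    induction v using Quotient.inductionOn with
    | _ 𝒴 =>
      haveI := 𝒳.isPullback.isIso_fst_of_isIso
      haveI := 𝒴.isPullback.isIso_fst_of_isIso
      refine Quotient.sound ⟨⟨(asIso 𝒳.i).symm ≪≫ asIso 𝒴.i, ?_, ?_⟩⟩
      · simp only [Iso.trans_hom, Iso.symm_hom, asIso_inv, asIso_hom, Category.assoc]
        rw [IsIso.inv_comp_eq, 𝒳.isPullback.w, 𝒴.isPullback.w]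
      · simp

omit [Fintype σ] in
include θ in
lemma ringKrullDim_hull_le (hθs : Function.Surjective θ) :
    ringKrullDim R.carrier ≤ ((n : ℕ∞) : WithBot ℕ∞) :=
  (ringKrullDim_le_of_surjective θ.toRingHom hθs).trans (PSLoc.ringKrullDim_eq k n).le

include ξ θ in
/-- The lower bound for the dimension from an obstruction theory. -/
lemma le_ringKrullDim_hull (hθs : Function.Surjective θ) (hθr : R.res.comp θ = (PS k n).res)
    (hker : RingHom.ker θ ≤ maximalIdeal (PS k n).carrier ^ 2) (hv : IsVersal ξ)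
    {V : Type u} [AddCommGroup V] [Module k V] [Module.Finite k V] (T : ObsTheory (defF (k := k) B₀) V) :
    ((n : ℕ∞) : WithBot ℕ∞) ≤ ringKrullDim R.carrier + ((Module.finrank k V : ℕ∞) : WithBot ℕ∞) := by
  have hle := ArtFunLib.spanFinrank_le_of_obsTheory (PS k n).res (PS k n).res_surjective θ hθs hker R.res hθr
    (ArtFunLib.obsTheory_comap (ArtFunLib.NatFam.ofFamily ξ) (fun _ _ μ hμ x y h => hv μ hμ x y h) T)
  have h2 := ringKrullDim_le_ringKrullDim_quotient_add_spanFinrank (RingHom.ker θ.toRingHom)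
    ((IsLocalRing.le_maximalIdeal (RingHom.ker_ne_top θ.toRingHom)).trans (IsLocalRing.maximalIdeal_le_jacobson ⊥)
      |>.trans Ideal.jacobson_bot.le)
  rw [ringKrullDim_eq_of_ringEquiv (RingHom.quotientKerEquivOfSurjective (f := θ.toRingHom) hθs)] at h2
  refine ((PSLoc.ringKrullDim_eq k n).ge.trans h2).trans (add_le_add le_rfl ?_)
  exact_mod_cast hle

/-- No obstructions for a smooth functor. -/
def obsTheory_smooth (h : IsSmoothFunctor (defF (k := k) B₀)) : ObsTheory (defF (k := k) B₀) PUnit.{u + 1} where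
  obs _ _ _ := 0
  obs_eq_zero_iff p hp u := iff_of_true rfl (h p hp.1 u)
  obs_quot _ _ _ _ _ _ _ := (map_zero _).symm

include ξ θ in
/-- A hull of full dimension has smooth functor. -/
lemma smooth_of_dim_eq (hθs : Function.Surjective θ) (hθr : R.res.comp θ = (PS k n).res) (hv : IsVersal ξ)
    (hd : ringKrullDim R.carrier = ((n : ℕ∞) : WithBot ℕ∞)) : IsSmoothFunctor (defF (k := k) B₀) := by
  haveI := subsingleton_base (k := k) (B₀ := B₀)
  rw [ArtFunLib.isSmoothFunctor_iff_hR hv]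
  have hinj : Function.Injective θ := by
    rw [injective_iff_map_eq_zero]
    intro z hz
    by_contra hne
    haveI : IsDomain (PS k n).carrier := (NoZeroDivisors.to_isDomain (MvPowerSeries (Fin n) k) :)
    have h1 := ringKrullDim_quotient_succ_le_of_nonZeroDivisor (mem_nonZeroDivisors_of_ne_zero hne)
    have h2 : ringKrullDim R.carrier ≤ ringKrullDim ((PS k n).carrier ⧸ Ideal.span {z}) :=
      ringKrullDim_le_of_surjective (Ideal.Quotient.lift (Ideal.span {z}) θ.toRingHom fun a ha => by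
          obtain ⟨b, rfl⟩ := Ideal.mem_span_singleton'.1 ha
          change θ (b * z) = 0
          rw [map_mul, hz, mul_zero])
        (Ideal.Quotient.lift_surjective_of_surjective _ _ hθs)
    have h3 : ((n : ℕ∞) : WithBot ℕ∞) + 1 ≤ ((n : ℕ∞) : WithBot ℕ∞) :=
      ((add_le_add_left (hd ▸ h2) 1).trans h1).trans (PSLoc.ringKrullDim_eq k n).le
    have h4 : n + 1 ≤ n := by exact_mod_cast h3
    omega
  let e := AlgEquiv.ofBijective θ ⟨hinj, hθs⟩
  intro B A μ hμ φ
  let φ' : HomSet R.carrier R.res A := φ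
  obtain ⟨ψ, hψ⟩ := ArtFunLib.isSmoothFunctor_psRing_field n μ hμ
    (⟨φ'.1.comp θ, by rw [← AlgHom.comp_assoc, φ'.2, hθr]⟩ : HomSet (PS k n).carrier (PS k n).res A)
  let ψ' : HomSet (PS k n).carrier (PS k n).res B := ψ
  refine ⟨(⟨ψ'.1.comp e.symm.toAlgHom, ?_⟩ : HomSet R.carrier R.res B), Subtype.ext (AlgHom.ext fun r => ?_)⟩
  · rw [← AlgHom.comp_assoc, ψ'.2, ← hθr, AlgHom.comp_assoc]
    exact (congrArg (R.res.comp ·) (AlgHom.ext e.apply_symm_apply)).trans (AlgHom.comp_id _)
  · have h' := congrArg (fun f : HomSet (PS k n).carrier (PS k n).res A => f.1 (e.symm r)) hψ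
    exact h'.trans (congrArg φ'.1 (e.apply_symm_apply r))

end Groth.Agent.AffDef
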