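import Groth.Agent.AffDef.Tangent

/-!
# The class in `T¹` is linear for the tangent space operations
-/

universe u

open CategoryTheory AlgebraicGeometry TensorProduct IsLocalRing MvPolynomial ArtFun

noncomputable section

namespace Groth.Agent.AffDef

variable {k : Type u} [Field k] {B₀ : Type u} [CommRing B₀] [Algebra k B₀] {ι σ : Type u} [Fintype σ]
variable (P : Algebra.Presentation k B₀ ι σ)

/-- `k[ε₁, ε₂]`. -/
abbrev D2 (k : Type u) [Field k] : Art k k := Art.dual2 k k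

/-- `εᵢ`. -/
def eps2 (k : Type u) [Field k] (i : Fin 2) : D2 k :=
  (TrivSqZeroExt.inr (if i = 0 then (1, 0) else (0, 1)) : TrivSqZeroExt k (k × k))

lemma tsze_mul_inr (a : TrivSqZeroExt k (k × k)) (h : a.fst = 0) (m : k × k) : a * TrivSqZeroExt.inr m = 0 :=
  TrivSqZeroExt.ext (by simp [h]) (by simp [h])

lemma tsze_decomp (a : TrivSqZeroExt k (k × k)) (h : a.fst = 0) :
    a = a.snd.1 • TrivSqZeroExt.inr (1, 0) + a.snd.2 • TrivSqZeroExt.inr (0, 1) := by
  refine TrivSqZeroExt.ext ?_ (Prod.ext ?_ ?_) <;> simp [h]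

lemma mul_eps2 {a : D2 k} (ha : a ∈ maximalIdeal (D2 k)) (i : Fin 2) : a * eps2 k i = 0 :=
  tsze_mul_inr _ ((Art.mem_maximalIdeal_iff (D2 k) a).1 ha) _

lemma exists_eq_eps2 {a : D2 k} (ha : a ∈ maximalIdeal (D2 k)) : ∃ c : Fin 2 → k, a = ∑ i, c i • eps2 k i := by
  refine ⟨![(show TrivSqZeroExt k (k × k) from a).snd.1, (show TrivSqZeroExt k (k × k) from a).snd.2], ?_⟩
  rw [Fin.sum_univ_two]
  exact tsze_decomp _ ((Art.mem_maximalIdeal_iff (D2 k) a).1 ha)

/-- `t1` of the push-forwards of one family. -/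
theorem exists_t1_linear {C1 : Art k k} {n : ℕ} (t : Fin n → C1) (ht : ∀ i, ∀ a ∈ maximalIdeal C1, a * t i = 0)
    (hgen : ∀ a ∈ maximalIdeal C1, ∃ c : Fin n → k, a = ∑ i, c i • t i) (z : (defF (k := k) B₀).obj C1) :
    ∃ c : Fin n → (CotT.L1 P →ₗ[B₀] B₀), ∀ (χ : C1 ⟶ D1 k) (v : Fin n → k), Function.Surjective χ →
      (∀ i, χ (t i) = v i • epsD k) → ∃ h : ∑ i, v i • c i ∈ CotT.cocycles1 P B₀,
        t1 P ((defF (k := k) B₀).map χ z) = Submodule.Quotient.mk ⟨_, h⟩ := by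
  obtain ⟨g, hg⟩ := exists_push_firstEq (P := P) t ht hgen (famOf P z)
  refine ⟨fun i => chain P fun s => g s i, fun χ v hs hv => ?_⟩
  have hF := hg χ v hv
  have e : (defF (k := k) B₀).map χ z = ((famOf P z).push χ).cl := by
    conv_lhs => rw [← famOf_cl P z]
    exact (famOf P z).map_cl χ hs _ fun s => rfl
  have hc := chain_sum P Finset.univ v fun i s => g s i
  refine ⟨hc ▸ chain_mem P _ _ hF, ?_⟩
  rw [e, t1_cl P _ _ hF]
  exact congrArg Submodule.Quotient.mk (Subtype.ext hc)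

theorem t1_scale_of_ne_zero {c : k} (hc : c ≠ 0) (u : (defF (k := k) B₀).obj (D1 k)) :
    t1 P ((defF (k := k) B₀).map (Art.scale c) u) = c • t1 P u := by
  obtain ⟨a, ha⟩ := exists_t1_linear P (fun _ : Fin 1 => epsD k) (fun _ _ h => mul_epsD h)
    (fun x hx => by
      obtain ⟨d, rfl⟩ := exists_eq_smul_epsD hx
      exact ⟨fun _ => d, by simp⟩) u
  obtain ⟨h1, e1⟩ := ha (𝟙 _) (fun _ => 1) Function.surjective_id (fun _ => (one_smul k _).symm)
  obtain ⟨h2, e2⟩ := ha (Art.scale c) (fun _ => c)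
    (fun y => ⟨(Art.scale c⁻¹ : D1 k ⟶ D1 k) y, by
      refine TrivSqZeroExt.ext rfl ?_
      show c • (c⁻¹ • TrivSqZeroExt.snd (show DualNumber k from y)) = TrivSqZeroExt.snd (show DualNumber k from y)
      rw [smul_smul, mul_inv_cancel₀ hc, one_smul]⟩)
    (fun _ => by
      refine TrivSqZeroExt.ext ?_ ?_
      · change (0 : k) = c * 0
        rw [mul_zero]
      · rfl)
  rw [CategoryTheory.Functor.map_id] at e1
  rw [e2, show t1 P u = _ from e1, ← Submodule.Quotient.mk_smul]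
  refine congrArg Submodule.Quotient.mk (Subtype.ext ?_)
  simp

theorem t1_plus (z : (defF (k := k) B₀).obj (D2 k)) :
    t1 P ((defF (k := k) B₀).map Art.pr₁ z) + t1 P ((defF (k := k) B₀).map Art.pr₂ z)
      = t1 P ((defF (k := k) B₀).map Art.plus z) := by
  obtain ⟨a, ha⟩ := exists_t1_linear P (eps2 k) (fun i _ h => mul_eps2 h i) (fun _ h => exists_eq_eps2 h) z
  have surj : ∀ (f : k × k →ₗ[k] k) (w : k × k), f w = 1 →
      ∀ y : DualNumber k, ∃ x : TrivSqZeroExt k (k × k), x.fst = y.fst ∧ f x.snd = y.snd := fun f w hw y =>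
    ⟨(y.fst, y.snd • w), rfl, by
      change f (y.snd • w) = y.snd
      rw [map_smul, hw, smul_eq_mul, mul_one]⟩
  have key : ∀ (χ : D2 k ⟶ D1 k) (v : Fin 2 → k), Function.Surjective χ → (∀ i, χ (eps2 k i) = v i • epsD k) →
      ∃ h : ∑ i, v i • a i ∈ CotT.cocycles1 P B₀,
        t1 P ((defF (k := k) B₀).map χ z) = Submodule.Quotient.mk ⟨_, h⟩ := ha
  obtain ⟨h1, e1⟩ := key Art.pr₁ ![1, 0] (fun y => by
      obtain ⟨x, h, h'⟩ := surj (LinearMap.fst k k k) (1, 0) rfl y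
      exact ⟨x, TrivSqZeroExt.ext h h'⟩) (fun i => by
      fin_cases i <;> refine TrivSqZeroExt.ext ?_ ?_ <;> simp [eps2, epsD, Art.pr₁] <;> rfl)
  obtain ⟨h2, e2⟩ := key Art.pr₂ ![0, 1] (fun y => by
      obtain ⟨x, h, h'⟩ := surj (LinearMap.snd k k k) (0, 1) rfl y
      exact ⟨x, TrivSqZeroExt.ext h h'⟩) (fun i => by
      fin_cases i <;> refine TrivSqZeroExt.ext ?_ ?_ <;> simp [eps2, epsD, Art.pr₂] <;> rfl)
  obtain ⟨h3, e3⟩ := key Art.plus ![1, 1] (fun y => by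
      obtain ⟨x, h, h'⟩ := surj (LinearMap.fst k k k + LinearMap.snd k k k) (1, 0) (by simp) y
      exact ⟨x, TrivSqZeroExt.ext h h'⟩) (fun i => by
      fin_cases i <;> refine TrivSqZeroExt.ext ?_ ?_ <;> simp [eps2, epsD, Art.plus] <;>
        first | rfl | exact add_zero _ | exact zero_add _)
  rw [e1, e2, e3, ← Submodule.Quotient.mk_add]
  refine congrArg Submodule.Quotient.mk (Subtype.ext ?_)
  simp [Fin.sum_univ_two]

theorem t1_scale (c : k) (u : (defF (k := k) B₀).obj (D1 k)) :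
    t1 P ((defF (k := k) B₀).map (Art.scale c) u) = c • t1 P u := by
  by_cases hc : c = 0
  · subst hc
    let j : D1 k ⟶ D2 k := ⟨Art.tszeMap (LinearMap.inl k k k), AlgHom.ext fun _ => rfl⟩
    have h1 : j ≫ Art.pr₁ = 𝟙 _ := Art.hom_ext (AlgHom.ext fun y => TrivSqZeroExt.ext rfl rfl)
    have h2 : j ≫ Art.pr₂ = Art.scale 0 :=
      Art.hom_ext (AlgHom.ext fun y => TrivSqZeroExt.ext rfl (zero_smul k _).symm)
    have h3 : j ≫ Art.plus = 𝟙 _ := Art.hom_ext (AlgHom.ext fun y => TrivSqZeroExt.ext rfl (add_zero _))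
    have h := t1_plus P ((defF (k := k) B₀).map j u)
    simp only [← ConcreteCategory.comp_apply, ← Functor.map_comp, h1, h2, h3, CategoryTheory.Functor.map_id] at h
    rw [zero_smul]
    exact add_left_cancel (h.trans (add_zero _).symm)
  · exact t1_scale_of_ne_zero P hc u

end Groth.Agent.AffDef
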