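import Groth.Agent.AffDef.Dual
import Groth.Agent.DefMod95.EndDeform

/-!
# Thickenings of a deformed algebra along a semismall extension
-/

universe u

open TensorProduct IsLocalRing

noncomputable section

namespace Groth.Agent.AffDef

variable {k : Type u} [Field k]

lemma ker_res_eq (A : ArtFun.Art k k) : RingHom.ker A.res.toRingHom = maximalIdeal A :=
  IsLocalRing.eq_maximalIdeal (RingHom.ker_isMaximal_of_surjective _ A.res_surjective)

lemma sub_res_mem (A : ArtFun.Art k k) (a : A) : a - algebraMap k A (A.res a) ∈ maximalIdeal A := by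
  rw [ArtFun.Art.mem_maximalIdeal_iff, map_sub, AlgHom.commutes]
  exact sub_self _

section Semismall

variable {C' C : ArtFun.Art k k} {p : C' ⟶ C}

lemma mul_ker_eq_zero (hp : ArtFun.Art.IsSemismallExt p) {a j : C'} (ha : a ∈ maximalIdeal C')
    (hj : j ∈ RingHom.ker p.toAlgHom) : a * j = 0 := by
  have h := Ideal.mul_mem_mul ha hj
  rw [hp.2] at h
  exact h

lemma ker_le_max : RingHom.ker p.toAlgHom ≤ maximalIdeal C' := fun j hj => by
  rw [ArtFun.Art.mem_maximalIdeal_iff, ← ArtFun.Art.res_app p j, show p j = 0 from hj, map_zero]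

lemma mul_eq_res_mul (hp : ArtFun.Art.IsSemismallExt p) (a : C') {j : C'} (hj : j ∈ RingHom.ker p.toAlgHom) :
    a * j = algebraMap k C' (C'.res a) * j := by
  rw [← sub_eq_zero, ← sub_mul]
  exact mul_ker_eq_zero hp (sub_res_mem C' a) hj

lemma map_maximalIdeal (hp : ArtFun.Art.IsSemismallExt p) :
    (maximalIdeal C').map p.toAlgHom.toRingHom = maximalIdeal C := by
  refine le_antisymm (Ideal.map_le_iff_le_comap.2 fun a ha => ?_) fun c hc => ?_
  · rw [Ideal.mem_comap]
    change p a ∈ _
    rwa [ArtFun.Art.mem_maximalIdeal_iff, ArtFun.Art.res_app, ← ArtFun.Art.mem_maximalIdeal_iff]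
  · obtain ⟨a, rfl⟩ := hp.1 c
    refine Ideal.mem_map_of_mem _ ?_
    rwa [ArtFun.Art.mem_maximalIdeal_iff, ← ArtFun.Art.res_app p, ← ArtFun.Art.mem_maximalIdeal_iff]

end Semismall

/-- A deformed algebra over `C`. -/
structure DAlg (C : ArtFun.Art k k) (B₀ : Type u) [CommRing B₀] [Algebra k B₀] : Type (u + 1) where
  B : Type u
  [commRing : CommRing B]
  φ : C →+* B
  π : B →+* B₀
  surj : Function.Surjective π
  comm : π.comp φ = (algebraMap k B₀).comp C.res.toRingHom
  ker : RingHom.ker π = (maximalIdeal C).map φ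
  flat : φ.Flat

instance {C : ArtFun.Art k k} {B₀ : Type u} [CommRing B₀] [Algebra k B₀] (S : DAlg C B₀) : CommRing S.B := S.commRing

variable {C' C : ArtFun.Art k k} (p : C' ⟶ C) {B₀ : Type u} [CommRing B₀] [Algebra k B₀]

/-- The coefficients. -/
abbrev MJ : Type u := B₀ ⊗[k] ↥(RingHom.ker p.toAlgHom)

/-- A `C'`-algebra with a compatible augmentation to `B₀`, as in `DAlg` but without flatness. -/
structure Pre (C' : ArtFun.Art k k) (B₀ : Type u) [CommRing B₀] [Algebra k B₀] (R : Type u) [CommRing R] where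
  φ : C' →+* R
  π : R →+* B₀
  surj : Function.Surjective π
  comm : π.comp φ = (algebraMap k B₀).comp C'.res.toRingHom
  ker : RingHom.ker π = (maximalIdeal C').map φ

variable {p}

namespace Pre

variable {R : Type u} [CommRing R] (P : Pre C' B₀ R)

lemma mul_eq_zero_of_pi (hp : ArtFun.Art.IsSemismallExt p) {j : C'} (hj : j ∈ RingHom.ker p.toAlgHom) {x : R}
    (hx : P.π x = 0) : P.φ j * x = 0 := by
  have hx' : x ∈ (maximalIdeal C').map P.φ := P.ker ▸ hx
  induction hx' using Submodule.span_induction with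
  | mem y hy =>
    obtain ⟨a, ha, rfl⟩ := hy
    rw [← map_mul, mul_comm, mul_ker_eq_zero hp ha hj, map_zero]
  | zero => rw [mul_zero]
  | add y z hy hz ihy ihz =>
    rw [mul_add, ihy (RingHom.mem_ker.1 (P.ker.ge hy)), ihz (RingHom.mem_ker.1 (P.ker.ge hz)), add_zero]
  | smul c y hy ihy => rw [smul_eq_mul, mul_left_comm, ihy (RingHom.mem_ker.1 (P.ker.ge hy)), mul_zero]

lemma mul_congr (hp : ArtFun.Art.IsSemismallExt p) {j : C'} (hj : j ∈ RingHom.ker p.toAlgHom) {x y : R}
    (h : P.π x = P.π y) : P.φ j * x = P.φ j * y := by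
  rw [← sub_eq_zero, ← mul_sub]
  exact P.mul_eq_zero_of_pi hp hj (by rw [map_sub, h, sub_self])

lemma pi_algebraMap (c : k) : P.π (P.φ (algebraMap k C' c)) = algebraMap k B₀ c := by
  rw [← RingHom.comp_apply P.π, P.comm, RingHom.comp_apply]
  exact congrArg _ (C'.res.commutes c)

lemma pi_phi (a : C') : P.π (P.φ a) = algebraMap k B₀ (C'.res a) := RingHom.congr_fun P.comm a

/-- `b ⊗ j ↦ j b̃`. -/
def μ (hp : ArtFun.Art.IsSemismallExt p) : MJ p (B₀ := B₀) →+ R :=
  TensorProduct.liftAddHom
    { toFun := fun z =>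
        { toFun := fun j => P.φ j.1 * Function.surjInv P.surj z
          map_zero' := by rw [ZeroMemClass.coe_zero, map_zero, zero_mul]
          map_add' := fun i j => by rw [Submodule.coe_add, map_add, add_mul] }
      map_zero' := AddMonoidHom.ext fun j => by
        change P.φ j.1 * Function.surjInv P.surj 0 = 0
        exact P.mul_eq_zero_of_pi hp j.2 (Function.surjInv_eq P.surj 0)
      map_add' := fun z w => AddMonoidHom.ext fun j => by
        change P.φ j.1 * Function.surjInv P.surj (z + w) = P.φ j.1 * _ + P.φ j.1 * _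
        rw [← mul_add]
        exact P.mul_congr hp j.2 (by rw [map_add, Function.surjInv_eq P.surj, Function.surjInv_eq P.surj,
          Function.surjInv_eq P.surj]) }
    fun c z j => by
      change P.φ j.1 * Function.surjInv P.surj (c • z) = P.φ (c • j.1) * Function.surjInv P.surj z
      rw [Algebra.smul_def c j.1, map_mul, mul_comm (P.φ _) (P.φ j.1), mul_assoc]
      exact P.mul_congr hp j.2 (by
        rw [map_mul, P.pi_algebraMap, Function.surjInv_eq P.surj, Function.surjInv_eq P.surj, Algebra.smul_def])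

lemma μ_tmul (hp : ArtFun.Art.IsSemismallExt p) (x : R) (j : ↥(RingHom.ker p.toAlgHom)) :
    P.μ hp (P.π x ⊗ₜ j) = P.φ j.1 * x :=
  P.mul_congr hp j.2 (Function.surjInv_eq P.surj _)

lemma μ_smul (hp : ArtFun.Art.IsSemismallExt p) (x : R) (m : MJ p (B₀ := B₀)) :
    x * P.μ hp m = P.μ hp (P.π x • m) := by
  induction m using TensorProduct.induction_on with
  | zero => simp
  | add m n hm hn => rw [map_add, mul_add, hm, hn, smul_add, map_add]
  | tmul z j =>
    obtain ⟨y, rfl⟩ := P.surj z
    rw [P.μ_tmul hp, smul_tmul', smul_eq_mul, ← map_mul, P.μ_tmul hp, mul_left_comm]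

lemma μ_mem (hp : ArtFun.Art.IsSemismallExt p) (m : MJ p (B₀ := B₀)) :
    P.μ hp m ∈ (RingHom.ker p.toAlgHom).map P.φ := by
  induction m using TensorProduct.induction_on with
  | zero => simp
  | add m n hm hn => rw [map_add]; exact add_mem hm hn
  | tmul z j =>
    obtain ⟨y, rfl⟩ := P.surj z
    rw [P.μ_tmul hp]
    exact Ideal.mul_mem_right _ _ (Ideal.mem_map_of_mem _ j.2)

lemma exists_μ (hp : ArtFun.Art.IsSemismallExt p) {x : R} (hx : x ∈ (RingHom.ker p.toAlgHom).map P.φ) :
    ∃ m, P.μ hp m = x := by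
  induction hx using Submodule.span_induction with
  | mem y hy =>
    obtain ⟨a, ha, rfl⟩ := hy
    exact ⟨P.π 1 ⊗ₜ ⟨a, ha⟩, (P.μ_tmul hp 1 ⟨a, ha⟩).trans (mul_one _)⟩
  | zero => exact ⟨0, map_zero _⟩
  | add y z _ _ ihy ihz =>
    obtain ⟨m, rfl⟩ := ihy
    obtain ⟨n, rfl⟩ := ihz
    exact ⟨m + n, map_add _ _ _⟩
  | smul c y _ ihy =>
    obtain ⟨m, rfl⟩ := ihy
    exact ⟨P.π c • m, (P.μ_smul hp c m).symm⟩

lemma pi_μ (hp : ArtFun.Art.IsSemismallExt p) (m : MJ p (B₀ := B₀)) : P.π (P.μ hp m) = 0 :=
  RingHom.mem_ker.1 (P.ker.ge (Ideal.map_mono ker_le_max (P.μ_mem hp m)))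

/-- For a flat algebra, `B₀ ⊗ J → R` is injective. -/
theorem μ_injective (hp : ArtFun.Art.IsSemismallExt p) (hflat : P.φ.Flat) : Function.Injective (P.μ hp) := by
  classical
  refine (injective_iff_map_eq_zero _).2 fun m hm => ?_
  let b := Module.Basis.ofVectorSpace k ↥(RingHom.ker p.toAlgHom)
  let c := TensorProduct.equivFinsuppOfBasisRight b (M := B₀) m
  have hc : m = c.sum fun i z => z ⊗ₜ[k] b i := by
    rw [← TensorProduct.equivFinsuppOfBasisRight_symm_apply b c]
    exact (LinearEquiv.symm_apply_apply _ m).symm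
  by_contra hne
  obtain ⟨i, hi⟩ : ∃ i, c i ≠ 0 := by
    by_contra h
    push Not at h
    exact hne (by rw [hc, show c = 0 from Finsupp.ext h, Finsupp.sum_zero_index])
  let K : Ideal C' := Ideal.span ((fun l => (b l : C')) '' {l | l ≠ i})
  have hK : (b i : C') ∉ K := by
    intro hmem
    have h1 : ∀ y ∈ K, ∃ hy : y ∈ RingHom.ker p.toAlgHom,
        (⟨y, hy⟩ : ↥(RingHom.ker p.toAlgHom)) ∈ Submodule.span k (b '' {l | l ≠ i}) := by
      intro y hy
      induction hy using Submodule.span_induction with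
      | mem y hy =>
        obtain ⟨l, hl, rfl⟩ := hy
        exact ⟨(b l).2, Submodule.subset_span ⟨l, hl, rfl⟩⟩
      | zero => exact ⟨zero_mem _, zero_mem _⟩
      | add y z _ _ ihy ihz =>
        obtain ⟨hy, hy'⟩ := ihy
        obtain ⟨hz, hz'⟩ := ihz
        exact ⟨add_mem hy hz, add_mem hy' hz'⟩
      | smul a y _ ihy =>
        obtain ⟨hy, hy'⟩ := ihy
        refine ⟨Ideal.mul_mem_left _ _ hy, ?_⟩
        have h2 := Submodule.smul_mem _ (C'.res a) hy'
        convert h2 using 1
        refine Subtype.ext ?_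
        exact (mul_eq_res_mul hp a hy).trans (Algebra.smul_def _ _).symm
    obtain ⟨_, h2⟩ := h1 _ hmem
    exact b.linearIndependent.notMem_span_image (s := {l | l ≠ i}) (by simp) h2
  have hrest : ∀ l ∈ c.support.erase i, P.μ hp (c l ⊗ₜ[k] b l) ∈ K.map P.φ := by
    intro l hl
    obtain ⟨y, hy⟩ := P.surj (c l)
    rw [← hy, P.μ_tmul hp]
    exact Ideal.mul_mem_right _ _ (Ideal.mem_map_of_mem _
      (Ideal.subset_span ⟨l, (Finset.mem_erase.1 hl).1, rfl⟩))
  obtain ⟨y, hy⟩ := P.surj (c i)
  have hmi : P.φ (b i : C') * y ∈ K.map P.φ := by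
    rw [hc, Finsupp.sum, map_sum, ← Finset.add_sum_erase _ _ (Finsupp.mem_support_iff.2 hi), ← hy, P.μ_tmul hp] at hm
    rw [eq_neg_of_add_eq_zero_left hm]
    exact neg_mem (sum_mem hrest)
  have h3 := mem_map_maximalIdeal P.φ hflat hK hmi
  rw [← P.ker, RingHom.mem_ker, hy] at h3
  exact hi h3

end Pre

variable (p) in
/-- A thickening over `C'` of a deformed algebra over `C`. -/
structure Thick (S : DAlg C B₀) : Type (u + 1) where
  R : Type u
  [commRing : CommRing R]
  φ : C' →+* R
  q : R →+* S.B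
  comm : q.comp φ = S.φ.comp p.toAlgHom.toRingHom
  surj : Function.Surjective q
  ker : RingHom.ker q = (RingHom.ker p.toAlgHom).map φ
  flat : φ.Flat

instance {S : DAlg C B₀} (T : Thick p S) : CommRing T.R := T.commRing

/-- Properties of the composite augmentation. -/
def Pre.ofQuot (hp : ArtFun.Art.IsSemismallExt p) (S : DAlg C B₀) {R : Type u} [CommRing R] (φ : C' →+* R)
    (q : R →+* S.B) (comm : q.comp φ = S.φ.comp p.toAlgHom.toRingHom) (surj : Function.Surjective q)
    (ker : RingHom.ker q = (RingHom.ker p.toAlgHom).map φ) : Pre C' B₀ R where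
  φ := φ
  π := S.π.comp q
  surj := S.surj.comp surj
  comm := by
    rw [RingHom.comp_assoc, comm, ← RingHom.comp_assoc, S.comm, RingHom.comp_assoc]
    exact congrArg _ (congrArg AlgHom.toRingHom p.res_comp)
  ker := by
    rw [← RingHom.comap_ker, S.ker, ← map_maximalIdeal hp, Ideal.map_map, ← comm, ← Ideal.map_map,
      Ideal.comap_map_of_surjective _ surj, ← RingHom.ker_eq_comap_bot, ker]
    exact sup_eq_left.2 (Ideal.map_mono ker_le_max)

namespace Thick

variable {S : DAlg C B₀} (T : Thick p S)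

/-- The augmented algebra of a thickening. -/
def pre (hp : ArtFun.Art.IsSemismallExt p) : Pre C' B₀ T.R := Pre.ofQuot hp S T.φ T.q T.comm T.surj T.ker

lemma q_μ (hp : ArtFun.Art.IsSemismallExt p) (m : MJ p (B₀ := B₀)) : T.q ((T.pre hp).μ hp m) = 0 :=
  RingHom.mem_ker.1 (T.ker.ge ((T.pre hp).μ_mem hp m))

lemma μ_inj (hp : ArtFun.Art.IsSemismallExt p) : Function.Injective ((T.pre hp).μ hp) :=
  (T.pre hp).μ_injective hp T.flat

lemma exists_μ_of_q (hp : ArtFun.Art.IsSemismallExt p) {x : T.R} (hx : T.q x = 0) : ∃ m, (T.pre hp).μ hp m = x :=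
  (T.pre hp).exists_μ hp (T.ker.le hx)

end Thick

lemma free_B (S : DAlg C B₀) : letI := S.φ.toAlgebra; Module.Free C S.B :=
  letI := S.φ.toAlgebra
  haveI : Module.Flat C S.B := S.flat
  DefMod95.EndDeform.free_of_flat_of_nilpotent
    (IsLocalRing.jacobson_eq_maximalIdeal (R := C) ⊥ bot_ne_top ▸ IsArtinianRing.isNilpotent_jacobson_bot)

/-- A thickening with `B₀ ⊗ J → R` injective is flat. -/
theorem flat_of_ext (hp : ArtFun.Art.IsSemismallExt p) (S : DAlg C B₀) {R : Type u} [CommRing R] (φ : C' →+* R)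
    (q : R →+* S.B) (comm : q.comp φ = S.φ.comp p.toAlgHom.toRingHom) (surj : Function.Surjective q)
    (ker : RingHom.ker q = (RingHom.ker p.toAlgHom).map φ)
    (hinj : Function.Injective ((Pre.ofQuot hp S φ q comm surj ker).μ hp)) : φ.Flat := by
  classical
  let P := Pre.ofQuot hp S φ q comm surj ker
  letI := S.φ.toAlgebra
  letI := φ.toAlgebra
  change Module.Flat C' R
  haveI := free_B S
  let e := Module.Free.chooseBasis C S.B
  choose e' he' using fun i => surj (e i)
  let W := Submodule.span C' (Set.range e')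
  have hstep : ∀ x : R, ∃ w ∈ W, q (x - w) = 0 := by
    intro x
    choose c' hc' using fun i => hp.1 (e.repr (q x) i)
    refine ⟨∑ i ∈ (e.repr (q x)).support, φ (c' i) * e' i,
      sum_mem fun i _ => W.smul_mem (c' i) (Submodule.subset_span ⟨i, rfl⟩), ?_⟩
    rw [map_sub, map_sum, sub_eq_zero]
    conv_lhs => rw [← e.linearCombination_repr (q x), Finsupp.linearCombination_apply, Finsupp.sum]
    refine Finset.sum_congr rfl fun i _ => ?_
    rw [map_mul, he', ← RingHom.comp_apply q, comm, RingHom.comp_apply]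
    change S.φ _ * e i = S.φ (p (c' i)) * e i
    rw [hc']
  have hJ : ∀ (j : C'), j ∈ RingHom.ker p.toAlgHom → ∀ x : R, φ j * x ∈ W := by
    intro j hj x
    obtain ⟨w, hw, hq⟩ := hstep x
    rw [show φ j * x = φ j * w from P.mul_congr hp hj (by
      rw [← sub_eq_zero, ← map_sub]
      change S.π (q (x - w)) = 0
      rw [hq, map_zero])]
    exact W.smul_mem j hw
  have htop : ⊤ ≤ W := by
    intro x _
    obtain ⟨w, hw, hq⟩ := hstep x
    have hmem : x - w ∈ (RingHom.ker p.toAlgHom).map φ := ker ▸ hq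
    have hall : ∀ y ∈ (RingHom.ker p.toAlgHom).map φ, ∀ r : R, r * y ∈ W := by
      intro y hy
      induction hy using Submodule.span_induction with
      | mem y hy =>
        obtain ⟨a, ha, rfl⟩ := hy
        exact fun r => mul_comm (φ a) r ▸ hJ a ha r
      | zero => simp
      | add y z _ _ ihy ihz => exact fun r => mul_add r y z ▸ add_mem (ihy r) (ihz r)
      | smul c y _ ihy => exact fun r => by rw [smul_eq_mul, ← mul_assoc]; exact ihy _
    have h2 := hall _ hmem 1
    rw [one_mul] at h2
    simpa using add_mem h2 hw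
  have hli : LinearIndependent C' e' := by
    rw [linearIndependent_iff']
    intro s c hsum
    have hc : ∀ i ∈ s, c i ∈ RingHom.ker p.toAlgHom := by
      have h1 := congrArg q hsum
      rw [map_sum, map_zero] at h1
      have h2 : ∑ i ∈ s, p (c i) • e i = 0 := by
        refine Eq.trans (Finset.sum_congr rfl fun i _ => ?_) h1
        rw [Algebra.smul_def, Algebra.smul_def, map_mul, he']
        change S.φ (p (c i)) * e i = q (φ (c i)) * e i
        rw [← RingHom.comp_apply q φ, comm]
        rfl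
      exact fun i hi => linearIndependent_iff'.1 e.linearIndependent s _ h2 i hi
    let m : MJ p (B₀ := B₀) := ∑ i ∈ s.attach, S.π (e i) ⊗ₜ[k] ⟨c i, hc i i.2⟩
    have hm : m = 0 := hinj (by
      rw [map_zero, map_sum]
      refine Eq.trans ?_ hsum
      rw [← Finset.sum_attach s fun i => c i • e' i]
      refine Finset.sum_congr rfl fun i _ => ?_
      rw [show S.π (e i) = P.π (e' i) from (congrArg S.π (he' i)).symm, P.μ_tmul hp]
      rfl)
    have hebar : LinearIndependent k fun i => S.π (e i) := by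
      rw [linearIndependent_iff']
      intro s l hl i hi
      have h1 : (∑ i ∈ s, (algebraMap k C (l i)) • e i) ∈ RingHom.ker S.π := by
        rw [RingHom.mem_ker, map_sum]
        refine Eq.trans (Finset.sum_congr rfl fun i _ => ?_) hl
        rw [Algebra.smul_def, map_mul, Algebra.smul_def]
        congr 1
        exact (RingHom.congr_fun S.comm _).trans (congrArg _ (C.res.commutes _))
      rw [S.ker] at h1
      have h2 : (∑ i ∈ s, (algebraMap k C (l i)) • e i) ∈ maximalIdeal C • (⊤ : Submodule C S.B) := by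
        rw [Ideal.smul_top_eq_map]
        exact h1
      have h3 := (DefMod95.EndDeform.mem_smul_top_iff e _ _).1 h2 i
      rw [map_sum, Finsupp.finsetSum_apply, Finset.sum_eq_single i] at h3
      · rw [map_smul, e.repr_self, Finsupp.smul_single, Finsupp.single_eq_same, smul_eq_mul, mul_one,
          ArtFun.Art.mem_maximalIdeal_iff] at h3
        exact (C.res.commutes (l i)).symm.trans h3
      · intro l' _ hne
        rw [map_smul, e.repr_self, Finsupp.smul_single, Finsupp.single_eq_of_ne hne.symm]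
      · exact fun h => absurd hi h
    obtain ⟨g, hg⟩ := (Finsupp.linearCombination k fun i => S.π (e i)).exists_leftInverse_of_injective
      (LinearMap.ker_eq_bot.2 hebar)
    intro i hi
    have h4 := congrArg (TensorProduct.lid k ↥(RingHom.ker p.toAlgHom) ∘
      TensorProduct.map ((Finsupp.lapply i).comp g) LinearMap.id) hm
    have hgi : ∀ l, g (S.π (e l)) = Finsupp.single l 1 := fun l => by
      have := LinearMap.congr_fun hg (Finsupp.single l 1)
      rwa [LinearMap.comp_apply, Finsupp.linearCombination_single, one_smul] at this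
    simp only [m, Function.comp_apply, map_sum, map_zero, TensorProduct.map_tmul, TensorProduct.lid_tmul,
      LinearMap.comp_apply, hgi, Finsupp.lapply_apply, LinearMap.id_apply] at h4
    rw [Finset.sum_eq_single ⟨i, hi⟩] at h4
    · rw [Finsupp.single_eq_same, one_smul] at h4
      exact congrArg Subtype.val h4
    · intro l _ hne
      rw [Finsupp.single_eq_of_ne (fun h => hne (Subtype.ext h.symm)), zero_smul]
    · exact fun h => absurd (Finset.mem_attach _ _) h
  haveI : Module.Free C' R := Module.Free.of_basis (Module.Basis.mk hli htop)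
  infer_instance

end Groth.Agent.AffDef
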