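import Groth.Agent.AffDef.Torsor

/-!
# Thickenings and extensions of affine deformations
-/

universe u

open CategoryTheory AlgebraicGeometry Limits TensorProduct IsLocalRing

noncomputable section

namespace Groth.Agent.AffDef

variable {k : Type u} [Field k] {C' C : ArtFun.Art k k} {B₀ : Type u} [CommRing B₀] [Algebra k B₀]

/-- Deformations of `Spec B₀`. -/
abbrev Def0 (B₀ : Type u) [CommRing B₀] [Algebra k B₀] (C : ArtFun.Art k k) : Type (u + 1) :=
  ArtFun.DefSch (Spec (CommRingCat.of B₀)) (Spec.map (CommRingCat.ofHom (algebraMap k B₀))) C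

/-- A model algebra of an affine deformation. -/
structure Model (𝒳 : Def0 B₀ C) : Type (u + 1) where
  S : DAlg C B₀
  j : Spec (CommRingCat.of S.B) ≅ 𝒳.total
  jf : j.hom ≫ 𝒳.f = Spec.map (CommRingCat.ofHom S.φ)
  ji : Spec.map (CommRingCat.ofHom S.π) ≫ j.hom = 𝒳.i

theorem exists_model (𝒳 : Def0 B₀ C) : Nonempty (Model 𝒳) := by
  obtain ⟨B, _, φ, π, j, hjf, hji, hπs, hcomm, hker, hflat⟩ :=
    exists_affine C.res.toRingHom C.res_surjective (isNilpotent_ker C.res) (algebraMap k B₀) 𝒳.total 𝒳.f 𝒳.i 𝒳.isPullback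
  exact ⟨⟨⟨B, φ, π, hπs, hcomm, hker.trans (by rw [ker_res_eq]), hflat 𝒳.flat⟩, j, hjf, hji⟩⟩

variable {p : C' ⟶ C} {𝒳 : Def0 B₀ C}

/-- The square of a thickening. -/
lemma Thick.isPullback (hp : ArtFun.Art.IsSemismallExt p) {S : DAlg C B₀} (T : Thick p S) :
    IsPullback (Spec.map (CommRingCat.ofHom T.q)) (Spec.map (CommRingCat.ofHom S.φ))
      (Spec.map (CommRingCat.ofHom T.φ)) (ArtFun.Art.specMap p) :=
  isPullback_of_ker p.toAlgHom.toRingHom hp.1 T.φ T.q S.φ T.surj T.comm T.ker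

/-- The deformation of a thickening. -/
def Thick.toDef (hp : ArtFun.Art.IsSemismallExt p) {S : DAlg C B₀} (T : Thick p S) : Def0 B₀ C' where
  total := Spec (CommRingCat.of T.R)
  f := Spec.map (CommRingCat.ofHom T.φ)
  flat := Flat.SpecMap_iff.2 T.flat
  i := Spec.map (CommRingCat.ofHom (T.pre hp).π)
  isPullback := isPullback_of_ker _ C'.res_surjective _ _ _ (T.pre hp).surj (T.pre hp).comm
    ((T.pre hp).ker.trans (by rw [ker_res_eq]; rfl))

/-- An extension of `𝒳` over `C'`. -/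
abbrev Lift (p : C' ⟶ C) (𝒳 : Def0 B₀ C) : Type (u + 1) := Σ 𝒳' : Def0 B₀ C', (𝒳'.baseChange p).Iso 𝒳

/-- The map of the old total space into the new one. -/
def Lift.map (a : Lift p 𝒳) : 𝒳.total ⟶ a.1.total := a.2.iso.inv ≫ pullback.fst _ _

/-- Equivalence of extensions. -/
def Lift.Equiv' (a b : Lift p 𝒳) : Prop := ∃ ψ : a.1.Iso b.1, a.map ≫ ψ.iso.hom = b.map

lemma Lift.equiv'_of_rel {a b : Lift p 𝒳} (h : ∃ ψ : a.1.Iso b.1, ((ψ.baseChange p).trans b.2).iso = a.2.iso) :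
    a.Equiv' b := by
  obtain ⟨ψ, hψ⟩ := h
  refine ⟨ψ, ?_⟩
  have h1 : a.2.iso.inv = b.2.iso.inv ≫ (ψ.baseChange p).iso.inv := by rw [← hψ]; rfl
  have h2 : a.2.iso.inv ≫ pullback.fst _ _ = (b.2.iso.inv ≫ (ψ.baseChange p).iso.inv) ≫ pullback.fst _ _ := by rw [h1]
  have h3 : (ψ.baseChange p).iso.inv ≫ pullback.fst a.1.f (ArtFun.Art.specMap p)
      = pullback.fst b.1.f (ArtFun.Art.specMap p) ≫ ψ.iso.inv := pullback.lift_fst _ _ _
  unfold Lift.map
  rw [h2, Category.assoc, Category.assoc]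
  exact congrArg (b.2.iso.inv ≫ ·) ((Category.assoc _ _ _).symm.trans ((congrArg (· ≫ ψ.iso.hom) h3).trans
    ((Category.assoc _ _ _).trans ((congrArg (pullback.fst b.1.f (ArtFun.Art.specMap p) ≫ ·) ψ.iso.inv_hom_id).trans
      (Category.comp_id _)))))

lemma Lift.rel_of_equiv' {a b : Lift p 𝒳} (h : a.Equiv' b) :
    ∃ ψ : a.1.Iso b.1, ((ψ.baseChange p).trans b.2).iso = a.2.iso := by
  obtain ⟨ψ, hψ⟩ := h
  refine ⟨ψ, ?_⟩
  apply CategoryTheory.Iso.ext
  change (ψ.baseChange p).iso.hom ≫ b.2.iso.hom = a.2.iso.hom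
  rw [← cancel_mono b.2.iso.inv, Category.assoc, b.2.iso.hom_inv_id, Category.comp_id]
  apply pullback.hom_ext
  · refine (pullback.lift_fst _ _ _).trans ?_
    rw [Category.assoc]
    change _ = a.2.iso.hom ≫ b.map
    rw [← hψ]
    unfold Lift.map
    rw [Category.assoc, a.2.iso.hom_inv_id_assoc]
  · refine (pullback.lift_snd _ _ _).trans ?_
    rw [Category.assoc]
    have h1 : b.2.iso.inv ≫ (b.1.baseChange p).f = 𝒳.f := by
      rw [Iso.inv_comp_eq]
      exact b.2.hom_f.symm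
    exact ((congrArg (a.2.iso.hom ≫ ·) h1).trans a.2.hom_f).symm

lemma Lift.equivalence' : Equivalence (Lift.Equiv' (p := p) (𝒳 := 𝒳)) := by
  refine ⟨fun a => ⟨ArtFun.DefSch.Iso.refl a.1, Category.comp_id _⟩, ?_, ?_⟩
  · rintro a b ⟨ψ, hψ⟩
    refine ⟨ψ.symm, ?_⟩
    rw [← hψ, Category.assoc]
    exact (congrArg (a.map ≫ ·) ψ.iso.hom_inv_id).trans (Category.comp_id _)
  · rintro a b c ⟨ψ, hψ⟩ ⟨χ, hχ⟩
    refine ⟨ψ.trans χ, ?_⟩
    change a.map ≫ ψ.iso.hom ≫ χ.iso.hom = _
    rw [reassoc_of% hψ, hχ]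

variable (M : Model 𝒳)

/-- The extension attached to a thickening of the model. -/
def toLift (hp : ArtFun.Art.IsSemismallExt p) (T : Thick p M.S) : Lift p 𝒳 :=
  ⟨T.toDef hp,
    { iso := (T.isPullback hp).isoPullback.symm ≪≫ M.j
      hom_f := by
        rw [Iso.trans_hom, Category.assoc, M.jf, Iso.symm_hom]
        exact (T.isPullback hp).isoPullback_inv_snd
      i_hom := by
        have h : Spec.map (CommRingCat.ofHom M.S.π) ≫ (T.isPullback hp).isoPullback.hom
            = ((T.toDef hp).baseChange p).i := by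
          apply pullback.hom_ext
          · rw [Category.assoc]
            refine (congrArg _ (T.isPullback hp).isoPullback_hom_fst).trans ?_
            rw [← Spec.map_comp, ← CommRingCat.ofHom_comp]
            exact (ArtFun.DefSch.baseChange_i_fst (T.toDef hp) p).symm
          · rw [Category.assoc]
            refine (congrArg _ (T.isPullback hp).isoPullback_hom_snd).trans
              (Eq.trans ?_ (ArtFun.DefSch.baseChange_i_f (T.toDef hp) p).symm)
            rw [← Spec.map_comp, ← Spec.map_comp, ← CommRingCat.ofHom_comp, ← CommRingCat.ofHom_comp, M.S.comm]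
        rw [← h, Iso.trans_hom, Iso.symm_hom]
        exact (Category.assoc _ _ _).trans ((congrArg (Spec.map (CommRingCat.ofHom M.S.π) ≫ ·)
          ((T.isPullback hp).isoPullback.hom_inv_id_assoc M.j.hom)).trans M.ji) }⟩

lemma toLift_map (hp : ArtFun.Art.IsSemismallExt p) (T : Thick p M.S) :
    (toLift M hp T).map = M.j.inv ≫ Spec.map (CommRingCat.ofHom T.q) := by
  change ((T.isPullback hp).isoPullback.symm ≪≫ M.j).inv ≫ _ = _
  rw [Iso.trans_inv, Iso.symm_inv, Category.assoc]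
  exact congrArg _ (T.isPullback hp).isoPullback_hom_fst

lemma equiv'_of_rel (hp : ArtFun.Art.IsSemismallExt p) {T T' : Thick p M.S} (h : T.Rel T') :
    (toLift M hp T).Equiv' (toLift M hp T') := by
  obtain ⟨e, h1, h2⟩ := h
  have e1 : Spec.map (CommRingCat.ofHom e.symm.toRingHom) ≫ Spec.map (CommRingCat.ofHom T'.φ)
      = Spec.map (CommRingCat.ofHom T.φ) := by
    rw [← Spec.map_comp, ← CommRingCat.ofHom_comp]
    congr 2
    exact RingHom.ext fun a => (congrArg e.symm (h1 a).symm).trans (e.symm_apply_apply _)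
  have e2 : Spec.map (CommRingCat.ofHom T.q) ≫ Spec.map (CommRingCat.ofHom e.symm.toRingHom)
      = Spec.map (CommRingCat.ofHom T'.q) := by
    rw [← Spec.map_comp, ← CommRingCat.ofHom_comp]
    congr 2
    exact RingHom.ext fun x => (h2 (e.symm x)).symm.trans (congrArg T'.q (e.apply_symm_apply x))
  refine ⟨⟨Scheme.Spec.mapIso e.symm.toCommRingCatIso.op, e1, ?_⟩, ?_⟩
  · refine Eq.trans (congrArg (· ≫ Spec.map (CommRingCat.ofHom e.symm.toRingHom))
      (show Spec.map (CommRingCat.ofHom (M.S.π.comp T.q)) = Spec.map (CommRingCat.ofHom M.S.π) ≫ Spec.map (CommRingCat.ofHom T.q)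
        by rw [CommRingCat.ofHom_comp, Spec.map_comp])) ?_
    exact ((Category.assoc _ _ _).trans (congrArg (Spec.map (CommRingCat.ofHom M.S.π) ≫ ·) e2)).trans
      (show Spec.map (CommRingCat.ofHom M.S.π) ≫ Spec.map (CommRingCat.ofHom T'.q) = Spec.map (CommRingCat.ofHom (M.S.π.comp T'.q))
        by rw [CommRingCat.ofHom_comp, Spec.map_comp])
  · rw [toLift_map, toLift_map]
    exact (Category.assoc _ _ _).trans (congrArg (M.j.inv ≫ ·) e2)

lemma rel_of_equiv' (hp : ArtFun.Art.IsSemismallExt p) {T T' : Thick p M.S}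
    (h : (toLift M hp T).Equiv' (toLift M hp T')) : T.Rel T' := by
  obtain ⟨ψ, hψ⟩ := h
  rw [toLift_map, toLift_map] at hψ
  have hψ' : Spec.map (CommRingCat.ofHom T.q) ≫ ψ.iso.hom = Spec.map (CommRingCat.ofHom T'.q) :=
    (cancel_epi M.j.inv).1 ((Category.assoc _ _ _).symm.trans hψ)
  let g : CommRingCat.of T'.R ⟶ CommRingCat.of T.R := Spec.preimage ψ.iso.hom
  have hg : Spec.map g = ψ.iso.hom := Spec.map_preimage _
  have h1 : CommRingCat.ofHom T'.φ ≫ g = CommRingCat.ofHom T.φ := Spec.map_injective (by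
    rw [Spec.map_comp, hg]; exact ψ.hom_f)
  have h2 : g ≫ CommRingCat.ofHom T.q = CommRingCat.ofHom T'.q := Spec.map_injective (by
    rw [Spec.map_comp, hg]; exact hψ')
  exact (Thick.rel_of_hom hp T' T g.hom (congrArg CommRingCat.Hom.hom h1) (congrArg CommRingCat.Hom.hom h2)).symm

lemma exists_toLift (hp : ArtFun.Art.IsSemismallExt p) (a : Lift p 𝒳) :
    ∃ T : Thick p M.S, (toLift M hp T).Equiv' a := by
  obtain ⟨R, _, φ', π', j', hjf', hji', hπs', hcomm', hker', hflat'⟩ :=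
    exists_affine C'.res.toRingHom C'.res_surjective (isNilpotent_ker C'.res) (algebraMap k B₀) a.1.total a.1.f a.1.i
      a.1.isPullback
  let qm : CommRingCat.of R ⟶ CommRingCat.of M.S.B := Spec.preimage (M.j.hom ≫ a.map ≫ j'.inv)
  have hqm : Spec.map qm = M.j.hom ≫ a.map ≫ j'.inv := Spec.map_preimage _
  have hinvf : a.2.iso.inv ≫ (a.1.baseChange p).f = 𝒳.f := by
    rw [Iso.inv_comp_eq]
    exact a.2.hom_f.symm
  have sq : IsPullback (Spec.map qm) (Spec.map (CommRingCat.ofHom M.S.φ)) (Spec.map (CommRingCat.ofHom φ'))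
      (ArtFun.Art.specMap p) :=
    (IsPullback.of_hasPullback a.1.f (ArtFun.Art.specMap p)).of_iso (a.2.iso ≪≫ M.j.symm) j'.symm (Iso.refl _)
      (Iso.refl _)
      (by
        rw [hqm, Iso.trans_hom, Iso.symm_hom, Iso.symm_hom, Category.assoc, M.j.inv_hom_id_assoc]
        unfold Lift.map
        rw [Category.assoc, a.2.iso.hom_inv_id_assoc])
      (by
        rw [Iso.trans_hom, Iso.symm_hom, Iso.refl_hom, Category.comp_id, ← M.jf, Category.assoc, M.j.inv_hom_id_assoc]
        exact a.2.hom_f.symm)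
      (by rw [Iso.refl_hom, Category.comp_id, Iso.symm_hom, ← hjf', j'.inv_hom_id_assoc])
      (by rw [Iso.refl_hom, Iso.refl_hom, Category.comp_id, Category.id_comp])
  obtain ⟨hs, hc, hk⟩ := ker_of_isPullback p.toAlgHom.toRingHom hp.1 φ' qm.hom M.S.φ sq
  let T : Thick p M.S := ⟨R, φ', qm.hom, hc, hs, hk, hflat' a.1.flat⟩
  have hi : a.1.i = 𝒳.i ≫ a.map := by
    unfold Lift.map
    rw [← a.2.i_hom, Category.assoc, a.2.iso.hom_inv_id_assoc, ArtFun.DefSch.baseChange_i_fst]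
  refine ⟨T, ⟨⟨j', hjf', ?_⟩, ?_⟩⟩
  · change Spec.map (CommRingCat.ofHom (M.S.π.comp qm.hom)) ≫ j'.hom = a.1.i
    rw [CommRingCat.ofHom_comp, CommRingCat.ofHom_hom, Spec.map_comp, Category.assoc, hqm, hi, Category.assoc,
      Category.assoc, j'.inv_hom_id, Category.comp_id, ← M.ji, Category.assoc]
  · rw [toLift_map]
    refine (Category.assoc _ _ _).trans ?_
    change M.j.inv ≫ Spec.map qm ≫ j'.hom = a.map
    rw [hqm, Category.assoc, Category.assoc, j'.inv_hom_id, Category.comp_id, M.j.inv_hom_id_assoc]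

end Groth.Agent.AffDef
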