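import Groth.Agent.AffDef.Thick

/-!
# Thickenings form a torsor under extensions of `B₀` by `B₀ ⊗ J`
-/

universe u

open TensorProduct IsLocalRing

noncomputable section

namespace Groth.Agent.AffDef

variable {k : Type u} [Field k] {C' C : ArtFun.Art k k} {p : C' ⟶ C}
  {B₀ : Type u} [CommRing B₀] [Algebra k B₀] {S : DAlg C B₀}

/-- Isomorphism of thickenings. -/
def Thick.Rel (T T' : Thick p S) : Prop := ∃ e : T.R ≃+* T'.R, (∀ a, e (T.φ a) = T'.φ a) ∧ ∀ x, T'.q (e x) = T.q x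

lemma Thick.rel_of_hom (hp : ArtFun.Art.IsSemismallExt p) (T T' : Thick p S) (f : T.R →+* T'.R)
    (h1 : f.comp T.φ = T'.φ) (h2 : T'.q.comp f = T.q) : T.Rel T' :=
  ⟨RingEquiv.ofBijective f (bijective_hom T.φ T'.φ T'.flat (T.pre hp).π (T'.pre hp).π (T.pre hp).surj (T.pre hp).ker
    (T'.pre hp).ker f h1 (by
      change (S.π.comp T'.q).comp f = S.π.comp T.q
      rw [RingHom.comp_assoc, h2])),
    fun a => RingHom.congr_fun h1 a, fun x => RingHom.congr_fun h2 x⟩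

lemma Thick.Rel.symm {T T' : Thick p S} (h : T.Rel T') : T'.Rel T := by
  obtain ⟨e, h1, h2⟩ := h
  exact ⟨e.symm, fun a => by rw [← h1 a, e.symm_apply_apply], fun x => by rw [← h2, e.apply_symm_apply]⟩

lemma Thick.Rel.trans {T T' T'' : Thick p S} (h : T.Rel T') (h' : T'.Rel T'') : T.Rel T'' := by
  obtain ⟨e, h1, h2⟩ := h
  obtain ⟨e', h3, h4⟩ := h'
  exact ⟨e.trans e', fun a => by rw [RingEquiv.trans_apply, h1, h3], fun x => by rw [RingEquiv.trans_apply, h4, h2]⟩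

variable (hp : ArtFun.Art.IsSemismallExt p) (T₀ : Thick p S) (X : Exal.Ext k B₀ (MJ p (B₀ := B₀)))

/-- Pairs over `B₀`. -/
def pairs : Subring (T₀.R × X.E) where
  carrier := {z | (T₀.pre hp).π z.1 = X.proj z.2}
  zero_mem' := by simp
  one_mem' := by simp
  add_mem' {a b} ha hb := by
    change (T₀.pre hp).π (a.1 + b.1) = X.proj (a.2 + b.2)
    rw [map_add, map_add]; exact congrArg₂ (· + ·) ha hb
  mul_mem' {a b} ha hb := by
    change (T₀.pre hp).π (a.1 * b.1) = X.proj (a.2 * b.2)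
    rw [map_mul, map_mul]; exact congrArg₂ (· * ·) ha hb
  neg_mem' {a} ha := by
    change (T₀.pre hp).π (-a.1) = X.proj (-a.2)
    rw [map_neg, map_neg]; exact congrArg (- ·) ha

/-- The antidiagonal. -/
def antiDiag : Ideal (pairs hp T₀ X) where
  carrier := {z | ∃ m, z.1 = ((T₀.pre hp).μ hp m, - X.incl m)}
  zero_mem' := ⟨0, by simp; rfl⟩
  add_mem' := by
    rintro a b ⟨m, hm⟩ ⟨n, hn⟩
    refine ⟨m + n, ?_⟩
    rw [Subring.coe_add, hm, hn, map_add, map_add, Prod.mk_add_mk]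
    exact Prod.ext rfl (by change -X.incl m + -X.incl n = _; abel)
  smul_mem' := by
    rintro ⟨⟨x, e⟩, hxe⟩ a ⟨m, hm⟩
    refine ⟨(T₀.pre hp).π x • m, ?_⟩
    rw [smul_eq_mul, Subring.coe_mul, hm]
    refine Prod.ext ((T₀.pre hp).μ_smul hp x m) ?_
    change e * -X.incl m = -X.incl ((T₀.pre hp).π x • m)
    rw [mul_neg, X.isExtension.mul_incl, show (T₀.pre hp).π x = X.proj e from hxe]

/-- The ring of the translate. -/
abbrev newR : Type u := pairs hp T₀ X ⧸ antiDiag hp T₀ X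

lemma mem_pairs_phi (a : C') :
    ((T₀.φ a, algebraMap k X.E (C'.res a)) : T₀.R × X.E) ∈ pairs hp T₀ X := by
  change (T₀.pre hp).π ((T₀.pre hp).φ a) = X.proj _
  rw [Pre.pi_phi, AlgHom.commutes]

/-- Its structure map. -/
def newφ : C' →+* newR hp T₀ X :=
  (Ideal.Quotient.mk _).comp (((T₀.φ).prod ((algebraMap k X.E).comp C'.res.toRingHom)).codRestrict _
    (mem_pairs_phi hp T₀ X))

/-- Its map to `B`. -/
def newq : newR hp T₀ X →+* S.B :=
  Ideal.Quotient.lift _ ((T₀.q.comp (RingHom.fst _ _)).comp (pairs hp T₀ X).subtype) (by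
    rintro ⟨z, hz⟩ ⟨m, hm⟩
    change T₀.q z.1 = 0
    rw [show z = _ from hm]
    exact T₀.q_μ hp m)

lemma mem_pairs_incl (m n : MJ p (B₀ := B₀)) :
    (((T₀.pre hp).μ hp m, X.incl n) : T₀.R × X.E) ∈ pairs hp T₀ X := by
  change (T₀.pre hp).π _ = X.proj _
  rw [Pre.pi_μ, Exal.proj_incl]

lemma newq_surjective : Function.Surjective (newq hp T₀ X) := by
  intro b
  obtain ⟨x, rfl⟩ := T₀.surj b
  obtain ⟨e, he⟩ := X.isExtension.proj_surjective ((T₀.pre hp).π x)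
  exact ⟨Ideal.Quotient.mk _ ⟨(x, e), he.symm⟩, rfl⟩

lemma newq_comm : (newq hp T₀ X).comp (newφ hp T₀ X) = S.φ.comp p.toAlgHom.toRingHom :=
  RingHom.ext fun a => RingHom.congr_fun T₀.comm a

lemma newq_ker : RingHom.ker (newq hp T₀ X) = (RingHom.ker p.toAlgHom).map (newφ hp T₀ X) := by
  refine le_antisymm ?_ (Ideal.map_le_iff_le_comap.2 fun a ha => ?_)
  · intro z hz
    obtain ⟨⟨⟨x, e⟩, hxe⟩, rfl⟩ := Ideal.Quotient.mk_surjective z
    obtain ⟨m, rfl⟩ := T₀.exists_μ_of_q hp (show T₀.q x = 0 from hz)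
    obtain ⟨n, rfl⟩ := (X.isExtension.exact e).1
      ((show (T₀.pre hp).π _ = X.proj e from hxe).symm.trans ((T₀.pre hp).pi_μ hp m))
    have h1 : Ideal.Quotient.mk (antiDiag hp T₀ X) ⟨_, hxe⟩
        = Ideal.Quotient.mk _ ⟨((T₀.pre hp).μ hp (m + n), X.incl 0), mem_pairs_incl hp T₀ X _ _⟩ := by
      rw [Ideal.Quotient.mk_eq_mk_iff_sub_mem]
      refine ⟨-n, Prod.ext ?_ ?_⟩
      · change (T₀.pre hp).μ hp m - (T₀.pre hp).μ hp (m + n) = (T₀.pre hp).μ hp (-n)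
        rw [map_add, map_neg]; abel
      · change X.incl n - X.incl 0 = -X.incl (-n)
        rw [map_zero, map_neg, neg_neg, sub_zero]
    rw [h1]
    have hall : ∀ w, Ideal.Quotient.mk (antiDiag hp T₀ X) ⟨((T₀.pre hp).μ hp w, X.incl 0), mem_pairs_incl hp T₀ X _ _⟩
        ∈ (RingHom.ker p.toAlgHom).map (newφ hp T₀ X) := by
      intro w
      induction w using TensorProduct.induction_on with
      | zero =>
        have h0 : Ideal.Quotient.mk (antiDiag hp T₀ X) ⟨((T₀.pre hp).μ hp 0, X.incl 0), mem_pairs_incl hp T₀ X _ _⟩ = 0 :=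
          Ideal.Quotient.eq_zero_iff_mem.2 ⟨0, Prod.ext rfl (by change X.incl 0 = -X.incl 0; simp)⟩
        rw [h0]
        exact zero_mem _
      | add v w hv hw =>
        convert add_mem hv hw using 1
        rw [← map_add]
        refine congrArg _ (Subtype.ext (Prod.ext (map_add _ v w) ?_))
        change X.incl 0 = X.incl 0 + X.incl 0
        rw [map_zero, add_zero]
      | tmul b j =>
        obtain ⟨e', he'⟩ := X.isExtension.proj_surjective b
        obtain ⟨x', hx'⟩ := (T₀.pre hp).surj b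
        have h2 : Ideal.Quotient.mk (antiDiag hp T₀ X) ⟨((T₀.pre hp).μ hp (b ⊗ₜ j), X.incl 0), mem_pairs_incl hp T₀ X _ _⟩
            = newφ hp T₀ X j * Ideal.Quotient.mk _ ⟨(x', e'), hx'.trans he'.symm⟩ := by
          change _ = Ideal.Quotient.mk (antiDiag hp T₀ X) (_ * _)
          refine congrArg _ (Subtype.ext (Prod.ext ?_ ?_))
          · change (T₀.pre hp).μ hp (b ⊗ₜ j) = T₀.φ j * x'
            rw [← hx', Pre.μ_tmul]
            rfl
          · change X.incl 0 = algebraMap k X.E (C'.res j) * e'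
            rw [map_zero, (ArtFun.Art.mem_maximalIdeal_iff _ _).1 (ker_le_max j.2), map_zero, zero_mul]
        rw [h2]
        exact Ideal.mul_mem_right _ _ (Ideal.mem_map_of_mem _ j.2)
    exact hall (m + n)
  · change T₀.q (T₀.φ a) = 0
    rw [← RingHom.comp_apply, T₀.comm, RingHom.comp_apply, show p.toAlgHom.toRingHom a = 0 from ha, map_zero]

lemma new_μ (m : MJ p (B₀ := B₀)) :
    (Pre.ofQuot hp S (newφ hp T₀ X) (newq hp T₀ X) (newq_comm hp T₀ X) (newq_surjective hp T₀ X) (newq_ker hp T₀ X)).μ hp m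
      = Ideal.Quotient.mk _ ⟨((T₀.pre hp).μ hp m, X.incl 0), mem_pairs_incl hp T₀ X _ _⟩ := by
  induction m using TensorProduct.induction_on with
  | zero =>
    rw [map_zero]
    exact (Ideal.Quotient.eq_zero_iff_mem.2 (show (⟨((T₀.pre hp).μ hp 0, X.incl 0), mem_pairs_incl hp T₀ X _ _⟩ :
      pairs hp T₀ X) ∈ antiDiag hp T₀ X from ⟨0, Prod.ext rfl (by change X.incl 0 = -X.incl 0; simp)⟩)).symm
  | add v w hv hw =>
    rw [map_add, hv, hw, ← map_add]
    refine congrArg _ (Subtype.ext (Prod.ext (map_add _ v w).symm ?_))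
    change X.incl 0 + X.incl 0 = X.incl 0
    rw [map_zero, add_zero]
  | tmul b j =>
    obtain ⟨e', he'⟩ := X.isExtension.proj_surjective b
    obtain ⟨x', hx'⟩ := (T₀.pre hp).surj b
    have hb : b = (Pre.ofQuot hp S (newφ hp T₀ X) (newq hp T₀ X) (newq_comm hp T₀ X) (newq_surjective hp T₀ X)
        (newq_ker hp T₀ X)).π (Ideal.Quotient.mk _ ⟨(x', e'), hx'.trans he'.symm⟩) := hx'.symm
    conv_lhs => rw [hb]
    rw [Pre.μ_tmul]
    change Ideal.Quotient.mk (antiDiag hp T₀ X) (_ * _) = _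
    refine congrArg _ (Subtype.ext (Prod.ext ?_ ?_))
    · change T₀.φ j * x' = (T₀.pre hp).μ hp (b ⊗ₜ j)
      rw [← hx', Pre.μ_tmul]
      rfl
    · change algebraMap k X.E (C'.res j) * e' = X.incl 0
      rw [map_zero, (ArtFun.Art.mem_maximalIdeal_iff _ _).1 (ker_le_max j.2), map_zero, zero_mul]

/-- The translate of a thickening by an extension. -/
def new : Thick p S where
  R := newR hp T₀ X
  φ := newφ hp T₀ X
  q := newq hp T₀ X
  comm := newq_comm hp T₀ X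
  surj := newq_surjective hp T₀ X
  ker := newq_ker hp T₀ X
  flat := by
    refine flat_of_ext hp S _ _ (newq_comm hp T₀ X) (newq_surjective hp T₀ X) (newq_ker hp T₀ X)
      ((injective_iff_map_eq_zero _).2 fun m hm => ?_)
    rw [new_μ, Ideal.Quotient.eq_zero_iff_mem] at hm
    obtain ⟨n, hn⟩ := hm
    have h1 := congrArg Prod.snd hn
    have h2 : (T₀.pre hp).μ hp m = (T₀.pre hp).μ hp n := congrArg Prod.fst hn
    change X.incl 0 = -X.incl n at h1
    rw [← map_neg] at h1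
    rw [T₀.μ_inj hp h2, neg_eq_zero.1 (X.isExtension.incl_injective h1).symm]

variable {X}

lemma new_congr {Y : Exal.Ext k B₀ (MJ p (B₀ := B₀))} (f : X.Equiv Y) : (new hp T₀ X).Rel (new hp T₀ Y) := by
  let g : pairs hp T₀ X →+* pairs hp T₀ Y :=
    (((RingHom.fst _ _).comp (pairs hp T₀ X).subtype).prod
      (f.toAlgEquiv.toAlgHom.toRingHom.comp ((RingHom.snd _ _).comp (pairs hp T₀ X).subtype))).codRestrict _
      fun z => by
        change (T₀.pre hp).π z.1.1 = Y.proj (f.toAlgEquiv z.1.2)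
        rw [f.proj_apply]
        exact z.2
  let G : newR hp T₀ X →+* newR hp T₀ Y := Ideal.quotientMap _ g (by
    rintro ⟨z, hz⟩ ⟨m, hm⟩
    refine ⟨m, ?_⟩
    change (z.1, f.toAlgEquiv z.2) = _
    rw [show z = _ from hm, map_neg, f.apply_incl])
  refine Thick.rel_of_hom hp _ _ G (RingHom.ext fun a => ?_) ?_
  · change Ideal.Quotient.mk (antiDiag hp T₀ Y) _ = Ideal.Quotient.mk (antiDiag hp T₀ Y) _
    exact congrArg _ (Subtype.ext (Prod.ext rfl (f.toAlgEquiv.commutes _)))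
  · exact Ideal.Quotient.ringHom_ext (RingHom.ext fun _ => rfl)

/-- A class of the translate. -/
abbrev pmk (W : Exal.Ext k B₀ (MJ p (B₀ := B₀))) (x : T₀.R) (e : W.E) (h : (x, e) ∈ pairs hp T₀ W) : newR hp T₀ W :=
  Ideal.Quotient.mk _ ⟨(x, e), h⟩

lemma pmk_congr {W : Exal.Ext k B₀ (MJ p (B₀ := B₀))} {x y : T₀.R} {e f : W.E} (hx : (x, e) ∈ pairs hp T₀ W)
    (hy : (y, f) ∈ pairs hp T₀ W) (h₁ : x = y) (h₂ : e = f) : pmk hp T₀ W x e hx = pmk hp T₀ W y f hy := by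
  subst h₁ h₂; rfl

lemma pmk_add {W : Exal.Ext k B₀ (MJ p (B₀ := B₀))} {x y : T₀.R} {e f : W.E} (hx : (x, e) ∈ pairs hp T₀ W)
    (hy : (y, f) ∈ pairs hp T₀ W) :
    pmk hp T₀ W (x + y) (e + f) (add_mem hx hy) = pmk hp T₀ W x e hx + pmk hp T₀ W y f hy := rfl

lemma pmk_mul {W : Exal.Ext k B₀ (MJ p (B₀ := B₀))} {x y : T₀.R} {e f : W.E} (hx : (x, e) ∈ pairs hp T₀ W)
    (hy : (y, f) ∈ pairs hp T₀ W) :
    pmk hp T₀ W (x * y) (e * f) (mul_mem hx hy) = pmk hp T₀ W x e hx * pmk hp T₀ W y f hy := rfl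

lemma pmk_add' {W : Exal.Ext k B₀ (MJ p (B₀ := B₀))} {x y z : T₀.R} {e f d : W.E} (hx : (x, e) ∈ pairs hp T₀ W)
    (hy : (y, f) ∈ pairs hp T₀ W) (hz : (z, d) ∈ pairs hp T₀ W) (h₁ : z = x + y) (h₂ : d = e + f) :
    pmk hp T₀ W z d hz = pmk hp T₀ W x e hx + pmk hp T₀ W y f hy := by
  subst h₁ h₂; rfl

lemma pmk_mul' {W : Exal.Ext k B₀ (MJ p (B₀ := B₀))} {x y z : T₀.R} {e f d : W.E} (hx : (x, e) ∈ pairs hp T₀ W)
    (hy : (y, f) ∈ pairs hp T₀ W) (hz : (z, d) ∈ pairs hp T₀ W) (h₁ : z = x * y) (h₂ : d = e * f) :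
    pmk hp T₀ W z d hz = pmk hp T₀ W x e hx * pmk hp T₀ W y f hy := by
  subst h₁ h₂; rfl

lemma newφ_eq (W : Exal.Ext k B₀ (MJ p (B₀ := B₀))) (a : C') :
    newφ hp T₀ W a = pmk hp T₀ W (T₀.φ a) (algebraMap k W.E (C'.res a)) (mem_pairs_phi hp T₀ W a) := rfl

lemma mem_pairs_zero (W : Exal.Ext k B₀ (MJ p (B₀ := B₀))) {x : T₀.R} (hx : (T₀.pre hp).π x = 0) :
    (x, (0 : W.E)) ∈ pairs hp T₀ W := by
  change _ = W.proj 0; rw [map_zero]; exact hx

lemma pmk_eq_iff {W : Exal.Ext k B₀ (MJ p (B₀ := B₀))} {x y : T₀.R} {e f : W.E} (hx : (x, e) ∈ pairs hp T₀ W)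
    (hy : (y, f) ∈ pairs hp T₀ W) :
    pmk hp T₀ W x e hx = pmk hp T₀ W y f hy ↔ ∃ m, x - y = (T₀.pre hp).μ hp m ∧ e - f = -W.incl m :=
  (Ideal.Quotient.mk_eq_mk_iff_sub_mem _ _).trans
    ⟨fun ⟨m, hm⟩ => ⟨m, congrArg Prod.fst hm, congrArg Prod.snd hm⟩, fun ⟨m, h1, h2⟩ => ⟨m, Prod.ext h1 h2⟩⟩

/-- Isomorphic translates come from equivalent extensions. -/
theorem equiv_of_new_rel {Y : Exal.Ext k B₀ (MJ p (B₀ := B₀))} (h : (new hp T₀ X).Rel (new hp T₀ Y)) :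
    Nonempty (X.Equiv Y) := by
  obtain ⟨g', hgφ', hgq'⟩ := h
  let g : newR hp T₀ X ≃+* newR hp T₀ Y := g'
  have hgφ : ∀ a, g (newφ hp T₀ X a) = newφ hp T₀ Y a := hgφ'
  have hgq : ∀ z, newq hp T₀ Y (g z) = newq hp T₀ X z := hgq'
  clear_value g
  clear hgφ' hgq' g'
  have hkey : ∀ (x : T₀.R) (e : X.E) (hxe : (x, e) ∈ pairs hp T₀ X),
      ∃ (e' : Y.E) (he' : (x, e') ∈ pairs hp T₀ Y), g (pmk hp T₀ X x e hxe) = pmk hp T₀ Y x e' he' := by
    intro x e hxe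
    obtain ⟨⟨⟨x', e'⟩, hz⟩, hgz⟩ := Ideal.Quotient.mk_surjective (g (pmk hp T₀ X x e hxe))
    have hq : T₀.q x' = T₀.q x := by
      have h1 := hgq (pmk hp T₀ X x e hxe)
      rw [← hgz] at h1
      exact h1
    obtain ⟨m, hm⟩ := T₀.exists_μ_of_q hp (x := x' - x) (by rw [map_sub, hq, sub_self])
    have hmem : (x, e' + Y.incl m) ∈ pairs hp T₀ Y := by
      change (T₀.pre hp).π x = Y.proj (e' + Y.incl m)
      rw [map_add, Exal.proj_incl, add_zero, ← show (T₀.pre hp).π x' = Y.proj e' from hz]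
      exact congrArg S.π hq.symm
    exact ⟨e' + Y.incl m, hmem, hgz.symm.trans ((pmk_eq_iff hp T₀ hz hmem).2 ⟨m, hm.symm, by abel⟩)⟩
  have huniq : ∀ (x : T₀.R) (e₁ e₂ : Y.E) (h₁ : (x, e₁) ∈ pairs hp T₀ Y) (h₂ : (x, e₂) ∈ pairs hp T₀ Y),
      pmk hp T₀ Y x e₁ h₁ = pmk hp T₀ Y x e₂ h₂ → e₁ = e₂ := by
    intro x e₁ e₂ h₁ h₂ heq
    obtain ⟨m, h3, h4⟩ := (pmk_eq_iff hp T₀ h₁ h₂).1 heq
    rw [sub_self] at h3
    rw [T₀.μ_inj hp (h3.symm.trans (map_zero _).symm), map_zero, neg_zero] at h4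
    exact sub_eq_zero.1 h4
  have hzero : ∀ (x : T₀.R) (hx : (T₀.pre hp).π x = 0),
      g (pmk hp T₀ X x 0 (mem_pairs_zero hp T₀ X hx)) = pmk hp T₀ Y x 0 (mem_pairs_zero hp T₀ Y hx) := by
    have hall : ∀ x ∈ (maximalIdeal C').map T₀.φ, ∃ hx : (T₀.pre hp).π x = 0,
        g (pmk hp T₀ X x 0 (mem_pairs_zero hp T₀ X hx)) = pmk hp T₀ Y x 0 (mem_pairs_zero hp T₀ Y hx) := by
      intro x hx
      induction hx using Submodule.span_induction with
      | mem y hy =>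
        obtain ⟨a, ha, rfl⟩ := hy
        have hy0 : (T₀.pre hp).π (T₀.φ a) = 0 :=
          RingHom.mem_ker.1 ((T₀.pre hp).ker.ge (Ideal.mem_map_of_mem _ ha))
        have hr : C'.res a = 0 := (ArtFun.Art.mem_maximalIdeal_iff _ _).1 ha
        refine ⟨hy0, ?_⟩
        rw [pmk_congr hp T₀ (mem_pairs_zero hp T₀ X hy0) (mem_pairs_phi hp T₀ X a) rfl (by rw [hr, map_zero]),
          ← newφ_eq, hgφ, newφ_eq]
        exact pmk_congr hp T₀ _ _ rfl (by rw [hr, map_zero])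
      | zero => exact ⟨map_zero _, map_zero g⟩
      | add y z _ _ ihy ihz =>
        obtain ⟨hy0, hgy⟩ := ihy
        obtain ⟨hz0, hgz⟩ := ihz
        have hs : (T₀.pre hp).π (y + z) = 0 := by rw [map_add, hy0, hz0, add_zero]
        refine ⟨hs, ?_⟩
        rw [pmk_add' hp T₀ (mem_pairs_zero hp T₀ X hy0) (mem_pairs_zero hp T₀ X hz0) (mem_pairs_zero hp T₀ X hs) rfl
            (add_zero 0).symm, map_add, hgy, hgz]
        exact (pmk_add' hp T₀ _ _ _ rfl (add_zero 0).symm).symm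
      | smul c y _ ihy =>
        obtain ⟨hy0, hgy⟩ := ihy
        have hs : (T₀.pre hp).π (c • y) = 0 := by rw [smul_eq_mul, map_mul, hy0, mul_zero]
        obtain ⟨e, he⟩ := X.isExtension.proj_surjective ((T₀.pre hp).π c)
        obtain ⟨e', he', hg'⟩ := hkey c e he.symm
        refine ⟨hs, ?_⟩
        rw [pmk_mul' hp T₀ (show (c, e) ∈ pairs hp T₀ X from he.symm) (mem_pairs_zero hp T₀ X hy0)
            (mem_pairs_zero hp T₀ X hs) rfl (mul_zero e).symm, map_mul, hg', hgy]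
        exact (pmk_mul' hp T₀ _ _ _ rfl (mul_zero e').symm).symm
    intro x hx
    exact (hall x ((T₀.pre hp).ker ▸ hx)).2
  choose F hFm hF using hkey
  have hlift : ∀ e, ∃ x, (x, e) ∈ pairs hp T₀ X := fun e => (T₀.pre hp).surj (X.proj e)
  choose x₀ hx₀ using hlift
  let f : X.E → Y.E := fun e => F (x₀ e) e (hx₀ e)
  have hf : ∀ (x : T₀.R) (e : X.E) (h : (x, e) ∈ pairs hp T₀ X),
      ∃ h' : (x, f e) ∈ pairs hp T₀ Y, g (pmk hp T₀ X x e h) = pmk hp T₀ Y x (f e) h' := by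
    intro x e h
    have hd0 : (T₀.pre hp).π (x - x₀ e) = 0 := by
      rw [map_sub, show (T₀.pre hp).π x = X.proj e from h, show (T₀.pre hp).π (x₀ e) = X.proj e from hx₀ e, sub_self]
    have hm : (x, f e) ∈ pairs hp T₀ Y := by
      change (T₀.pre hp).π x = Y.proj (f e)
      exact ((show (T₀.pre hp).π x = X.proj e from h).trans
        (show (T₀.pre hp).π (x₀ e) = X.proj e from hx₀ e).symm).trans (hFm (x₀ e) e (hx₀ e))
    refine ⟨hm, ?_⟩
    rw [pmk_add' hp T₀ (mem_pairs_zero hp T₀ X hd0) (hx₀ e) h (sub_add_cancel x (x₀ e)).symm (zero_add e).symm,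
      map_add, hzero _ hd0, hF (x₀ e) e (hx₀ e)]
    exact (pmk_add' hp T₀ _ _ _ (sub_add_cancel x (x₀ e)).symm (zero_add _).symm).symm
  have hfval : ∀ (x : T₀.R) (e : X.E) (h : (x, e) ∈ pairs hp T₀ X) (e' : Y.E) (h' : (x, e') ∈ pairs hp T₀ Y),
      g (pmk hp T₀ X x e h) = pmk hp T₀ Y x e' h' → f e = e' := fun x e h e' h' he => by
    obtain ⟨h'', h3⟩ := hf x e h
    exact huniq x _ _ h'' h' (h3.symm.trans he)
  have hproj : ∀ e, Y.proj (f e) = X.proj e := fun e =>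
    (show (T₀.pre hp).π (x₀ e) = Y.proj (f e) from hFm (x₀ e) e (hx₀ e)).symm.trans (hx₀ e)
  have hadd : ∀ a b, f (a + b) = f a + f b := fun a b => by
    obtain ⟨ha, hga⟩ := hf (x₀ a) a (hx₀ a)
    obtain ⟨hb, hgb⟩ := hf (x₀ b) b (hx₀ b)
    exact hfval (x₀ a + x₀ b) (a + b) (add_mem (hx₀ a) (hx₀ b)) (f a + f b) (add_mem ha hb) (by
      rw [pmk_add hp T₀ (hx₀ a) (hx₀ b), map_add, hga, hgb, ← pmk_add])
  have hmul : ∀ a b, f (a * b) = f a * f b := fun a b => by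
    obtain ⟨ha, hga⟩ := hf (x₀ a) a (hx₀ a)
    obtain ⟨hb, hgb⟩ := hf (x₀ b) b (hx₀ b)
    exact hfval (x₀ a * x₀ b) (a * b) (mul_mem (hx₀ a) (hx₀ b)) (f a * f b) (mul_mem ha hb) (by
      rw [pmk_mul hp T₀ (hx₀ a) (hx₀ b), map_mul, hga, hgb, ← pmk_mul])
  have hmapK : ∀ c, f (algebraMap k X.E c) = algebraMap k Y.E c := fun c => by
    have h1 := hgφ (algebraMap k C' c)
    rw [newφ_eq, newφ_eq] at h1
    have h2 := hfval _ _ _ _ _ h1
    rw [show C'.res (algebraMap k C' c) = c from C'.res.commutes c] at h2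
    exact h2
  have hincl : ∀ m, f (X.incl m) = Y.incl m := fun m => by
    have hz : ∀ W : Exal.Ext k B₀ (MJ p (B₀ := B₀)), ((0 : T₀.R), W.incl m) ∈ pairs hp T₀ W := fun W => by
      change _ = W.proj _; rw [map_zero, Exal.proj_incl]
    have hμ := (T₀.pre hp).pi_μ hp m
    have e1 : ∀ W : Exal.Ext k B₀ (MJ p (B₀ := B₀)), pmk hp T₀ W 0 (W.incl m) (hz W)
        = pmk hp T₀ W ((T₀.pre hp).μ hp m) 0 (mem_pairs_zero hp T₀ W hμ) := fun W =>
      (pmk_eq_iff hp T₀ _ _).2 ⟨-m, by rw [map_neg, zero_sub], by rw [map_neg, neg_neg, sub_zero]⟩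
    refine hfval 0 _ (hz X) _ (hz Y) ?_
    rw [e1 X, hzero _ hμ, ← e1 Y]
  let fA : X.E →ₐ[k] Y.E :=
    { toFun := f
      map_one' := (congrArg f (map_one (algebraMap k X.E)).symm).trans ((hmapK 1).trans (map_one _))
      map_zero' := (congrArg f (map_zero (algebraMap k X.E)).symm).trans ((hmapK 0).trans (map_zero _))
      map_add' := hadd
      map_mul' := hmul
      commutes' := hmapK }
  exact ⟨Exal.mkEquiv fA hproj hincl⟩

variable (T : Thick p S)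

/-- Pairs over `B`. -/
def pairs2 : Subring (T₀.R × T.R) where
  carrier := {z | T₀.q z.1 = T.q z.2}
  zero_mem' := by simp
  one_mem' := by simp
  add_mem' {a b} ha hb := by
    change T₀.q (a.1 + b.1) = T.q (a.2 + b.2)
    rw [map_add, map_add]; exact congrArg₂ (· + ·) ha hb
  mul_mem' {a b} ha hb := by
    change T₀.q (a.1 * b.1) = T.q (a.2 * b.2)
    rw [map_mul, map_mul]; exact congrArg₂ (· * ·) ha hb
  neg_mem' {a} ha := by
    change T₀.q (-a.1) = T.q (-a.2)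
    rw [map_neg, map_neg]; exact congrArg (- ·) ha

lemma mem_pairs2_phi (a : C') : ((T₀.φ a, T.φ a) : T₀.R × T.R) ∈ pairs2 T₀ T :=
  (RingHom.congr_fun T₀.comm a).trans (RingHom.congr_fun T.comm a).symm

/-- The diagonal structure map. -/
def φ₂ : C' →+* pairs2 T₀ T := ((T₀.φ).prod T.φ).codRestrict _ (mem_pairs2_phi T₀ T)

lemma mem_pairs2_μ (m n : MJ p (B₀ := B₀)) :
    (((T₀.pre hp).μ hp m, (T.pre hp).μ hp n) : T₀.R × T.R) ∈ pairs2 T₀ T :=
  (T₀.q_μ hp m).trans (T.q_μ hp n).symm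

/-- The diagonal of `B₀ ⊗ J`. -/
def diagJ : Ideal (pairs2 T₀ T) where
  carrier := {z | ∃ m, z.1 = ((T₀.pre hp).μ hp m, (T.pre hp).μ hp m)}
  zero_mem' := ⟨0, by simp; rfl⟩
  add_mem' := by
    rintro a b ⟨m, hm⟩ ⟨n, hn⟩
    refine ⟨m + n, ?_⟩
    rw [Subring.coe_add, hm, hn, map_add, map_add, Prod.mk_add_mk]
  smul_mem' := by
    rintro ⟨⟨x, y⟩, hxy⟩ a ⟨m, hm⟩
    refine ⟨(T₀.pre hp).π x • m, ?_⟩
    rw [smul_eq_mul, Subring.coe_mul, hm]
    refine Prod.ext ((T₀.pre hp).μ_smul hp x m) ?_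
    change y * _ = _
    rw [show (T₀.pre hp).π x = (T.pre hp).π y from congrArg S.π hxy]
    exact (T.pre hp).μ_smul hp y m

/-- The relations defining the difference. -/
def diffIdeal : Ideal (pairs2 T₀ T) := diagJ hp T₀ T ⊔ (maximalIdeal C').map (φ₂ T₀ T)

lemma diff_inj {n : MJ p (B₀ := B₀)}
    (h : (⟨((0 : T₀.R), (T.pre hp).μ hp n), (map_zero T₀.q).trans (T.q_μ hp n).symm⟩ : pairs2 T₀ T) ∈ diffIdeal hp T₀ T) :
    n = 0 := by
  classical
  letI := S.φ.toAlgebra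
  haveI := free_B S
  let e := Module.Free.chooseBasis C S.B
  choose x hx using fun i => T₀.surj (e i)
  choose y hy using fun i => T.surj (e i)
  let w : _ → pairs2 T₀ T := fun i => ⟨(x i, y i), (hx i).trans (hy i).symm⟩
  -- every pair is a combination of the basis pairs, up to `μ`'s
  have hrep : ∀ z : pairs2 T₀ T, ∃ (c : _ →₀ C') (m m' : MJ p (B₀ := B₀)),
      z = (c.sum fun i a => φ₂ T₀ T a * w i) + ⟨_, mem_pairs2_μ hp T₀ T m m'⟩ := by
    intro z
    choose l hl using fun i => hp.1 (e.repr (T₀.q z.1.1) i)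
    let c : _ →₀ C' := Finsupp.onFinset (e.repr (T₀.q z.1.1)).support
      (fun i => if i ∈ (e.repr (T₀.q z.1.1)).support then l i else 0) (fun i hi => by
        by_contra h; simp [h] at hi)
    have hq : T₀.q ((c.sum fun i a => φ₂ T₀ T a * w i).1.1) = T₀.q z.1.1 := by
      rw [Finsupp.onFinset_sum (g := fun i a => φ₂ T₀ T a * w i) _ (fun i => by simp), AddSubmonoidClass.coe_finsetSum,
        Prod.fst_sum, map_sum]
      conv_rhs => rw [← e.linearCombination_repr (T₀.q z.1.1), Finsupp.linearCombination_apply, Finsupp.sum]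
      refine Finset.sum_congr rfl fun i hi => ?_
      rw [if_pos hi]
      change T₀.q (T₀.φ (l i) * x i) = _
      rw [map_mul, hx, ← RingHom.comp_apply, T₀.comm]
      change S.φ (p (l i)) * e i = _
      rw [hl]
      rfl
    set s := c.sum fun i a => φ₂ T₀ T a * w i
    obtain ⟨m, hm⟩ := T₀.exists_μ_of_q hp (x := z.1.1 - s.1.1) (by rw [map_sub, hq, sub_self])
    obtain ⟨m', hm'⟩ := T.exists_μ_of_q hp (x := z.1.2 - s.1.2) (by
      rw [map_sub, ← show T₀.q z.1.1 = T.q z.1.2 from z.2, ← show T₀.q s.1.1 = T.q s.1.2 from s.2, hq, sub_self])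
    refine ⟨c, m, m', Subtype.ext (Prod.ext ?_ ?_)⟩
    · change z.1.1 = s.1.1 + (T₀.pre hp).μ hp m
      rw [hm, add_sub_cancel]
    · change z.1.2 = s.1.2 + (T.pre hp).μ hp m'
      rw [hm', add_sub_cancel]
  have hkill : ∀ (a : C'), a ∈ maximalIdeal C' → ∀ m m', φ₂ T₀ T a * ⟨_, mem_pairs2_μ hp T₀ T m m'⟩ = 0 := by
    intro a ha m m'
    refine Subtype.ext (Prod.ext ?_ ?_)
    · change T₀.φ a * _ = 0
      rw [Pre.μ_smul, show (T₀.pre hp).π (T₀.φ a) = 0 from RingHom.mem_ker.1 ((T₀.pre hp).ker.ge (Ideal.mem_map_of_mem _ ha)),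
        zero_smul, map_zero]
    · change T.φ a * _ = 0
      rw [Pre.μ_smul, show (T.pre hp).π (T.φ a) = 0 from RingHom.mem_ker.1 ((T.pre hp).ker.ge (Ideal.mem_map_of_mem _ ha)),
        zero_smul, map_zero]
  have hlin : ∀ z ∈ (maximalIdeal C').map (φ₂ T₀ T), ∃ c : _ →₀ C', (∀ i, c i ∈ maximalIdeal C') ∧
      z = c.sum fun i a => φ₂ T₀ T a * w i := by
    have hall : ∀ (a : C'), a ∈ maximalIdeal C' → ∀ r, ∃ c : _ →₀ C', (∀ i, c i ∈ maximalIdeal C') ∧
        r * φ₂ T₀ T a = c.sum fun i b => φ₂ T₀ T b * w i := by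
      intro a ha r
      obtain ⟨c, m, m', rfl⟩ := hrep r
      refine ⟨a • c, fun i => by rw [Finsupp.smul_apply, smul_eq_mul]; exact Ideal.mul_mem_right _ _ ha, ?_⟩
      rw [add_mul, show (⟨_, mem_pairs2_μ hp T₀ T m m'⟩ : pairs2 T₀ T) * φ₂ T₀ T a = 0 from (mul_comm _ _).trans (hkill a ha m m'), add_zero, Finsupp.sum_smul_index (fun i => by simp), Finsupp.sum_mul]
      refine Finsupp.sum_congr fun i _ => ?_
      rw [map_mul]; ring
    intro z hz
    induction hz using Submodule.span_induction with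
    | mem z hz =>
      obtain ⟨a, ha, rfl⟩ := hz
      simpa using hall a ha 1
    | zero => exact ⟨0, fun _ => zero_mem _, by simp⟩
    | add z z' _ _ ih ih' =>
      obtain ⟨c, hc, rfl⟩ := ih
      obtain ⟨c', hc', rfl⟩ := ih'
      exact ⟨c + c', fun i => add_mem (hc i) (hc' i),
        (Finsupp.sum_add_index' (fun i => by simp) (fun i a b => by rw [map_add, add_mul])).symm⟩
    | smul r z _ ih =>
      obtain ⟨c, hc, rfl⟩ := ih
      rw [smul_eq_mul, Finsupp.sum, Finset.mul_sum]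
      refine Finset.induction_on c.support ⟨0, fun _ => zero_mem _, by simp⟩ fun i s hi ⟨c₁, h₁, e₁⟩ => ?_
      obtain ⟨c₂, h₂, e₂⟩ := hall (c i) (hc i) (r * w i)
      refine ⟨c₂ + c₁, fun l => add_mem (h₂ l) (h₁ l), ?_⟩
      rw [Finset.sum_insert hi, e₁, show r * (φ₂ T₀ T (c i) * w i) = r * w i * φ₂ T₀ T (c i) by ring, e₂]
      exact (Finsupp.sum_add_index' (fun i => by simp) (fun i a b => by rw [map_add, add_mul])).symm
  rw [diffIdeal, Submodule.mem_sup] at h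
  obtain ⟨d, ⟨m, hd⟩, z, hz, hsum⟩ := h
  obtain ⟨c, hc, rfl⟩ := hlin z hz
  have hs0 : T₀.q ((c.sum fun i a => φ₂ T₀ T a * w i).1.1) = 0 := by
    have h1 : d.1.1 + (c.sum fun i a => φ₂ T₀ T a * w i).1.1 = 0 := congrArg (fun t : pairs2 T₀ T => t.1.1) hsum
    rw [hd] at h1
    have h2 := congrArg T₀.q h1
    rwa [map_add, T₀.q_μ hp, zero_add, map_zero] at h2
  rw [Finsupp.sum, AddSubmonoidClass.coe_finsetSum, Prod.fst_sum, map_sum] at hs0
  have hcJ : ∀ i ∈ c.support, c i ∈ RingHom.ker p.toAlgHom := by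
    refine fun i hi => linearIndependent_iff'.1 e.linearIndependent c.support (fun i => p (c i)) ?_ i hi
    refine Eq.trans (Finset.sum_congr rfl fun i _ => ?_) hs0
    change S.φ (p (c i)) * e i = T₀.q (T₀.φ (c i) * x i)
    rw [map_mul, hx, ← RingHom.comp_apply T₀.q, T₀.comm]
    rfl
  let M : MJ p (B₀ := B₀) := ∑ i ∈ c.support.attach, S.π (e i.1) ⊗ₜ[k] ⟨c i.1, hcJ i.1 i.2⟩
  have hM : (c.sum fun i a => φ₂ T₀ T a * w i).1 = ((T₀.pre hp).μ hp M, (T.pre hp).μ hp M) := by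
    rw [Finsupp.sum, AddSubmonoidClass.coe_finsetSum, map_sum, map_sum, ← Finset.sum_attach]
    refine Prod.ext ?_ ?_
    · rw [Prod.fst_sum]
      refine Finset.sum_congr rfl fun i _ => ?_
      rw [show S.π (e i.1) = (T₀.pre hp).π (x i.1) from (congrArg S.π (hx i.1)).symm, Pre.μ_tmul]
      rfl
    · rw [Prod.snd_sum]
      refine Finset.sum_congr rfl fun i _ => ?_
      rw [show S.π (e i.1) = (T.pre hp).π (y i.1) from (congrArg S.π (hy i.1)).symm, Pre.μ_tmul]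
      rfl
  have hsum' := congrArg Subtype.val hsum
  rw [Subring.coe_add, hd, hM, Prod.mk_add_mk, ← map_add, ← map_add] at hsum'
  have h1 : m + M = 0 := T₀.μ_inj hp ((congrArg Prod.fst hsum').trans (map_zero _).symm)
  have h2 : (T.pre hp).μ hp (m + M) = (T.pre hp).μ hp n := congrArg Prod.snd hsum'
  rw [← T.μ_inj hp h2, h1]

/-- The difference of two thickenings. -/
theorem exists_diff : ∃ X : Exal.Ext k B₀ (MJ p (B₀ := B₀)), T.Rel (new hp T₀ X) := by
  let E := pairs2 T₀ T ⧸ diffIdeal hp T₀ T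
  letI algE : Algebra k E :=
    ((Ideal.Quotient.mk (diffIdeal hp T₀ T)).comp ((φ₂ T₀ T).comp (algebraMap k C'))).toAlgebra
  let π₂ : pairs2 T₀ T →+* B₀ := ((T₀.pre hp).π.comp (RingHom.fst _ _)).comp (pairs2 T₀ T).subtype
  have hkerπ : ∀ z ∈ diffIdeal hp T₀ T, π₂ z = 0 := by
    intro z hz
    refine RingHom.mem_ker.1 ((sup_le ?_ (Ideal.map_le_iff_le_comap.2 fun a ha => ?_) : diffIdeal hp T₀ T ≤ RingHom.ker π₂) hz)
    · rintro ⟨w, hw⟩ ⟨m, hm⟩
      rw [RingHom.mem_ker]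
      change (T₀.pre hp).π w.1 = 0
      rw [show w = _ from hm]
      exact (T₀.pre hp).pi_μ hp m
    · rw [Ideal.mem_comap, RingHom.mem_ker]
      exact RingHom.mem_ker.1 ((T₀.pre hp).ker.ge (Ideal.mem_map_of_mem _ ha))
  let projE : E →ₐ[k] B₀ :=
    { Ideal.Quotient.lift _ π₂ hkerπ with commutes' := fun c => (T₀.pre hp).pi_algebraMap c }
  have hmem : ∀ m, ((0 : T₀.R), (T.pre hp).μ hp m) ∈ pairs2 T₀ T := fun m => (map_zero T₀.q).trans (T.q_μ hp m).symm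
  let inclE : MJ p (B₀ := B₀) →+ E :=
    { toFun := fun m => Ideal.Quotient.mk _ ⟨(0, (T.pre hp).μ hp m), hmem m⟩
      map_zero' := by
        refine (congrArg _ (Subtype.ext ?_)).trans (map_zero (Ideal.Quotient.mk _))
        change ((0 : T₀.R), (T.pre hp).μ hp 0) = (0, 0)
        rw [map_zero]
      map_add' := fun m n => by
        rw [← map_add]
        exact congrArg _ (Subtype.ext (Prod.ext (add_zero _).symm (map_add _ m n))) }
  have hdiag : ∀ m, Ideal.Quotient.mk (diffIdeal hp T₀ T) ⟨_, mem_pairs2_μ hp T₀ T m m⟩ = 0 := fun m =>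
    Ideal.Quotient.eq_zero_iff_mem.2 (Submodule.mem_sup_left ⟨m, rfl⟩)
  have hext : Exal.IsExtension projE inclE := by
    refine ⟨fun b => ?_, (injective_iff_map_eq_zero _).2 fun n hn => diff_inj hp T₀ T (Ideal.Quotient.eq_zero_iff_mem.1 hn),
      fun z => ⟨fun hz => ?_, ?_⟩, fun z m => ?_⟩
    · obtain ⟨x, rfl⟩ := (T₀.pre hp).surj b
      obtain ⟨y, hy⟩ := T.surj (T₀.q x)
      exact ⟨Ideal.Quotient.mk _ ⟨(x, y), hy.symm⟩, rfl⟩
    · obtain ⟨⟨⟨x, y⟩, hxy⟩, rfl⟩ := Ideal.Quotient.mk_surjective z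
      have hx : x ∈ (maximalIdeal C').map T₀.φ := (T₀.pre hp).ker ▸ (show (T₀.pre hp).π x = 0 from hz)
      rw [show T₀.φ = ((RingHom.fst _ _).comp (pairs2 T₀ T).subtype).comp (φ₂ T₀ T) from RingHom.ext fun _ => rfl,
        ← Ideal.map_map] at hx
      have hsurj : Function.Surjective ((RingHom.fst _ _).comp (pairs2 T₀ T).subtype) := fun x => by
        obtain ⟨y, hy⟩ := T.surj (T₀.q x)
        exact ⟨⟨(x, y), hy.symm⟩, rfl⟩
      obtain ⟨w, hw, hwx⟩ := (Ideal.mem_map_iff_of_surjective _ hsurj).1 hx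
      obtain ⟨n, hn⟩ := T.exists_μ_of_q hp (x := y - w.1.2) (by
        rw [map_sub, ← show T₀.q x = T.q y from hxy, ← show T₀.q w.1.1 = T.q w.1.2 from w.2,
          show w.1.1 = x from hwx, sub_self])
      refine ⟨n, ?_⟩
      change Ideal.Quotient.mk (diffIdeal hp T₀ T) _ = Ideal.Quotient.mk _ _
      rw [Ideal.Quotient.mk_eq_mk_iff_sub_mem, ← neg_mem_iff, neg_sub]
      refine Submodule.mem_sup_right ?_
      convert hw using 1
      refine Subtype.ext (Prod.ext ?_ ?_)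
      · change x - 0 = w.1.1
        rw [sub_zero]; exact hwx.symm
      · change y - (T.pre hp).μ hp n = w.1.2
        rw [hn, sub_sub_cancel]
    · rintro ⟨m, rfl⟩
      exact map_zero (T₀.pre hp).π
    · obtain ⟨⟨⟨x, y⟩, hxy⟩, rfl⟩ := Ideal.Quotient.mk_surjective z
      change Ideal.Quotient.mk (diffIdeal hp T₀ T) (_ * _) = _
      refine congrArg _ (Subtype.ext (Prod.ext (mul_zero x) ?_))
      change y * _ = (T.pre hp).μ hp ((T₀.pre hp).π x • m)
      rw [show (T₀.pre hp).π x = (T.pre hp).π y from congrArg S.π hxy]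
      exact (T.pre hp).μ_smul hp y m
  let X : Exal.Ext k B₀ (MJ p (B₀ := B₀)) := ⟨E, projE, inclE, hext⟩
  choose x₀ hx₀ using fun y => T₀.surj (T.q y)
  have hp' : ∀ (x : T₀.R) (y : T.R) (h : (x, y) ∈ pairs2 T₀ T),
      (x, Ideal.Quotient.mk (diffIdeal hp T₀ T) ⟨(x, y), h⟩) ∈ pairs hp T₀ X := fun x y h => rfl
  let F : ∀ (x : T₀.R) (y : T.R), (x, y) ∈ pairs2 T₀ T → newR hp T₀ X := fun x y h =>
    Ideal.Quotient.mk _ ⟨_, hp' x y h⟩
  have hF : ∀ (x x' : T₀.R) (y : T.R) (h : (x, y) ∈ pairs2 T₀ T) (h' : (x', y) ∈ pairs2 T₀ T), F x y h = F x' y h' := by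
    intro x x' y h h'
    obtain ⟨m, hm⟩ := T₀.exists_μ_of_q hp (x := x - x') (by
      rw [map_sub, show T₀.q x = T.q y from h, show T₀.q x' = T.q y from h', sub_self])
    change Ideal.Quotient.mk _ _ = Ideal.Quotient.mk _ _
    rw [Ideal.Quotient.mk_eq_mk_iff_sub_mem]
    refine ⟨m, Prod.ext hm.symm ?_⟩
    change Ideal.Quotient.mk (diffIdeal hp T₀ T) _ - Ideal.Quotient.mk _ _ = -Ideal.Quotient.mk _ _
    rw [← map_sub, eq_neg_iff_add_eq_zero, ← map_add]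
    refine Eq.trans (congrArg _ (Subtype.ext (Prod.ext ?_ ?_))) (hdiag m)
    · change x - x' + 0 = (T₀.pre hp).μ hp m
      rw [add_zero, hm]
    · change y - y + (T.pre hp).μ hp m = (T.pre hp).μ hp m
      rw [sub_self, zero_add]
  let G : T.R →+* newR hp T₀ X :=
    { toFun := fun y => F (x₀ y) y (hx₀ y)
      map_one' := (hF _ 1 1 _ (one_mem (pairs2 T₀ T))).trans rfl
      map_zero' := (hF _ 0 0 _ (zero_mem (pairs2 T₀ T))).trans rfl
      map_add' := fun a b => by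
        refine (hF _ (x₀ a + x₀ b) _ _ (add_mem (show (x₀ a, a) ∈ pairs2 T₀ T from hx₀ a) (show (x₀ b, b) ∈ pairs2 T₀ T from hx₀ b))).trans ?_
        change _ = Ideal.Quotient.mk (antiDiag hp T₀ X) _ + Ideal.Quotient.mk _ _
        rw [← map_add]
        rfl
      map_mul' := fun a b => by
        refine (hF _ (x₀ a * x₀ b) _ _ (mul_mem (show (x₀ a, a) ∈ pairs2 T₀ T from hx₀ a) (show (x₀ b, b) ∈ pairs2 T₀ T from hx₀ b))).trans ?_
        change _ = Ideal.Quotient.mk (antiDiag hp T₀ X) _ * Ideal.Quotient.mk _ _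
        rw [← map_mul]
        rfl }
  refine ⟨X, Thick.rel_of_hom hp T (new hp T₀ X) G (RingHom.ext fun a => ?_) (RingHom.ext fun y => hx₀ y)⟩
  refine (hF _ (T₀.φ a) _ _ (mem_pairs2_phi T₀ T a)).trans ?_
  change Ideal.Quotient.mk (antiDiag hp T₀ X) _ = Ideal.Quotient.mk (antiDiag hp T₀ X) _
  refine congrArg _ (Subtype.ext (Prod.ext rfl ?_))
  change Ideal.Quotient.mk (diffIdeal hp T₀ T) (φ₂ T₀ T a) = Ideal.Quotient.mk _ (φ₂ T₀ T (algebraMap k C' (C'.res a)))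
  rw [Ideal.Quotient.mk_eq_mk_iff_sub_mem, ← map_sub]
  exact Submodule.mem_sup_right (Ideal.mem_map_of_mem _ (sub_res_mem C' a))

end Groth.Agent.AffDef
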