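import Groth.Agent.AffDef.Basic
import Groth.Agent.FlatFibres.Basic

/-!
# Sections and triviality of affine deformations
-/

universe u

open CategoryTheory AlgebraicGeometry Limits TensorProduct IsLocalRing

noncomputable section

namespace Groth.Agent.AffDef

variable {A : Type u} [CommRing A] [IsLocalRing A] [IsArtinianRing A]

/-- Descending induction on ideals of an Artinian local ring, one socle element at a time. -/
theorem ideal_induction (P : Ideal A → Prop) (h0 : P (maximalIdeal A))
    (step : ∀ (J : Ideal A) (t : A), t ∈ maximalIdeal A → t ∉ J → (∀ a ∈ maximalIdeal A, a * t ∈ J) →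
      J ≤ maximalIdeal A → P (J ⊔ Ideal.span {t}) → P J) :
    ∀ J ≤ maximalIdeal A, P J := by
  intro J
  induction J using WellFoundedGT.induction with
  | _ J ih =>
    intro hJ
    rcases eq_or_lt_of_le hJ with rfl | hlt
    · exact h0
    · obtain ⟨n, hn⟩ : IsNilpotent (maximalIdeal A) := by
        rw [← IsLocalRing.jacobson_eq_maximalIdeal ⊥ bot_ne_top]
        exact IsArtinianRing.isNilpotent_jacobson_bot
      have hex : ∃ t ∈ maximalIdeal A, t ∉ J ∧ ∀ a ∈ maximalIdeal A, a * t ∈ J := by
        by_contra hne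
        push Not at hne
        have hall : ∀ (k : ℕ) (t : A), t ∈ maximalIdeal A → t ∉ J → ∃ y ∈ maximalIdeal A ^ (k + 1), y ∉ J := by
          intro k
          induction k with
          | zero => exact fun t ht htJ => ⟨t, by rwa [pow_one], htJ⟩
          | succ k ihk =>
            intro t ht htJ
            obtain ⟨y, hy, hyJ⟩ := ihk t ht htJ
            obtain ⟨a, ha, hay⟩ := hne y (Ideal.pow_le_self (Nat.succ_ne_zero k) hy) hyJ
            exact ⟨a * y, by rw [pow_succ' _ (k + 1)]; exact Ideal.mul_mem_mul ha hy, hay⟩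
        obtain ⟨t, ht, htJ⟩ := SetLike.exists_of_lt hlt
        obtain ⟨y, hy, hyJ⟩ := hall n t ht htJ
        have : maximalIdeal A ^ (n + 1) = ⊥ := by rw [pow_succ, hn]; simp
        rw [this, Ideal.mem_bot] at hy
        exact hyJ (hy ▸ zero_mem J)
      obtain ⟨t, ht, htJ, htm⟩ := hex
      refine step J t ht htJ htm hJ (ih _ ?_ (sup_le hJ (by simpa [Ideal.span_le] using ht)))
      exact lt_of_le_of_ne le_sup_left fun h => htJ (h.symm ▸ Submodule.mem_sup_right (Ideal.mem_span_singleton_self t))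

variable {B B' B₀ : Type u} [CommRing B] [CommRing B'] [CommRing B₀]

/-- Flatness: `t b ∈ J B` with `t` in the socle of `A/J` forces `b ∈ m B`. -/
lemma mem_map_maximalIdeal (φ : A →+* B) (hφ : φ.Flat) {J : Ideal A} {t : A} (htJ : t ∉ J) {b : B}
    (h : φ t * b ∈ J.map φ) : b ∈ (maximalIdeal A).map φ := by
  algebraize [φ]
  refine Ideal.map_mono ?_ (FlatFibres.mem_map_colon J t b h)
  refine IsLocalRing.le_maximalIdeal fun htop => htJ ?_
  have h1 : (1 : A) ∈ J.colon {t} := htop ▸ Submodule.mem_top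
  rw [Submodule.mem_colon_singleton] at h1
  simpa using h1

/-- A morphism of deformations is bijective. -/
theorem bijective_hom (φ : A →+* B) (φ' : A →+* B') (hflat : φ'.Flat) (π : B →+* B₀) (π' : B' →+* B₀)
    (hπ : Function.Surjective π) (hker : RingHom.ker π = (maximalIdeal A).map φ)
    (hker' : RingHom.ker π' = (maximalIdeal A).map φ')
    (ψ : B →+* B') (hψ : ψ.comp φ = φ') (hψπ : π'.comp ψ = π) : Function.Bijective ψ := by
  have hmapJ : ∀ J : Ideal A, (J.map φ).map ψ = J.map φ' := fun J => by rw [Ideal.map_map, hψ]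
  constructor
  · have key : ∀ J ≤ maximalIdeal A, ∀ x, ψ x ∈ J.map φ' → x ∈ J.map φ := by
      refine ideal_induction (fun J => ∀ x, ψ x ∈ J.map φ' → x ∈ J.map φ) ?_ ?_
      · intro x hx
        rw [← hker, RingHom.mem_ker, ← hψπ, RingHom.comp_apply]
        rw [← hker'] at hx
        exact hx
      · intro J t ht htJ htm hJ ih x hx
        have h1 : x ∈ (J ⊔ Ideal.span {t}).map φ := ih x (Ideal.map_mono le_sup_left hx)
        rw [Ideal.map_sup, Ideal.map_span, Set.image_singleton, Submodule.mem_sup] at h1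
        obtain ⟨u, hu, v, hv, rfl⟩ := h1
        obtain ⟨b, rfl⟩ := Ideal.mem_span_singleton.1 hv
        refine add_mem hu ?_
        have hu' : ψ u ∈ J.map φ' := hmapJ J ▸ Ideal.mem_map_of_mem ψ hu
        rw [map_add, map_mul, ← RingHom.comp_apply ψ φ, hψ] at hx
        have h2 : φ' t * ψ b ∈ J.map φ' := by simpa using sub_mem hx hu'
        have h3 := mem_map_maximalIdeal φ' hflat htJ h2
        rw [← hker', RingHom.mem_ker, ← RingHom.comp_apply, hψπ, ← RingHom.mem_ker, hker] at h3
        have h4 : φ t * b ∈ (Ideal.span {t} * maximalIdeal A).map φ := by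
          rw [Ideal.map_mul, Ideal.map_span, Set.image_singleton]
          exact Ideal.mul_mem_mul (Ideal.mem_span_singleton_self _) h3
        refine Ideal.map_mono ?_ h4
        rw [Ideal.span_singleton_mul_le_iff]
        intro a ha
        rw [mul_comm]
        exact htm a ha
    refine (injective_iff_map_eq_zero ψ).2 fun x hx => ?_
    simpa using key ⊥ bot_le x (by rw [hx]; exact zero_mem _)
  · intro y
    have key : ∀ J ≤ maximalIdeal A, ∀ y, ∃ x, y - ψ x ∈ J.map φ' := by
      refine ideal_induction (fun J => ∀ y, ∃ x, y - ψ x ∈ J.map φ') ?_ ?_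
      · intro y
        obtain ⟨x, hx⟩ := hπ (π' y)
        refine ⟨x, ?_⟩
        rw [← hker', RingHom.mem_ker, map_sub, ← RingHom.comp_apply, hψπ, hx, sub_self]
      · intro J t ht htJ htm hJ ih y
        obtain ⟨x, hx⟩ := ih y
        rw [Ideal.map_sup, Ideal.map_span, Set.image_singleton, Submodule.mem_sup] at hx
        obtain ⟨u, hu, v, hv, huv⟩ := hx
        obtain ⟨c, rfl⟩ := Ideal.mem_span_singleton.1 hv
        obtain ⟨d, hd⟩ := hπ (π' c)
        refine ⟨x + φ t * d, ?_⟩
        have h3 : c - ψ d ∈ (maximalIdeal A).map φ' := by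
          rw [← hker', RingHom.mem_ker, map_sub, ← RingHom.comp_apply, hψπ, hd, sub_self]
        have h4 : φ' t * (c - ψ d) ∈ J.map φ' := by
          refine Ideal.map_mono (Ideal.span_singleton_mul_le_iff.2 fun a ha => by rw [mul_comm]; exact htm a ha) ?_
          rw [Ideal.map_mul, Ideal.map_span, Set.image_singleton]
          exact Ideal.mul_mem_mul (Ideal.mem_span_singleton_self _) h3
        have : y - ψ (x + φ t * d) = u + φ' t * (c - ψ d) := by
          rw [map_add, map_mul, ← RingHom.comp_apply ψ φ, hψ, ← sub_sub, ← huv]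
          ring
        rw [this]
        exact add_mem hu h4
    obtain ⟨x, hx⟩ := key ⊥ bot_le y
    exact ⟨x, (sub_eq_zero.1 (by simpa using hx)).symm⟩

variable {k : Type u} [Field k] [Algebra k A]

/-- A lift `B₀ → B` trivializes the deformation. -/
theorem exists_iso_trivial [Algebra k B₀] (e : A →ₐ[k] k) (Y : Scheme.{u}) (f : Y ⟶ Spec (CommRingCat.of A))
    (i : Spec (CommRingCat.of B₀) ⟶ Y) (φ : A →+* B) (hflat : φ.Flat) (π : B →+* B₀)
    (j : Spec (CommRingCat.of B) ≅ Y) (hjf : j.hom ≫ f = Spec.map (CommRingCat.ofHom φ))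
    (hji : Spec.map (CommRingCat.ofHom π) ≫ j.hom = i)
    (hcomm : π.comp φ = (algebraMap k B₀).comp e.toRingHom)
    (hker : RingHom.ker π = (RingHom.ker e.toRingHom).map φ)
    (s : B₀ →+* B) (hs : π.comp s = RingHom.id B₀) (hsk : s.comp (algebraMap k B₀) = φ.comp (algebraMap k A)) :
    ∃ ψ : Y ≅ pullback (Spec.map (CommRingCat.ofHom (algebraMap k B₀))) (Spec.map (CommRingCat.ofHom (algebraMap k A))),
      ψ.hom ≫ pullback.snd _ _ = f ∧ i ≫ ψ.hom ≫ pullback.fst _ _ = 𝟙 _ ∧
        ψ.hom ≫ pullback.fst _ _ = j.inv ≫ Spec.map (CommRingCat.ofHom s) := by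
  have hes : Function.Surjective e := fun c => ⟨algebraMap k A c, e.commutes c⟩
  have hm : RingHom.ker e.toRingHom = maximalIdeal A :=
    IsLocalRing.eq_maximalIdeal (RingHom.ker_isMaximal_of_surjective _ hes)
  letI : Algebra k B := (φ.comp (algebraMap k A)).toAlgebra
  let sA : B₀ →ₐ[k] B := { s with commutes' := fun c => RingHom.congr_fun hsk c }
  let φA : A →ₐ[k] B := { φ with commutes' := fun c => rfl }
  let μ : B₀ ⊗[k] A →ₐ[k] B := Algebra.TensorProduct.lift sA φA fun _ _ => Commute.all _ _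
  have hμl : ∀ b, μ (b ⊗ₜ[k] 1) = s b := fun b => by simp [μ, sA]
  have hμr : ∀ a, μ (1 ⊗ₜ[k] a) = φ a := fun a => by simp [μ, φA]
  let πA : B →ₐ[k] B₀ :=
    { π with
      commutes' := fun c => by
        change π (φ (algebraMap k A c)) = algebraMap k B₀ c
        rw [← RingHom.comp_apply π φ, hcomm, RingHom.comp_apply]
        exact congrArg _ (e.commutes c) }
  let πT : B₀ ⊗[k] A →ₐ[k] B₀ := πA.comp μ
  let φT : A →+* B₀ ⊗[k] A := (Algebra.TensorProduct.includeRight : A →ₐ[k] B₀ ⊗[k] A).toRingHom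
  have hsπ : ∀ b, π (s b) = b := fun b => RingHom.congr_fun hs b
  have hπT : ∀ b, πT (b ⊗ₜ[k] 1) = b := fun b => (congrArg π (hμl b)).trans (hsπ b)
  have hkT : RingHom.ker πT.toRingHom = (maximalIdeal A).map φT := by
    refine le_antisymm (fun x hx => ?_) (Ideal.map_le_iff_le_comap.2 fun a ha => ?_)
    · have hall : ∀ z : B₀ ⊗[k] A, z - (πT z) ⊗ₜ[k] (1 : A) ∈ (maximalIdeal A).map φT := by
        intro z
        induction z using TensorProduct.induction_on with
        | zero => simp
        | add y z hy hz =>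
          rw [map_add, TensorProduct.add_tmul, add_sub_add_comm]
          exact add_mem hy hz
        | tmul b a =>
          have h1 : (b ⊗ₜ[k] a : B₀ ⊗[k] A) = (b ⊗ₜ[k] 1) * φT a := by simp [φT]
          have h2 : πT (φT a) = algebraMap k B₀ (e a) :=
            (congrArg π (hμr a)).trans (RingHom.congr_fun hcomm a)
          have h3 : (algebraMap k B₀ (e a)) ⊗ₜ[k] (1 : A) = φT (algebraMap k A (e a)) := by
            change _ = (1 : B₀) ⊗ₜ[k] algebraMap k A (e a)
            rw [Algebra.algebraMap_eq_smul_one, Algebra.algebraMap_eq_smul_one, TensorProduct.smul_tmul]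
          rw [h1, map_mul, hπT, h2]
          rw [show (b * algebraMap k B₀ (e a)) ⊗ₜ[k] (1 : A) = (b ⊗ₜ[k] (1 : A)) * ((algebraMap k B₀ (e a)) ⊗ₜ[k] 1) by simp,
            h3, ← mul_sub, ← map_sub]
          refine Ideal.mul_mem_left _ _ (Ideal.mem_map_of_mem _ ?_)
          rw [← hm, RingHom.mem_ker, map_sub]
          change e a - e (algebraMap k A (e a)) = 0
          rw [e.commutes]
          exact sub_self _
      have := hall x
      rw [show πT x = 0 from hx, TensorProduct.zero_tmul, sub_zero] at this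
      exact this
    · change π (μ ((1 : B₀) ⊗ₜ[k] a)) = 0
      rw [hμr, ← RingHom.comp_apply π φ, hcomm, RingHom.comp_apply, show e.toRingHom a = 0 by rw [← RingHom.mem_ker, hm]; exact ha,
        map_zero]
  have hbij : Function.Bijective μ.toRingHom := bijective_hom φT φ hflat πT.toRingHom π
    (fun b => ⟨b ⊗ₜ[k] 1, hπT b⟩) hkT (hm ▸ hker) μ.toRingHom (RingHom.ext hμr) rfl
  let E : CommRingCat.of (B₀ ⊗[k] A) ≅ CommRingCat.of B :=
    (RingEquiv.ofBijective μ.toRingHom hbij).toCommRingCatIso
  let ψ := j.symm ≪≫ Scheme.Spec.mapIso E.op ≪≫ (pullbackSpecIso k B₀ A).symm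
  have hfst : ψ.hom ≫ pullback.fst _ _ = j.inv ≫ Spec.map (CommRingCat.ofHom s) := by
    change (j.inv ≫ Spec.map E.hom ≫ (pullbackSpecIso k B₀ A).inv) ≫ pullback.fst _ _ = _
    rw [Category.assoc, Category.assoc, pullbackSpecIso_inv_fst, ← Spec.map_comp]
    congr 2
    exact CommRingCat.hom_ext (RingHom.ext hμl)
  have hsnd : ψ.hom ≫ pullback.snd _ _ = f := by
    change (j.inv ≫ Spec.map E.hom ≫ (pullbackSpecIso k B₀ A).inv) ≫ pullback.snd _ _ = _
    rw [Category.assoc, Category.assoc, pullbackSpecIso_inv_snd, ← Spec.map_comp, Iso.inv_comp_eq, hjf]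
    congr 1
    exact CommRingCat.hom_ext (RingHom.ext hμr)
  refine ⟨ψ, hsnd, ?_, hfst⟩
  rw [hfst, ← hji, Category.assoc, j.hom_inv_id_assoc, ← Spec.map_comp, ← CommRingCat.ofHom_comp, hs,
    CommRingCat.ofHom_id]
  exact Spec.map_id _

end Groth.Agent.AffDef
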